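import Cfsg.Agent.Lib.SuzM11H6.Main

/-!
# Suzuki type: an element of order three with a large fixed space is conjugate to a rotation

Owner: helper6.
-/

set_option autoImplicit false

open scoped Pointwise

namespace Cfsg.Agent.Lib.SuzM11H6

open Cfsg.Agent.Lib.SuzType52

/-- The plane moved by the rotations of an axis. -/
def planeL : Fin 3 → List ℕ
  | 0 => [3, 13, 14]
  | 1 => [7, 12, 11]
  | 2 => [16, 32, 48]

theorem plane_of_aux : axes.all (fun b => axes.all fun c => axes.all fun d =>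
    decide (axIdx b = axIdx c ∨ axIdx b = axIdx d ∨ axIdx c = axIdx d) ||
      (List.range 64).all fun u => Nat.beq u 0 || !(Nat.beq (el b u) u && Nat.beq (el c u) u) ||
        decide (u ∈ planeL (axIdx d))) = true := by
  decide +kernel

theorem plane_span : ∀ i : Fin 3, ∀ u ∈ planeL i, ∀ w ∈ planeL i, u ≠ w → ∀ d < 64,
    bn d u = false → bn d w = false → ∀ v ∈ planeL i, bn d v = false := by
  decide +kernel

theorem first_plane : ∀ v ∈ [3, 13], v < 64 ∧ v ≠ 0 ∧ el (0, 1, 0) v = v ∧ el (0, 0, 1) v = v := by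
  decide +kernel

/-- The possible actions of order three on the axes. -/
def cubeCases (p q r : Tri) : Prop :=
  let T := lin3 p q r
  T (T p) = (1, 0, 0) → T (T q) = (0, 1, 0) → T (T r) = (0, 0, 1) →
    (p = (1, 0, 0) ∧ q = (0, 1, 0) ∧ r = (0, 0, 1)) ∨
      (axIdx p ≠ 0 ∧ axIdx (T p) ≠ 0 ∧ axIdx p ≠ axIdx (T p) ∧
        ¬ (axIdx q = axIdx r ∨ axIdx q = axIdx p ∨ axIdx r = axIdx p) ∧
        ¬ (axIdx (T q) = axIdx (T r) ∨ axIdx (T q) = axIdx (T p) ∨ axIdx (T r) = axIdx (T p)) ∧
        wt (T p) = 1 ∧ wt (T q) = 1 ∧ wt (T r) = 1)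

instance (p q r : Tri) : Decidable (cubeCases p q r) := by unfold cubeCases; infer_instance

theorem cube_cases_aux : axes.all (fun p => axes.all fun q => axes.all fun r =>
    decide (cubeCases p q r)) = true := by
  decide +kernel

theorem fin3_cover : ∀ a b : Fin 3, a ≠ 0 → b ≠ 0 → a ≠ b → ∀ i : Fin 3, i = 0 ∨ i = a ∨ i = b := by
  decide

theorem axis_key : ∀ m : Tri, wt m = 1 → (m = af ∨ m = -af) ∨ (tp m = af ∨ tp m = -af) ∨
    (tp (ts m) = af ∨ tp (ts m) = -af) := by decide +kernel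

theorem planes_mem : ∀ v ∈ [3, 13, 7, 12, 16, 32], ∃ i : Fin 3, v ∈ planeL i := by decide +kernel

variable {G : Type*} [Group G] {z : G} {Q : Subgroup G} {co : G → ℕ} {ac : G → ℕ → ℕ}
variable {x n : G} {ε : Tri → G} {s : G} (b : Base z Q co ac x n ε s)
include b

/-- A coded fixed space bounds a centraliser in `Q`. -/
theorem Base.card_CQ_le [Finite G] {y : G} (L : List ℕ)
    (h : ∀ q ∈ Q, Commute q y → co q ∈ L) :
    Nat.card {q : G // q ∈ Q ∧ Commute q y} ≤ L.length * 2 := by
  classical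
  have hf := b.duo.fr
  have hco : ∀ q : {q : G // q ∈ Q ∧ Commute q y}, co q.1 < 64 := fun q => hf.co_lt _ q.2.1
  choose rep hrep1 hrep2 using hf.co_surj
  let F : {q : G // q ∈ Q ∧ Commute q y} → L.toFinset × Bool := fun q =>
    (⟨co q.1, List.mem_toFinset.2 (h _ q.2.1 q.2.2)⟩, decide (q.1 = rep (co q.1) (hco q)))
  have hF : Function.Injective F := by
    rintro ⟨q, hq⟩ ⟨r, hr⟩ e
    have e1 : co q = co r := congrArg (fun p => (p.1 : ℕ)) e
    have e2 := congrArg Prod.snd e
    simp only [F, decide_eq_decide] at e2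
    have hrr : rep (co r) (hco ⟨r, hr⟩) = rep (co q) (hco ⟨q, hq⟩) := by congr 1; exact e1.symm
    rw [hrr] at e2
    set p := rep (co q) (hco ⟨q, hq⟩)
    have hpQ : p ∈ Q := hrep1 _ _
    have hp : co p = co q := hrep2 _ _
    apply Subtype.ext
    show q = r
    by_cases hqp : q = p
    · rw [hqp, e2.1 hqp]
    · rcases hf.co_eq hpQ hq.1 hp with k | k
      · exact absurd k hqp
      · rcases hf.co_eq hpQ hr.1 (hp.trans e1) with k' | k'
        · exact absurd (e2.2 k') hqp
        · rw [k, k']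
  refine le_trans (Nat.card_le_card_of_injective F hF) ?_
  rw [Nat.card_prod, Nat.card_eq_fintype_card, Fintype.card_coe, Nat.card_eq_fintype_card,
    Fintype.card_bool]
  exact Nat.mul_le_mul_right 2 L.toFinset_card_le

theorem Base.fixed_co {y : G} (hy : Commute y z) {q : G} (hq : q ∈ Q) (h : Commute q y) :
    ac y (co q) = co q := by
  rw [← b.duo.fr.conj y hy q hq, mul_inv_eq_iff_eq_mul.2 h.symm.eq]

/-- An element of `3`-power order permuting the axes without fixing them has few fixed points. -/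
theorem Base.card_CQ_cycle [Finite G] {y : G} (hy : Commute y z) {T : Tri → Tri}
    (hT : ∀ a, y * ε a * y⁻¹ = ε (T a)) (hy3 : y ^ 3 = 1) (hne : ∃ a, T a ≠ a) :
    Nat.card {q : G // q ∈ Q ∧ Commute q y} ≤ 8 := by
  classical
  have hf := b.duo.fr
  have E := b.eps
  have L := b.loc
  have hTadd : ∀ a c, T (a + c) = T a + T c := fun a c => L.inj _ _ (by
    rw [← hT, L.add a c, L.add (T a), ← hT, ← hT]; group)
  have hT0 : T 0 = 0 := by
    have h := hTadd 0 0
    rw [add_zero] at h
    exact left_eq_add.1 h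
  have hTsmul : ∀ (k : ℕ) a, T (k • a) = k • T a := fun k a => by
    induction k with
    | zero => simp [hT0]
    | succ k ih => rw [succ_nsmul, succ_nsmul, hTadd, ih]
  set p := T (1, 0, 0) with hp
  set q := T (0, 1, 0) with hq
  set r := T (0, 0, 1) with hr
  have hlin : ∀ a, T a = lin3 p q r a := fun a => by
    conv_lhs => rw [tri_decomp a]
    rw [hTadd, hTadd, hTsmul, hTsmul, hTsmul]
    rfl
  have hwt : ∀ a, wt (T a) = wt a := fun a => L.weight y hy a (T a) (hT a)
  have hcube : ∀ a, T (T (T a)) = a := fun a => L.inj _ _ (by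
    rw [← hT, ← hT, ← hT, show y * (y * (y * ε a * y⁻¹) * y⁻¹) * y⁻¹ = y ^ 3 * ε a * (y ^ 3)⁻¹ by
      simp only [pow_succ, pow_zero, one_mul]; group, hy3, one_mul, inv_one, mul_one])
  have hax : ∀ a, wt a = 1 → T a ∈ axes := fun a ha => mem_axes _ ((hwt a).trans ha)
  have key : cubeCases p q r := of_decide_eq_true
    (List.all_eq_true.1 (List.all_eq_true.1 (List.all_eq_true.1 cube_cases_aux p (hax _ wt_axes.1))
      q (hax _ wt_axes.2.1)) r (hax _ wt_axes.2.2))
  rcases key (by rw [← hlin, ← hlin]; exact hcube _) (by rw [← hlin, ← hlin]; exact hcube _)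
      (by rw [← hlin, ← hlin]; exact hcube _) with ⟨e1, e2, e3⟩ | ⟨n1, n2, n3, n4, n5, w1, w2, w3⟩
  · obtain ⟨a, ha⟩ := hne
    exfalso
    refine ha ?_
    rw [hlin, e1, e2, e3]
    exact (tri_decomp a).symm
  simp only [← hlin] at n2 n3 n5 w1 w2 w3
  have hconj : ∀ a, ∀ k < 64, ac y (el a k) = el (T a) (ac y k) := fun a k hk => by
    have e : y * ε a = ε (T a) * y := mul_inv_eq_iff_eq_mul.1 (hT a)
    rw [← (E.im a).2 k hk, ← hf.ac_mul hy (E.im a).1 hk, e, hf.ac_mul (E.im (T a)).1 hy hk,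
      (E.im (T a)).2 _ (hf.ac_lt hy hk)]
  -- the images of the first plane
  have himg : ∀ v ∈ [3, 13], ac y v ∈ planeL (axIdx p) ∧ ac y (ac y v) ∈ planeL (axIdx (T p)) := by
    intro v hv
    obtain ⟨hv64, hv0, hv1, hv2⟩ := first_plane v hv
    have hl := hf.ac_lt hy hv64
    have hne0 : ∀ k < 64, k ≠ 0 → ac y k ≠ 0 := fun k hk h0 e => by
      have := hf.ac_inv hy hk
      rw [e, (hf.iso hy.inv_left).zero] at this
      exact h0 this.symm
    have step : ∀ b c d : Tri, wt b = 1 → wt c = 1 → wt d = 1 →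
        ¬ (axIdx b = axIdx c ∨ axIdx b = axIdx d ∨ axIdx c = axIdx d) →
        ∀ u < 64, u ≠ 0 → el b u = u → el c u = u → u ∈ planeL (axIdx d) := by
      intro b c d hb hc hd hne u hu hu0 e1 e2
      have h1 := List.all_eq_true.1 (List.all_eq_true.1 (List.all_eq_true.1 plane_of_aux b (mem_axes _ hb))
        c (mem_axes _ hc)) d (mem_axes _ hd)
      rw [Bool.or_eq_true, decide_eq_true_eq] at h1
      have h2 := List.all_eq_true.1 (h1.resolve_left hne) u (List.mem_range.2 hu)
      simp only [Bool.or_eq_true, decide_eq_true_eq] at h2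
      rcases h2 with (h2 | h2) | h2
      · exact absurd (Nat.eq_of_beq_eq_true h2) hu0
      · rw [e1, e2] at h2; simp at h2
      · exact h2
    have f1 : el q (ac y v) = ac y v := by rw [hq, ← hconj _ v hv64, hv1]
    have f2 : el r (ac y v) = ac y v := by rw [hr, ← hconj _ v hv64, hv2]
    refine ⟨step q r p ((hwt _).trans wt_axes.2.1) ((hwt _).trans wt_axes.2.2) ((hwt _).trans wt_axes.1)
      n4 _ hl (hne0 v hv64 hv0) f1 f2, ?_⟩
    exact step (T q) (T r) (T p) w2 w3 w1 n5 _ (hf.ac_lt hy hl) (hne0 _ hl (hne0 v hv64 hv0))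
      (by rw [← hconj _ _ hl, f1]) (by rw [← hconj _ _ hl, f2])
  obtain ⟨a3, b3⟩ := himg 3 (by simp)
  obtain ⟨a13, b13⟩ := himg 13 (by simp)
  have hd : ac y 3 ≠ ac y 13 := fun e => by
    have e' := congrArg (ac y⁻¹) e
    rw [hf.ac_inv hy (by norm_num), hf.ac_inv hy (by norm_num)] at e'
    norm_num at e'
  have hd2 : ac y (ac y 3) ≠ ac y (ac y 13) := fun e => by
    have e' := congrArg (ac y⁻¹) e
    rw [hf.ac_inv hy (hf.ac_lt hy (by norm_num)), hf.ac_inv hy (hf.ac_lt hy (by norm_num))] at e'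
    exact hd e'
  -- a fixed code orthogonal to the first plane is zero
  have hzero : ∀ d < 64, ac y d = d → bn d 3 = false → bn d 13 = false → d = 0 := by
    intro d hd64 hfd h3 h13
    have hb : ∀ v < 64, bn d (ac y v) = bn d v := fun v hv => by
      conv_lhs => rw [← hfd]
      exact hf.ac_bn hy hd64 hv
    have c1 := plane_span _ _ a3 _ a13 hd d hd64 (by rw [hb 3 (by norm_num), h3])
      (by rw [hb 13 (by norm_num), h13])
    have c2 := plane_span _ _ b3 _ b13 hd2 d hd64
      (by rw [hb _ (hf.ac_lt hy (by norm_num)), hb 3 (by norm_num), h3])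
      (by rw [hb _ (hf.ac_lt hy (by norm_num)), hb 13 (by norm_num), h13])
    have c0 := plane_span 0 3 (by decide) 13 (by decide) (by decide) d hd64 h3 h13
    refine perp_planes d hd64 (List.all_eq_true.2 fun v hv => ?_)
    obtain ⟨i, hi⟩ := planes_mem v hv
    rcases fin3_cover _ _ n1 n2 n3 i with rfl | rfl | rfl
    · rw [c0 v hi]; rfl
    · rw [c1 v hi]; rfl
    · rw [c2 v hi]; rfl
  set S := (List.range 64).filter fun k => Nat.beq (ac y k) k with hS
  have hSlen : S.length ≤ 4 := by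
    have hnd : S.Nodup := List.nodup_range.filter _
    rw [← List.toFinset_card_of_nodup hnd]
    refine le_trans (Finset.card_le_card_of_injOn (fun k => (bn k 3, bn k 13))
      (t := (Finset.univ : Finset (Bool × Bool))) (fun _ _ => Finset.mem_univ _) ?_) (by simp)
    intro k hk k' hk' e
    simp only [Finset.mem_coe, List.mem_toFinset, hS, List.mem_filter, List.mem_range] at hk hk'
    obtain ⟨e3, e13⟩ := Prod.ext_iff.1 e
    simp only at e3 e13
    have fk := Nat.eq_of_beq_eq_true hk.2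
    have fk' := Nat.eq_of_beq_eq_true hk'.2
    refine Nat.eq_of_xor_eq_zero (hzero _ (xor_lt hk.1 hk'.1)
      (by rw [hf.ac_xor hy hk.1 hk'.1, fk, fk']) ?_ ?_)
    · rw [bn_comm, bn_add (by norm_num) hk.1 hk'.1, bn_comm 3 k, bn_comm 3 k', e3, Bool.xor_self]
    · rw [bn_comm, bn_add (by norm_num) hk.1 hk'.1, bn_comm 13 k, bn_comm 13 k', e13, Bool.xor_self]
  refine le_trans (b.card_CQ_le S fun q hq hc => ?_) (by omega)
  simp only [hS, List.mem_filter, List.mem_range]
  exact ⟨hf.co_lt q hq, by rw [b.fixed_co hy hq hc]; exact Nat.beq_refl _⟩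

/-- An element of order three centralising a large part of `Q` is conjugate to a rotation of one plane. -/
theorem Base.conj_to_f [Finite G]
    (hC : Nat.card (Subgroup.centralizer ({z} : Set G)) = 25920 * 128) {y : G} (hy : Commute y z)
    (hy3 : orderOf y = 3) (hfix : 16 ≤ Nat.card {q : G // q ∈ Q ∧ Commute q y}) :
    ∃ c, c * y * c⁻¹ = ε af ∨ c * y * c⁻¹ = (ε af)⁻¹ := by
  classical
  have : Fact (Nat.Prime 3) := ⟨Nat.prime_three⟩
  have hf := b.duo.fr
  have E := b.eps
  have L := b.loc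
  set C := Subgroup.centralizer ({z} : Set G)
  have hmC : ∀ {c : G}, c ∈ C ↔ Commute c z := fun {c} => Subgroup.mem_centralizer_singleton_iff
  have hEC : E.grp ≤ C := by
    rintro - ⟨a, rfl⟩
    exact hmC.2 (L.cz a)
  set E' := E.grp.subgroupOf C
  have hE'c : Nat.card E' = 27 := by
    rw [Nat.card_congr (Subgroup.subgroupOfEquivOfLe hEC).toEquiv, E.card_grp]
  obtain ⟨R, hER⟩ := (IsPGroup.of_card (p := 3) (n := 3) (by rw [hE'c]; norm_num) :
    IsPGroup 3 E').exists_le_sylow
  have hR : Nat.card (R : Subgroup C) = 81 := by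
    rw [R.card_eq_multiplicity, hC, show 25920 * 128 = 3 ^ 4 * 40960 by norm_num,
      Nat.factorization_mul (by norm_num) (by norm_num), Finsupp.add_apply,
      Nat.prime_three.factorization_pow, Finsupp.single_eq_same,
      Nat.factorization_eq_zero_of_not_dvd (by norm_num : ¬ 3 ∣ 40960)]
    norm_num
  set y0 : C := ⟨y, hmC.2 hy⟩
  obtain ⟨R', hR'⟩ := (IsPGroup.of_card (p := 3) (n := 1) (by
    rw [Nat.card_zpowers, Subgroup.orderOf_mk, hy3]; norm_num) :
    IsPGroup 3 (Subgroup.zpowers y0)).exists_le_sylow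
  obtain ⟨g, hg⟩ := MulAction.exists_smul_eq C R' R
  have hgy : g * y0 * g⁻¹ ∈ (R : Subgroup C) := by
    have h1 : MulAut.conj g • y0 ∈ MulAut.conj g • (R' : Subgroup C) :=
      Subgroup.smul_mem_pointwise_smul y0 (MulAut.conj g) _ (hR' (Subgroup.mem_zpowers y0))
    rw [show MulAut.conj g • (R' : Subgroup C) = ((g • R' : Sylow 3 C) : Subgroup C) from
      (Sylow.coe_subgroup_smul).symm, hg] at h1
    exact h1
  set y1 : G := (g : G) * y * (g : G)⁻¹ with hy1
  have hgz : Commute (g : G) z := hmC.1 g.2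
  have hy1z : Commute y1 z := (hgz.mul_left hy).mul_left hgz.inv_left
  have hy13 : orderOf y1 = 3 := by rw [hy1, conj_orderOf]; exact hy3
  have hy1fix : 16 ≤ Nat.card {q : G // q ∈ Q ∧ Commute q y1} := by
    refine hfix.trans (Nat.card_le_card_of_injective
      (fun q => ⟨(g : G) * q.1 * (g : G)⁻¹, hf.norm _ hgz q.1 q.2.1,
        q.2.2.map (MulAut.conj (g : G)).toMonoidHom⟩) fun q q' e => ?_)
    exact Subtype.ext (mul_left_cancel (mul_right_cancel (congrArg Subtype.val e)))
  -- `y1` normalises `E`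
  have hnorm : ∀ a, ∃ a', y1 * ε a * y1⁻¹ = ε a' := by
    have hidx : (E'.subgroupOf (R : Subgroup C)).index = 3 := by
      have h1 := Subgroup.card_mul_index (E'.subgroupOf (R : Subgroup C))
      rw [Nat.card_congr (Subgroup.subgroupOfEquivOfLe hER).toEquiv, hE'c, hR] at h1
      omega
    have hn : (E'.subgroupOf (R : Subgroup C)).Normal := by
      refine Subgroup.normal_of_index_eq_minFac_card ?_
      rw [hidx, hR]
      norm_num
    intro a
    have hmem : (⟨⟨ε a, hmC.2 (L.cz a)⟩, hER (show ε a ∈ E.grp from ⟨a, rfl⟩)⟩ : (R : Subgroup C)) ∈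
        E'.subgroupOf (R : Subgroup C) := ⟨a, rfl⟩
    obtain ⟨a', ha'⟩ := hn.conj_mem _ hmem ⟨_, hgy⟩
    exact ⟨a', ha'.symm⟩
  choose T hT using hnorm
  by_cases hmove : ∃ a, T a ≠ a
  · exfalso
    have := b.card_CQ_cycle hy1z hT (by rw [← hy13, pow_orderOf_eq_one]) hmove
    omega
  push Not at hmove
  have hcom : ∀ a, Commute y1 (ε a) := fun a => by
    have h1 := hT a
    rw [hmove] at h1
    exact mul_inv_eq_iff_eq_mul.1 h1
  obtain ⟨m, t, i, hmti⟩ := L.cD y1 hy1z (hcom af) (hcom ag)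
  have ht : t = false := by
    cases t
    · rfl
    · exfalso
      have e := mul_inv_eq_iff_eq_mul.2 (hcom (1, 0, 0)).eq
      rw [hmti, show ε m * pw s true * pw z i * ε (1, 0, 0) * (ε m * pw s true * pw z i)⁻¹ =
        ε m * (s * (pw z i * ε (1, 0, 0) * (pw z i)⁻¹) * s⁻¹) * (ε m)⁻¹ by
          simp only [pw, cond_true]; group] at e
      have hzc : pw z i * ε (1, 0, 0) * (pw z i)⁻¹ = ε (1, 0, 0) := by
        cases i
        · simp [pw]
        · exact mul_inv_eq_iff_eq_mul.2 (L.cz _).symm.eq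
      rw [hzc, L.sconj, mul_inv_eq_iff_eq_mul.2 (E.comm m _).eq] at e
      exact e0_moved.1 (L.inj _ _ e)
  subst ht
  have hi : i = false := by
    cases i
    · rfl
    · exfalso
      have h3 : y1 ^ 3 = 1 := by rw [← hy13, pow_orderOf_eq_one]
      rw [hmti, show ε m * pw s false * pw z true = ε m * z by simp [pw], (L.cz m).mul_pow,
        E.cube, one_mul, pow_succ, pow_two, hf.es.sq, one_mul] at h3
      exact hf.es.ne h3
  subst hi
  have hy1m : y1 = ε m := by rw [hmti]; simp [pw]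
  have hm0 : m ≠ 0 := fun h => by
    rw [hy1m, h, E.zero, orderOf_one] at hy13
    norm_num at hy13
  have hw : wt m = 1 := by
    by_contra hw
    have hlen : ((List.range 64).filter fun k => Nat.beq (el m k) k).length ≤ 4 := by
      have := nfix_el m hm0
      rw [if_neg hw] at this
      unfold nfix at this
      split at this <;> omega
    have := b.card_CQ_le (y := y1) ((List.range 64).filter fun k => Nat.beq (el m k) k) fun q hq hc => by
      simp only [List.mem_filter, List.mem_range]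
      refine ⟨hf.co_lt q hq, ?_⟩
      rw [(E.commute_iff hq m).1 (hy1m ▸ hc).symm]
      exact Nat.beq_refl _
    omega
  obtain ⟨pp, hpz, hpp⟩ := L.perm12
  have finish : ∀ d : G, ∀ m', (m' = af ∨ m' = -af) → d * y1 * d⁻¹ = ε m' →
      ∃ c, c * y * c⁻¹ = ε af ∨ c * y * c⁻¹ = (ε af)⁻¹ := by
    intro d m' hm' e
    refine ⟨d * g, ?_⟩
    rw [show d * g * y * (d * g)⁻¹ = d * y1 * d⁻¹ by rw [hy1]; group, e]
    rcases hm' with rfl | rfl
    · exact Or.inl rfl
    · exact Or.inr (E.neg af)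
  rcases axis_key m hw with k | k | k
  · exact finish 1 m k (by rw [hy1m]; group)
  · exact finish pp _ k (by rw [hy1m, hpp])
  · refine finish (pp * s) _ k ?_
    rw [hy1m, show pp * s * ε m * (pp * s)⁻¹ = pp * (s * ε m * s⁻¹) * pp⁻¹ by group, L.sconj, hpp]

end Cfsg.Agent.Lib.SuzM11H6
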