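import Cfsg.Agent.Lib.SuzM11H6.Fusion
import Cfsg.Agent.Lib.RankOne.Involution

/-!
# Suzuki type: the elementary abelian group of order `3 ^ 5`

`C(D) = A : T`, and `A` is self-centralising and elementary abelian.

Owner: helper6.
-/

set_option autoImplicit false

namespace Cfsg.Agent.Lib.SuzM11H6

open Cfsg.Agent.Lib.SuzType52 (pw pw_mul)
open scoped Cfsg.Agent.Lib.SuzM11H6

variable {G : Type*} [Group G] {z s : G} {ε : Tri → G}

/-- The odd part of `C(D)`. -/
def bigA (ε : Tri → G) : Subgroup G := Subgroup.closure {c | c ∈ cenD ε ∧ Odd (orderOf c)}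

theorem conj_orderOf (g a : G) : orderOf (g * a * g⁻¹) = orderOf a :=
  orderOf_injective (MulAut.conj g).toMonoidHom (MulAut.conj g).injective a

theorem e0_moved : ts ((1, 0, 0) : Tri) ≠ (1, 0, 0) ∧ ¬ inD ((1, 0, 0) : Tri) := by decide +kernel

theorem tri_sub : ∀ m : Tri, m - ts m = 0 → ts m = m := by decide +kernel

theorem card_inD : Fintype.card {a : Tri // inD a} = 9 := by decide +kernel

/-- Burnside's transfer theorem with a four-group. -/
theorem burnside_four {C : Type*} [Group C] [Finite C] (S : Sylow 2 C) (hS : Nat.card (S : Subgroup C) = 4)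
    (hP : Subgroup.normalizer ((S : Subgroup C) : Set C) ≤ Subgroup.centralizer ((S : Subgroup C) : Set C)) :
    ∃ K : Subgroup C, K.Normal ∧ Odd (Nat.card K) ∧ Subgroup.IsComplement' K (S : Subgroup C) ∧
      ∀ c : C, c ∈ K ↔ Odd (orderOf c) := by
  have : Fact (Nat.Prime 2) := ⟨Nat.prime_two⟩
  have hcomp := MonoidHom.ker_transferSylow_isComplement' S hP
  have hn := MonoidHom.normal_ker (MonoidHom.transferSylow S hP)
  generalize (MonoidHom.transferSylow S hP).ker = K at hcomp hn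
  have hcardC := hcomp.card_mul_card
  have hKodd : Odd (Nat.card K) := by
    have h1 := Subgroup.card_mul_index (S : Subgroup C)
    have h2 := S.not_dvd_index
    rw [← hcardC, hS] at h1
    have : (S : Subgroup C).index = Nat.card K := by omega
    rw [this] at h2
    exact Nat.odd_iff.2 (Nat.two_dvd_ne_zero.1 h2)
  have hidx : K.index = 4 := by
    have h1 := Subgroup.card_mul_index K
    rw [← hcardC, hS] at h1
    exact Nat.eq_of_mul_eq_mul_left Nat.card_pos h1
  refine ⟨K, hn, hKodd, hcomp, fun c => ⟨fun hc => ?_, fun hc => ?_⟩⟩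
  · exact hKodd.of_dvd_nat (by
      rw [← Subgroup.orderOf_mk c hc]
      exact orderOf_dvd_natCard _)
  · have h4 : c ^ 4 ∈ K := hidx ▸ Subgroup.pow_index_mem K c
    obtain ⟨m, hm⟩ := exists_pow_eq_self_of_coprime (x := c) (n := 4)
      (Nat.Coprime.pow_left 2 (Nat.coprime_two_left.2 hc))
    rw [← hm]
    exact pow_mem h4 m

namespace Loc

variable (L : Loc z s ε) [Finite G]
include L

/-- Elements of `C(D)` normalising the four-group centralise it. -/
theorem four_centralised {y : G} (hy : y ∈ cenD ε) (hn : ∀ c ∈ L.four, y * c * y⁻¹ ∈ L.four) :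
    Commute y z ∧ Commute y s := by
  obtain ⟨d1, d2, d3⟩ := L.distinct
  have inj : ∀ {a b : G}, y * a * y⁻¹ = y * b * y⁻¹ → a = b := fun h =>
    mul_left_cancel (mul_right_cancel h)
  have hyz : y * z * y⁻¹ = z := by
    by_contra hne
    have hcase : y * z * y⁻¹ = s ∨ y * z * y⁻¹ = s * z := by
      rcases L.four_cases (hn z L.z_four) with a | a | a | a
      · exact absurd (inj (a.trans (by group : (1 : G) = y * 1 * y⁻¹))) L.z1
      · exact absurd a hne
      · exact Or.inl a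
      · exact Or.inr a
    have ht : y * s * y⁻¹ = z ∨ y * (s * z) * y⁻¹ = z := by
      obtain ⟨t, ht⟩ : ∃ t, t ∈ L.four ∧ y * t * y⁻¹ = z := by
        have hm : L.four.map (MulAut.conj y).toMonoidHom = L.four := by
          refine Subgroup.eq_of_le_of_card_ge (by rintro _ ⟨c, hc, rfl⟩; exact hn c hc) ?_
          rw [Subgroup.card_map_of_injective (MulAut.conj y).injective]
        obtain ⟨t, ht, e⟩ : z ∈ L.four.map (MulAut.conj y).toMonoidHom := hm.symm ▸ L.z_four
        exact ⟨t, ht, e⟩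
      rcases L.four_cases ht.1 with rfl | rfl | rfl | rfl
      · exact absurd ht.2 (by simpa using (Ne.symm L.z1))
      · exact absurd ht.2 hne
      · exact Or.inl ht.2
      · exact Or.inr ht.2
    refine L.g_moved hcase ht (Or.inl rfl) ?_
    exact mul_inv_eq_iff_eq_mul.2 (L.mem_cenD.1 hy).2.eq
  have hz : Commute y z := mul_inv_eq_iff_eq_mul.1 hyz
  refine ⟨hz, ?_⟩
  obtain ⟨m, τ, hτ, rfl⟩ := L.cenD_z hy hz
  have hτs : Commute τ s := by
    rcases L.four_cases hτ with e | e | e | e <;> rw [e]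
    · exact Commute.one_left s
    · exact L.sz.symm
    · exact (Commute.refl s).mul_left L.sz.symm
  have h1 := hn s L.s_four
  rw [show ε m * τ * s * (ε m * τ)⁻¹ = ε m * (τ * s * τ⁻¹) * (ε m)⁻¹ by group,
    mul_inv_eq_iff_eq_mul.2 hτs.eq] at h1
  have e : ε m * s * (ε m)⁻¹ = ε (m - ts m) * s := by
    rw [sub_eq_add_neg, L.add, L.neg, ← L.sconj m]
    group
  rw [e] at h1
  have h2 : ε (m - ts m) ∈ L.four := by
    have := mul_mem h1 (inv_mem L.s_four)
    rwa [mul_inv_cancel_right] at this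
  have h3 : ε (m - ts m) = 1 := by
    have h4 : (⟨_, h2⟩ : L.four) ^ Nat.card L.four = 1 := pow_card_eq_one'
    rw [L.card_four] at h4
    have h5 : ε (m - ts m) ^ 4 = 1 := congrArg Subtype.val h4
    have := pow_gcd_eq_one.2 ⟨L.cube (m - ts m), h5⟩
    rwa [show Nat.gcd 3 4 = 1 by norm_num, pow_one] at this
  have hm := tri_sub m (L.inj _ _ (h3.trans L.zero.symm))
  exact (L.s_comm ((ts_fixed m).1 hm)).symm.mul_left hτs

/-- `C(D) = A : T`. -/
theorem bigA_spec : bigA ε ≤ cenD ε ∧ Odd (Nat.card (bigA ε)) ∧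
    (∀ c, c ∈ cenD ε → ∃ a ∈ bigA ε, ∃ τ ∈ L.four, c = a * τ) ∧
    (∀ c ∈ bigA ε, c ∈ L.four → c = 1) ∧ (∀ c ∈ cenD ε, Odd (orderOf c) → c ∈ bigA ε) ∧
    (∀ c ∈ cenD ε, ∀ a ∈ bigA ε, c * a * c⁻¹ ∈ bigA ε) := by
  have : Fact (Nat.Prime 2) := ⟨Nat.prime_two⟩
  set C := cenD ε with hC
  set T := L.four.subgroupOf C with hT
  have hT4 : Nat.card T = 4 :=
    (Nat.card_congr (Subgroup.subgroupOfEquivOfLe L.four_le).toEquiv).trans L.card_four
  obtain ⟨S, hS⟩ := (IsPGroup.of_card (n := 2) hT4 : IsPGroup 2 T).exists_le_sylow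
  have hST : (S : Subgroup C) = T := by
    have h1 := L.four_max (S.2.map C.subtype) (fun c hc => ⟨⟨c, L.four_le hc⟩, hS hc, rfl⟩)
      (Subgroup.map_subtype_le _)
    rw [hT, ← h1, Subgroup.subgroupOf, Subgroup.comap_map_eq_self_of_injective C.subtype_injective]
  have hP : Subgroup.normalizer ((S : Subgroup C) : Set C) ≤
      Subgroup.centralizer ((S : Subgroup C) : Set C) := by
    intro y hy
    rw [hST] at hy ⊢
    obtain ⟨hz, hs⟩ := L.four_centralised y.2 fun c hc =>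
      (Subgroup.mem_normalizer_iff.1 hy ⟨c, L.four_le hc⟩).1 hc
    refine Subgroup.mem_centralizer_iff.2 fun c hc => Subtype.ext ?_
    rcases L.four_cases (Subgroup.mem_subgroupOf.1 hc) with e | e | e | e <;>
      show (c : G) * y = (y : G) * c <;> rw [e]
    · simp
    · exact hz.eq.symm
    · exact hs.eq.symm
    · exact (hs.mul_right hz).eq.symm
  obtain ⟨K, hKn, hKodd, hcomp, hmemK⟩ := burnside_four S (by rw [hST, hT4]) hP
  have hA : bigA ε = K.map C.subtype := by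
    refine le_antisymm ((Subgroup.closure_le _).2 ?_) ?_
    · rintro c ⟨hc, hodd⟩
      exact ⟨⟨c, hc⟩, (hmemK _).2 (by rwa [← Subgroup.orderOf_coe]), rfl⟩
    · rintro _ ⟨c, hc, rfl⟩
      refine Subgroup.subset_closure ⟨c.2, ?_⟩
      have := (hmemK c).1 hc
      rwa [← Subgroup.orderOf_coe] at this
  rw [hA]
  refine ⟨Subgroup.map_subtype_le _, ?_, fun c hc => ?_, ?_, fun c hc hodd => ?_, fun c hc => ?_⟩
  · rw [Subgroup.card_map_of_injective C.subtype_injective]
    exact hKodd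
  · obtain ⟨⟨a, τ⟩, h, -⟩ := hcomp.existsUnique (⟨c, hc⟩ : C)
    have hτ : (τ : C) ∈ T := by rw [← hST]; exact τ.2
    exact ⟨_, ⟨a.1, a.2, rfl⟩, _, hτ, (congrArg Subtype.val h).symm⟩
  · rintro _ ⟨c, hc, rfl⟩ hcT
    have hcS : c ∈ (S : Subgroup C) := by rw [hST]; exact hcT
    have := Subgroup.disjoint_def.1 hcomp.disjoint hc hcS
    rw [this]; rfl
  · exact ⟨⟨c, hc⟩, (hmemK _).2 (by rwa [← Subgroup.orderOf_coe]), rfl⟩
  · rintro _ ⟨a, ha, rfl⟩
    exact ⟨⟨c, hc⟩ * a * ⟨c, hc⟩⁻¹, hKn.conj_mem a ha _, rfl⟩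

theorem conj_bigA {k : G} (hk : ∀ a, inD a → ∃ a', inD a' ∧ k * ε a * k⁻¹ = ε a') {a : G}
    (ha : a ∈ bigA ε) : k * a * k⁻¹ ∈ bigA ε := by
  revert a
  suffices h : bigA ε ≤ (bigA ε).comap (MulAut.conj k).toMonoidHom from fun {a} ha => h ha
  refine (Subgroup.closure_le _).2 fun a ha => Subgroup.subset_closure ⟨?_, ?_⟩
  · exact L.conj_cenD (L.norm_inv hk) ha.1
  · show Odd (orderOf (k * a * k⁻¹))
    rw [conj_orderOf]
    exact ha.2

theorem eps_bigA (m : Tri) : ε m ∈ bigA ε := by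
  refine Subgroup.subset_closure ⟨L.eps_cenD m, ?_⟩
  have h := orderOf_dvd_of_pow_eq_one (L.cube m)
  rcases (Nat.dvd_prime Nat.prime_three).1 h with e | e <;> rw [e] <;> decide

theorem bigA_z {a : G} (ha : a ∈ bigA ε) : Commute a z ↔ ∃ m, a = ε m := by
  refine ⟨fun h => ?_, fun ⟨m, e⟩ => e ▸ L.cz m⟩
  obtain ⟨m, τ, hτ, rfl⟩ := L.cenD_z (L.bigA_spec.1 ha) h
  have hτA : τ ∈ bigA ε := by
    have := mul_mem (inv_mem (L.eps_bigA m)) ha
    rwa [inv_mul_cancel_left] at this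
  rw [L.bigA_spec.2.2.2.1 τ hτA hτ]
  exact ⟨m, mul_one _⟩

theorem conj_z_bigA {a : G} (ha : a ∈ bigA ε) : z * a * z⁻¹ ∈ bigA ε :=
  L.bigA_spec.2.2.2.2.2 z L.z_cenD a ha

theorem conj_s_bigA {a : G} (ha : a ∈ bigA ε) : s * a * s⁻¹ ∈ bigA ε :=
  L.bigA_spec.2.2.2.2.2 s L.s_cenD a ha

theorem card_cent_z : Nat.card ↥(bigA ε ⊓ Subgroup.centralizer ({z} : Set G)) = 27 := by
  have hb : Function.Bijective (fun m : Tri => (⟨ε m, L.eps_bigA m,
      Subgroup.mem_centralizer_singleton_iff.2 (L.cz m)⟩ : ↥(bigA ε ⊓ Subgroup.centralizer ({z} : Set G)))) := by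
    refine ⟨fun a b h => L.inj _ _ (congrArg Subtype.val h), fun ⟨a, ha, hc⟩ => ?_⟩
    obtain ⟨m, e⟩ := (L.bigA_z ha).1 (Subgroup.mem_centralizer_singleton_iff.1 hc)
    exact ⟨m, Subtype.ext e.symm⟩
  rw [← Nat.card_congr (Equiv.ofBijective _ hb)]
  simp

theorem card_cent_move {k t : G} (hk : ∀ a, inD a → ∃ a', inD a' ∧ k * ε a * k⁻¹ = ε a')
    (ht : k * t * k⁻¹ = z) : Nat.card ↥(bigA ε ⊓ Subgroup.centralizer ({t} : Set G)) = 27 := by
  have hcard : Nat.card ↥((bigA ε ⊓ Subgroup.centralizer ({t} : Set G)).map (MulAut.conj k).toMonoidHom) =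
      Nat.card ↥(bigA ε ⊓ Subgroup.centralizer ({t} : Set G)) :=
    Subgroup.card_map_of_injective (MulAut.conj k).injective
  rw [← L.card_cent_z, ← hcard]
  refine congrArg (fun H : Subgroup G => Nat.card H) ?_
  ext c
  constructor
  · rintro ⟨a, ⟨ha, hat⟩, rfl⟩
    refine ⟨L.conj_bigA hk ha, Subgroup.mem_centralizer_singleton_iff.2 ?_⟩
    have := Commute.map (show Commute a t from Subgroup.mem_centralizer_singleton_iff.1 hat) (MulAut.conj k).toMonoidHom
    change Commute (k * a * k⁻¹) (k * t * k⁻¹) at this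
    rwa [ht] at this
  · rintro ⟨hc, hcz⟩
    refine ⟨k⁻¹ * c * k, ⟨?_, Subgroup.mem_centralizer_singleton_iff.2 ?_⟩, ?_⟩
    · have := L.conj_bigA (k := k⁻¹) (fun a ha => by
        obtain ⟨a', ha', e⟩ := L.norm_inv hk a ha
        exact ⟨a', ha', by rwa [inv_inv]⟩) hc
      rwa [inv_inv] at this
    · have := Commute.map (show Commute c z from Subgroup.mem_centralizer_singleton_iff.1 hcz) (MulAut.conj k⁻¹).toMonoidHom
      change Commute (k⁻¹ * c * k⁻¹⁻¹) (k⁻¹ * z * k⁻¹⁻¹) at this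
      rwa [inv_inv, show k⁻¹ * z * k = t by rw [← ht]; group] at this
    · show k * (k⁻¹ * c * k) * k⁻¹ = c
      group

theorem card_cent_zs :
    Nat.card ↥(bigA ε ⊓ Subgroup.centralizer ({z} : Set G) ⊓ Subgroup.centralizer ({s} : Set G)) = 9 := by
  have hb : Function.Bijective (fun m : {a : Tri // inD a} => (⟨ε m.1, ⟨L.eps_bigA m.1,
      Subgroup.mem_centralizer_singleton_iff.2 (L.cz m.1)⟩,
      Subgroup.mem_centralizer_singleton_iff.2 (L.s_comm m.2).symm⟩ :
      ↥(bigA ε ⊓ Subgroup.centralizer ({z} : Set G) ⊓ Subgroup.centralizer ({s} : Set G)))) := by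
    refine ⟨fun a b h => Subtype.ext (L.inj _ _ (congrArg Subtype.val h)), fun ⟨a, ⟨ha, hz⟩, hs⟩ => ?_⟩
    obtain ⟨m, rfl⟩ := (L.bigA_z ha).1 (Subgroup.mem_centralizer_singleton_iff.1 hz)
    have hm : inD m := by
      refine (ts_fixed m).1 (L.inj _ _ ?_)
      rw [← L.sconj, mul_inv_eq_iff_eq_mul]
      exact (Subgroup.mem_centralizer_singleton_iff.1 hs).symm
    exact ⟨⟨m, hm⟩, rfl⟩
  rw [← Nat.card_congr (Equiv.ofBijective _ hb), Nat.card_eq_fintype_card, card_inD]

theorem card_cent_s : Nat.card ↥(bigA ε ⊓ Subgroup.centralizer ({s} : Set G)) = 27 := by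
  obtain ⟨k, hks, -, hkD⟩ := L.swap
  exact L.card_cent_move hkD hks

theorem card_cent_sz : Nat.card ↥(bigA ε ⊓ Subgroup.centralizer ({s * z} : Set G)) = 27 := by
  obtain ⟨k, hks, -, hkD⟩ := L.swap'
  exact L.card_cent_move hkD hks

/-- Brauer–Wielandt for the four-group. -/
theorem card_bigA : Nat.card (bigA ε) = 243 := by
  have h := Goldschmidt53.RankTwoBad.brauer_wielandt (bigA ε) L.bigA_spec.2.1 L.zsq L.ssq L.sz.eq.symm
    (fun k hk => L.conj_z_bigA hk) (fun k hk => L.conj_s_bigA hk)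
  rw [L.card_cent_zs, L.card_cent_z, L.card_cent_s, L.sz.eq.symm, L.card_cent_sz] at h
  omega

/-- A subgroup normalised by the four-group containing the three centralisers contains `A`. -/
theorem bigA_le {M : Subgroup G}
    (h1 : ∀ a ∈ bigA ε, Commute a z → a ∈ M) (h2 : ∀ a ∈ bigA ε, Commute a s → a ∈ M)
    (h3 : ∀ a ∈ bigA ε, Commute a (s * z) → a ∈ M) : bigA ε ≤ M :=
  RankOne.Involution.le_of_four_group L.bigA_spec.2.1 L.ssq L.zsq L.sz.eq
    (fun _ h => L.conj_s_bigA h) (fun _ h => L.conj_z_bigA h)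
    (fun a ha e => h2 a ha (mul_inv_eq_iff_eq_mul.1 e).symm)
    (fun a ha e => h1 a ha (mul_inv_eq_iff_eq_mul.1 e).symm)
    (fun a ha e => h3 a ha (mul_inv_eq_iff_eq_mul.1 e).symm)

/-- The three centralisers are transitively permuted by elements normalising `A` and `D`. -/
theorem exists_to_z {t : G} (ht : t = z ∨ t = s ∨ t = s * z) : ∃ k : G,
    k * t * k⁻¹ = z ∧ ∀ a, inD a → ∃ a', inD a' ∧ k * ε a * k⁻¹ = ε a' := by
  rcases ht with rfl | rfl | rfl
  · exact ⟨1, by group, fun a ha => ⟨a, ha, by group⟩⟩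
  · obtain ⟨k, h1, -, h2⟩ := L.swap; exact ⟨k, h1, h2⟩
  · obtain ⟨k, h1, -, h2⟩ := L.swap'; exact ⟨k, h1, h2⟩

/-- The centralisers are abelian of exponent three. -/
theorem cent_abelian {t : G} (ht : t = z ∨ t = s ∨ t = s * z) {a b : G} (ha : a ∈ bigA ε)
    (hb : b ∈ bigA ε) (hat : Commute a t) (hbt : Commute b t) : Commute a b ∧ a ^ 3 = 1 := by
  obtain ⟨k, hkt, hk⟩ := L.exists_to_z ht
  have h : ∀ {c}, c ∈ bigA ε → Commute c t → ∃ m, k * c * k⁻¹ = ε m := fun {c} hc hct => by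
    refine (L.bigA_z (L.conj_bigA hk hc)).1 ?_
    have := hct.map (MulAut.conj k).toMonoidHom
    change Commute (k * c * k⁻¹) (k * t * k⁻¹) at this
    rwa [hkt] at this
  obtain ⟨m, hm⟩ := h ha hat
  obtain ⟨m', hm'⟩ := h hb hbt
  constructor
  · have h1 : Commute (k * a * k⁻¹) (k * b * k⁻¹) := by rw [hm, hm']; exact L.comm m m'
    exact h1.of_map (f := (MulAut.conj k).toMonoidHom) (MulAut.conj k).injective
  · have h1 : (k * a * k⁻¹) ^ 3 = 1 := by rw [hm]; exact L.cube m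
    have h2 : (MulAut.conj k).toMonoidHom (a ^ 3) = 1 := by rw [map_pow]; exact h1
    exact (MulAut.conj k).injective (h2.trans (map_one _).symm)

theorem bigA_D_central {a : G} (ha : a ∈ bigA ε) {m : Tri} (hm : inD m) : Commute a (ε m) :=
  L.commute_D (L.mem_cenD.1 (L.bigA_spec.1 ha)).1 (L.mem_cenD.1 (L.bigA_spec.1 ha)).2 hm

/-- Two involutions of the four-group fix only `D`. -/
theorem inD_of_two {t t' a : G} (ht : t = z ∨ t = s ∨ t = s * z) (ht' : t' = z ∨ t' = s ∨ t' = s * z)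
    (hne : t ≠ t') (ha : a ∈ bigA ε) (h : Commute a t) (h' : Commute a t') :
    ∃ m, inD m ∧ a = ε m := by
  have hz : Commute a z ∧ Commute a s := by
    rcases ht with rfl | rfl | rfl <;> rcases ht' with rfl | rfl | rfl
    all_goals first
      | exact absurd rfl hne
      | exact ⟨h, h'⟩
      | exact ⟨h', h⟩
      | (refine ⟨h, ?_⟩; have := h'.mul_right h; rwa [mul_assoc, L.zsq, mul_one] at this)
      | (refine ⟨h', ?_⟩; have := h.mul_right h'; rwa [mul_assoc, L.zsq, mul_one] at this)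
      | (refine ⟨?_, h⟩; have := h.mul_right h'; rwa [← mul_assoc, L.ssq, one_mul] at this)
      | (refine ⟨?_, h'⟩; have := h'.mul_right h; rwa [← mul_assoc, L.ssq, one_mul] at this)
  obtain ⟨m, rfl⟩ := (L.bigA_z ha).1 hz.1
  refine ⟨m, (ts_fixed m).1 (L.inj _ _ ?_), rfl⟩
  rw [← L.sconj, mul_inv_eq_iff_eq_mul]
  exact hz.2.eq.symm

theorem D_card_nine {t : G} (ht : t = z ∨ t = s ∨ t = s * z) {R : Subgroup G}
    (hR : R ≤ bigA ε ⊓ Subgroup.centralizer ({t} : Set G)) (hDR : ∀ m, inD m → ε m ∈ R)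
    (hne : ∃ a ∈ R, ¬ ∃ m, inD m ∧ a = ε m) :
    R = bigA ε ⊓ Subgroup.centralizer ({t} : Set G) := by
  have h27 : Nat.card ↥(bigA ε ⊓ Subgroup.centralizer ({t} : Set G)) = 27 := by
    rcases ht with rfl | rfl | rfl
    · exact L.card_cent_z
    · exact L.card_cent_s
    · exact L.card_cent_sz
  refine Subgroup.eq_of_le_of_card_ge hR ?_
  rw [h27]
  have hdvd := Subgroup.card_dvd_of_le hR
  rw [h27] at hdvd
  have h10 : 9 < Nat.card R := by
    classical
    obtain ⟨a, ha, hna⟩ := hne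
    have hinj : Function.Injective (fun o : Option {m : Tri // inD m} =>
        (match o with | none => ⟨a, ha⟩ | some m => ⟨ε m.1, hDR m.1 m.2⟩ : R)) := by
      rintro (_ | m) (_ | m') h
      · rfl
      · exact absurd ⟨m'.1, m'.2, congrArg Subtype.val h⟩ hna
      · exact absurd ⟨m.1, m.2, (congrArg Subtype.val h).symm⟩ hna
      · exact congrArg some (Subtype.ext (L.inj _ _ (congrArg Subtype.val h)))
    have := Nat.card_le_card_of_injective _ hinj
    rw [Nat.card_eq_fintype_card (α := Option _), Fintype.card_option, card_inD] at this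
    omega
  obtain ⟨i, hi, e⟩ := (Nat.dvd_prime_pow Nat.prime_three).1 (show Nat.card R ∣ 3 ^ 3 from hdvd)
  interval_cases i <;> omega

theorem bigA_comm : ∀ a ∈ bigA ε, ∀ b ∈ bigA ε, Commute a b := by
  classical
  have : Fact (Nat.Prime 3) := ⟨Nat.prime_three⟩
  -- the preimage of the centre of `A / D`
  let N2 : Subgroup G :=
    { carrier := {a | a ∈ bigA ε ∧ ∀ x ∈ bigA ε, ∃ m, inD m ∧ a * x = x * a * ε m}
      one_mem' := ⟨one_mem _, fun x _ => ⟨0, rfl, by rw [L.zero]; simp⟩⟩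
      mul_mem' := by
        rintro a b ⟨ha, ha'⟩ ⟨hb, hb'⟩
        refine ⟨mul_mem ha hb, fun x hx => ?_⟩
        obtain ⟨m, hm, e⟩ := ha' x hx
        obtain ⟨m', hm', e'⟩ := hb' x hx
        refine ⟨m + m', by simp only [inD, Prod.fst_add, Prod.snd_add] at *; rw [hm, hm'], ?_⟩
        calc a * b * x = (a * x) * b * ε m' := by rw [mul_assoc a b, e']; group
          _ = x * a * (ε m * b) * ε m' := by rw [e]; group
          _ = x * a * (b * ε m) * ε m' := by rw [(L.bigA_D_central hb hm).eq]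
          _ = x * (a * b) * ε (m + m') := by rw [L.add]; group
      inv_mem' := by
        rintro a ⟨ha, ha'⟩
        refine ⟨inv_mem ha, fun x hx => ?_⟩
        obtain ⟨m, hm, e⟩ := ha' x hx
        refine ⟨-m, inD_neg m hm, ?_⟩
        calc a⁻¹ * x = a⁻¹ * (x * a * ε m) * (ε m)⁻¹ * a⁻¹ := by group
          _ = x * ((ε m)⁻¹ * a⁻¹) := by rw [← e]; group
          _ = x * a⁻¹ * ε (-m) := by
            rw [L.neg, ((L.bigA_D_central ha hm).inv_left.inv_right).eq.symm]; group }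
  have hDN : ∀ m, inD m → ε m ∈ N2 := fun m hm => ⟨L.eps_bigA m, fun x hx =>
    ⟨0, rfl, by rw [L.zero, mul_one]; exact (L.bigA_D_central hx hm).eq.symm⟩⟩
  -- it is strictly above `D`
  have hex : ∃ a ∈ N2, ¬ ∃ m, inD m ∧ a = ε m := by
    let D' : Subgroup (bigA ε) :=
      { carrier := {a | ∃ m, inD m ∧ (a : G) = ε m}
        one_mem' := ⟨0, rfl, L.zero.symm⟩
        mul_mem' := by
          rintro a b ⟨m, hm, e⟩ ⟨m', hm', e'⟩
          exact ⟨m + m', by simp only [inD, Prod.fst_add, Prod.snd_add] at *; rw [hm, hm'],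
            by rw [Subgroup.coe_mul, e, e', L.add]⟩
        inv_mem' := by
          rintro a ⟨m, hm, e⟩
          exact ⟨-m, inD_neg m hm, by rw [Subgroup.coe_inv, e, L.neg]⟩ }
    have hD' : D'.Normal := ⟨fun a ⟨m, hm, e⟩ g => ⟨m, hm, by
      rw [Subgroup.coe_mul, Subgroup.coe_mul, Subgroup.coe_inv, e]
      exact mul_inv_eq_iff_eq_mul.2 (L.bigA_D_central g.2 hm).eq⟩⟩
    have hp : IsPGroup 3 (bigA ε) := IsPGroup.of_card (n := 5) (by rw [L.card_bigA]; norm_num)
    have hq : IsPGroup 3 (bigA ε ⧸ D') := hp.to_quotient D'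
    have hcD : Nat.card D' ≤ 9 := by
      rw [← card_inD, ← Nat.card_eq_fintype_card]
      refine Nat.card_le_card_of_surjective (fun m : {a : Tri // inD a} => (⟨⟨ε m.1, L.eps_bigA m.1⟩,
        m.1, m.2, rfl⟩ : D')) fun ⟨a, m, hm, e⟩ => ⟨⟨m, hm⟩, Subtype.ext (Subtype.ext e.symm)⟩
    have : Nontrivial (bigA ε ⧸ D') := by
      have h1 := Subgroup.card_mul_index D'
      rw [L.card_bigA, Subgroup.index_eq_card] at h1
      rw [← Finite.one_lt_card_iff_nontrivial]
      nlinarith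
    have := hq.center_nontrivial
    obtain ⟨⟨c, hc⟩, hc1⟩ := exists_ne (1 : Subgroup.center (bigA ε ⧸ D'))
    obtain ⟨a, rfl⟩ := QuotientGroup.mk_surjective c
    refine ⟨a, ⟨a.2, fun x hx => ?_⟩, fun ⟨m, hm, e⟩ => hc1 (Subtype.ext ?_)⟩
    · have h1 := Subgroup.mem_center_iff.1 hc (⟨x, hx⟩ : bigA ε)
      rw [← QuotientGroup.mk_mul, ← QuotientGroup.mk_mul, QuotientGroup.eq] at h1
      obtain ⟨m, hm, e⟩ := h1
      refine ⟨m, hm, ?_⟩
      rw [← e]
      simp only [Subgroup.coe_mul, Subgroup.coe_inv]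
      group
    · exact (QuotientGroup.eq_one_iff a).2 ⟨m, hm, e⟩
  have hinv : ∀ {k : G}, (∀ a, inD a → ∃ a', inD a' ∧ k * ε a * k⁻¹ = ε a') → ∀ a ∈ N2,
      k * a * k⁻¹ ∈ N2 := by
    intro k hk a ha
    refine ⟨L.conj_bigA hk ha.1, fun x hx => ?_⟩
    have hx' : k⁻¹ * x * k ∈ bigA ε := by
      have := L.conj_bigA (k := k⁻¹) (fun a ha => by
        obtain ⟨a', ha', e⟩ := L.norm_inv hk a ha
        exact ⟨a', ha', by rwa [inv_inv]⟩) hx
      rwa [inv_inv] at this
    obtain ⟨m, hm, e⟩ := ha.2 _ hx'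
    obtain ⟨m', hm', e'⟩ := hk m hm
    refine ⟨m', hm', ?_⟩
    calc k * a * k⁻¹ * x = k * (a * (k⁻¹ * x * k)) * k⁻¹ := by group
      _ = x * (k * a * k⁻¹) * (k * ε m * k⁻¹) := by rw [e]; group
      _ = _ := by rw [e']
  -- it contains the centraliser of one, hence of every involution
  have hone : ∃ t, (t = z ∨ t = s ∨ t = s * z) ∧ ∃ a ∈ N2, Commute a t ∧ ¬ ∃ m, inD m ∧ a = ε m := by
    by_contra hno
    push Not at hno
    obtain ⟨a, ha, hna⟩ := hex
    refine hna ?_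
    have hTn : ∀ t ∈ L.four, ∀ a ∈ N2, t * a * t⁻¹ ∈ N2 := fun t ht => hinv fun m hm =>
      ⟨m, hm, mul_inv_eq_iff_eq_mul.2
        (L.commute_D (L.mem_cenD.1 (L.four_le ht)).1 (L.mem_cenD.1 (L.four_le ht)).2 hm).eq⟩
    let D0 : Subgroup G :=
      { carrier := {c | ∃ m, inD m ∧ c = ε m}
        one_mem' := ⟨0, rfl, L.zero.symm⟩
        mul_mem' := by
          rintro _ _ ⟨m, hm, rfl⟩ ⟨m', hm', rfl⟩
          exact ⟨m + m', by simp only [inD, Prod.fst_add, Prod.snd_add] at *; rw [hm, hm'], (L.add _ _).symm⟩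
        inv_mem' := by
          rintro _ ⟨m, hm, rfl⟩
          exact ⟨-m, inD_neg m hm, (L.neg m).symm⟩ }
    have hodd : Odd (Nat.card N2) :=
      L.bigA_spec.2.1.of_dvd_nat (Subgroup.card_dvd_of_le fun c hc => hc.1)
    exact RankOne.Involution.le_of_four_group (H := N2) (M := D0) hodd L.ssq L.zsq L.sz.eq
      (fun c hc => hTn s L.s_four c hc) (fun c hc => hTn z L.z_four c hc)
      (fun c hc e => hno s (Or.inr (Or.inl rfl)) c hc (mul_inv_eq_iff_eq_mul.1 e).symm)
      (fun c hc e => hno z (Or.inl rfl) c hc (mul_inv_eq_iff_eq_mul.1 e).symm)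
      (fun c hc e => hno (s * z) (Or.inr (Or.inr rfl)) c hc (mul_inv_eq_iff_eq_mul.1 e).symm) ha
  obtain ⟨t₀, ht₀, a₀, ha₀, hat₀, hna₀⟩ := hone
  have hfull : ∀ t, (t = z ∨ t = s ∨ t = s * z) → ∀ a ∈ bigA ε, Commute a t → a ∈ N2 := by
    intro t ht a ha hat
    obtain ⟨k₀, hk₀, hkD₀⟩ := L.exists_to_z ht₀
    obtain ⟨k, hk, hkD⟩ := L.exists_to_z ht
    have hkD' : ∀ a, inD a → ∃ a', inD a' ∧ k⁻¹ * ε a * k⁻¹⁻¹ = ε a' := fun a ha => by
      obtain ⟨a', ha', e⟩ := L.norm_inv hkD a ha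
      exact ⟨a', ha', by rwa [inv_inv]⟩
    set R := N2 ⊓ (bigA ε ⊓ Subgroup.centralizer ({t} : Set G))
    have hR := L.D_card_nine ht (R := R) inf_le_right
      (fun m hm => ⟨hDN m hm, L.eps_bigA m, Subgroup.mem_centralizer_singleton_iff.2 (by
        rcases ht with rfl | rfl | rfl
        · exact L.cz m
        · exact (L.s_comm hm).symm
        · exact (L.s_comm hm).symm.mul_right (L.cz m))⟩)
      (by
        refine ⟨k⁻¹ * (k₀ * a₀ * k₀⁻¹) * k⁻¹⁻¹, ⟨hinv hkD' _ (hinv hkD₀ _ ha₀),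
          L.conj_bigA hkD' (L.conj_bigA hkD₀ ha₀.1), Subgroup.mem_centralizer_singleton_iff.2 ?_⟩, ?_⟩
        · have := (hat₀.map (MulAut.conj k₀).toMonoidHom).map (MulAut.conj k⁻¹).toMonoidHom
          change Commute (k⁻¹ * (k₀ * a₀ * k₀⁻¹) * k⁻¹⁻¹) (k⁻¹ * (k₀ * t₀ * k₀⁻¹) * k⁻¹⁻¹) at this
          rwa [hk₀, show k⁻¹ * z * k⁻¹⁻¹ = t by rw [← hk]; group] at this
        · rintro ⟨m, hm, e⟩
          obtain ⟨m', hm', e'⟩ := hkD m hm
          obtain ⟨m'', hm'', e''⟩ := L.norm_inv hkD₀ m' hm'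
          refine hna₀ ⟨m'', hm'', ?_⟩
          rw [← e'', ← e', ← e]; group)
    exact (hR.symm ▸ (⟨ha, Subgroup.mem_centralizer_singleton_iff.2 hat⟩ :
      a ∈ bigA ε ⊓ Subgroup.centralizer ({t} : Set G)) : a ∈ R).1
  have hA2 : bigA ε ≤ N2 := L.bigA_le (hfull z (Or.inl rfl)) (hfull s (Or.inr (Or.inl rfl)))
    (hfull _ (Or.inr (Or.inr rfl)))
  -- elements of different centralisers commute
  have hpair : ∀ t, (t = z ∨ t = s ∨ t = s * z) → ∀ a ∈ bigA ε, Commute a t → ∀ t',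
      (t' = z ∨ t' = s ∨ t' = s * z) → ∀ b ∈ bigA ε, Commute b t' → Commute a b := by
    intro t ht a ha hat t' ht' b hb hbt'
    by_cases he : t = t'
    · subst he
      exact (L.cent_abelian ht ha hb hat hbt').1
    have htT : t ∈ L.four ∧ t' ∈ L.four := by
      constructor
      · rcases ht with rfl | rfl | rfl <;> first | exact L.z_four | exact L.s_four | exact L.sz_four
      · rcases ht' with rfl | rfl | rfl <;> first | exact L.z_four | exact L.s_four | exact L.sz_four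
    have htt : t * t = 1 := by
      rcases ht with rfl | rfl | rfl
      · exact L.zsq
      · exact L.ssq
      · rw [← mul_assoc, mul_assoc s, ← L.sz.eq, ← mul_assoc, L.ssq, one_mul, L.zsq]
    have htc : Commute t t' := by
      rcases ht with rfl | rfl | rfl <;> rcases ht' with rfl | rfl | rfl
      all_goals first
        | exact absurd rfl he
        | exact L.sz
        | exact L.sz.symm
        | exact (L.sz.symm).mul_right (Commute.refl _)
        | exact (Commute.refl _).mul_right L.sz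
        | exact ((L.sz.symm).mul_right (Commute.refl _)).symm
        | exact ((Commute.refl _).mul_right L.sz).symm
    have hbn : t * b * t⁻¹ ∈ bigA ε := L.bigA_spec.2.2.2.2.2 t (L.four_le htT.1) b hb
    have hbn' : Commute (t * b * t⁻¹) t' := (htc.mul_left hbt').mul_left htc.inv_left
    have hbb := (L.cent_abelian ht' hb hbn hbt' hbn').1
    have htinv : t⁻¹ = t := inv_eq_of_mul_eq_one_right htt
    obtain ⟨m₀, hm₀, e₀⟩ := L.inD_of_two ht ht' he (a := b * (t * b * t⁻¹)) (mul_mem hb hbn)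
      (by
        show b * (t * b * t⁻¹) * t = t * (b * (t * b * t⁻¹))
        calc b * (t * b * t⁻¹) * t = b * (t * b) := by group
          _ = (t * b * t⁻¹) * b * t := by
            rw [← hbb.eq, htinv, mul_assoc b (t * b * t) t, mul_assoc (t * b) t t, htt, mul_one]
          _ = t * (b * (t * b * t⁻¹)) := by rw [htinv]; group)
      (hbt'.mul_left hbn')
    obtain ⟨m, hm, e⟩ := (hA2 ha).2 b hb
    -- conjugate by `t`
    have htm : ∀ {j}, inD j → t * ε j * t⁻¹ = ε j := fun hj => mul_inv_eq_iff_eq_mul.2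
      (L.commute_D (L.mem_cenD.1 (L.four_le htT.1)).1 (L.mem_cenD.1 (L.four_le htT.1)).2 hj).eq
    have hta : t * a * t⁻¹ = a := mul_inv_eq_iff_eq_mul.2 hat.symm.eq
    have e1 : a * (t * b * t⁻¹) = (t * b * t⁻¹) * a * ε m := by
      have := congrArg (fun g => t * g * t⁻¹) e
      calc a * (t * b * t⁻¹) = t * a * t⁻¹ * (t * b * t⁻¹) := by rw [hta]
        _ = t * (a * b) * t⁻¹ := by group
        _ = t * (b * a * ε m) * t⁻¹ := this
        _ = (t * b * t⁻¹) * (t * a * t⁻¹) * (t * ε m * t⁻¹) := by group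
        _ = _ := by rw [hta, htm hm]
    have e2 : a * ε m₀ = ε m₀ * (a * (ε m * ε m)) := by
      rw [← e₀]
      calc a * (b * (t * b * t⁻¹)) = (a * b) * (t * b * t⁻¹) := by group
        _ = b * a * (ε m * (t * b * t⁻¹)) := by rw [e]; group
        _ = b * (a * (t * b * t⁻¹)) * ε m := by rw [← (L.bigA_D_central hbn hm).eq]; group
        _ = _ := by rw [e1]; group
    rw [(L.bigA_D_central ha hm₀).eq] at e2
    have h2 : ε m * ε m = 1 := mul_eq_left.1 (mul_left_cancel e2).symm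
    have h3 : ε m = 1 := by
      have := L.cube m
      rwa [pow_three, h2, mul_one] at this
    show a * b = b * a
    rw [e, h3, mul_one]
  intro a ha b hb
  have hb' : b ∈ Subgroup.centralizer ({a} : Set G) := by
    refine L.bigA_le (fun b hb hbz => ?_) (fun b hb hbs => ?_) (fun b hb hbsz => ?_) hb
    all_goals
      refine Subgroup.mem_centralizer_singleton_iff.2 ?_
      have hb'' : a ∈ Subgroup.centralizer ({b} : Set G) := by
        refine L.bigA_le (fun a ha haz => ?_) (fun a ha has => ?_) (fun a ha hasz => ?_) ha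
        all_goals refine Subgroup.mem_centralizer_singleton_iff.2 ?_
        all_goals first
          | exact hpair z (Or.inl rfl) a ha haz z (Or.inl rfl) b hb hbz
          | exact hpair s (Or.inr (Or.inl rfl)) a ha has z (Or.inl rfl) b hb hbz
          | exact hpair _ (Or.inr (Or.inr rfl)) a ha hasz z (Or.inl rfl) b hb hbz
          | exact hpair z (Or.inl rfl) a ha haz s (Or.inr (Or.inl rfl)) b hb hbs
          | exact hpair s (Or.inr (Or.inl rfl)) a ha has s (Or.inr (Or.inl rfl)) b hb hbs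
          | exact hpair _ (Or.inr (Or.inr rfl)) a ha hasz s (Or.inr (Or.inl rfl)) b hb hbs
          | exact hpair z (Or.inl rfl) a ha haz _ (Or.inr (Or.inr rfl)) b hb hbsz
          | exact hpair s (Or.inr (Or.inl rfl)) a ha has _ (Or.inr (Or.inr rfl)) b hb hbsz
          | exact hpair _ (Or.inr (Or.inr rfl)) a ha hasz _ (Or.inr (Or.inr rfl)) b hb hbsz
      exact (Subgroup.mem_centralizer_singleton_iff.1 hb'').symm
  exact (Subgroup.mem_centralizer_singleton_iff.1 hb').symm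

theorem bigA_cube : ∀ a ∈ bigA ε, a ^ 3 = 1 := by
  intro a ha
  let M : Subgroup G :=
    { carrier := {c | c ∈ bigA ε ∧ c ^ 3 = 1}
      one_mem' := ⟨one_mem _, one_pow 3⟩
      mul_mem' := fun {a b} ha hb =>
        ⟨mul_mem ha.1 hb.1, by rw [(L.bigA_comm a ha.1 b hb.1).mul_pow, ha.2, hb.2, one_mul]⟩
      inv_mem' := fun {a} ha => ⟨inv_mem ha.1, by rw [inv_pow, ha.2, inv_one]⟩ }
  exact (L.bigA_le (M := M) (fun c hc h => ⟨hc, (L.cent_abelian (Or.inl rfl) hc hc h h).2⟩)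
    (fun c hc h => ⟨hc, (L.cent_abelian (Or.inr (Or.inl rfl)) hc hc h h).2⟩)
    (fun c hc h => ⟨hc, (L.cent_abelian (Or.inr (Or.inr rfl)) hc hc h h).2⟩) ha).2

/-- The centraliser of `E` lies in `A⟨z⟩`. -/
theorem cent_E {c : G} (hc : ∀ m, Commute c (ε m)) : ∃ a ∈ bigA ε, c = a ∨ c = a * z := by
  obtain ⟨a, ha, τ, hτ, rfl⟩ := L.bigA_spec.2.2.1 c (L.mem_cenD.2 ⟨hc af, hc ag⟩)
  have hτm : ∀ m, Commute τ (ε m) := fun m => by
    have := ((L.bigA_comm a ha _ (L.eps_bigA m)).inv_left).mul_left (hc m)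
    rwa [inv_mul_cancel_left] at this
  have hns : ¬ Commute s (ε (1, 0, 0)) := fun h => by
    have e := L.sconj (1, 0, 0)
    rw [mul_inv_eq_iff_eq_mul.2 h.eq] at e
    exact e0_moved.1 (L.inj _ _ e).symm
  rcases L.four_cases hτ with rfl | rfl | rfl | rfl
  · exact ⟨a, ha, Or.inl (mul_one a)⟩
  · exact ⟨a, ha, Or.inr rfl⟩
  · exact absurd (hτm _) hns
  · refine absurd ?_ hns
    have := (hτm (1, 0, 0)).mul_left (L.cz (1, 0, 0)).symm
    rwa [mul_assoc, L.zsq, mul_one] at this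

/-- `A` is self-centralising. -/
theorem cent_bigA {c : G} (hc : ∀ a ∈ bigA ε, Commute c a) : c ∈ bigA ε := by
  obtain ⟨a, ha, rfl | rfl⟩ := L.cent_E fun m => hc _ (L.eps_bigA m)
  · exact ha
  · exfalso
    have hz : ∀ b ∈ bigA ε, Commute b z := fun b hb => by
      have := ((L.bigA_comm a ha b hb).inv_left).mul_left (hc b hb)
      rw [inv_mul_cancel_left] at this
      exact this.symm
    have h := L.card_cent_z
    rw [inf_eq_left.2 fun b hb => Subgroup.mem_centralizer_singleton_iff.2 (hz b hb), L.card_bigA] at h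
    omega

/-- Elements normalising `E` normalise `A`. -/
theorem norm_E {c : G} (hc : ∀ m, ∃ m', c * ε m * c⁻¹ = ε m') {a : G} (ha : a ∈ bigA ε) :
    c * a * c⁻¹ ∈ bigA ε := by
  have hcm : ∀ m, Commute (c * a * c⁻¹) (ε m) := fun m => by
    classical
    choose φ hφ using hc
    have hinj : Function.Injective φ := fun x y h => L.inj _ _
      (mul_left_cancel (mul_right_cancel ((hφ x).trans ((congrArg ε h).trans (hφ y).symm))))
    obtain ⟨m', rfl⟩ := Finite.injective_iff_surjective.1 hinj m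
    rw [← hφ m']
    exact (L.bigA_comm a ha _ (L.eps_bigA m')).map (MulAut.conj c).toMonoidHom
  obtain ⟨b, hb, e | e⟩ := L.cent_E hcm
  · rw [e]; exact hb
  · exfalso
    have h3 : (b * z) ^ 3 = 1 := by
      rw [← e, conj_pow, L.bigA_cube a ha]; group
    have hn : z * b * z⁻¹ ∈ bigA ε := L.conj_z_bigA hb
    have h4 : (b * z) ^ 3 = (b * (z * b * z⁻¹) * b) * z := by
      rw [pow_three, inv_eq_of_mul_eq_one_right L.zsq]
      simp only [mul_assoc]
    rw [h4] at h3
    have hzA : z ∈ bigA ε := by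
      rw [eq_inv_of_mul_eq_one_right h3]
      exact inv_mem (mul_mem (mul_mem hb hn) hb)
    exact L.z1 (L.bigA_spec.2.2.2.1 z hzA L.z_four)

end Loc

end Cfsg.Agent.Lib.SuzM11H6
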