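import Cfsg.Agent.Lib.RankOne.Involution
import Cfsg.Agent.Lib.Induced.GL23Exceptional
import Cfsg.Agent.Lib.RecogThree.L33.Reduce
import Cfsg.Agent.Lib.Induced.GL23Order
import Cfsg.Agent.Lib.Induced.Burnside
import Cfsg.Agent.Lib.Coprime.Conjugacy
import Cfsg.Agent.Lib.Alternating.Basic

/-!
# A subgroup of a group with involution centraliser `GL(2, 3)` meeting it in a Sylow `2`-subgroup

Owner: helper6.
-/

set_option autoImplicit false

namespace Cfsg.Agent.Lib.SuzM11H6.Count

open Cfsg.Agent.Lib.Induced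

/-- Squares of quadruples. -/
def sqs : Finset GL23.T := GL23.inv.image fun a => GL23.mu a a

/-- Products of two squares. -/
def sq2 : Finset GL23.T := (sqs ×ˢ sqs).image fun p => GL23.mu p.1 p.2

theorem gen_sq_refl : ∀ r ∈ GL23.invol, r ≠ Induced.GL23.tT →
    ∀ x ∈ GL23.inv, x ∈ sq2 ∨ GL23.mu x r ∈ sq2 := by
  decide +kernel

theorem refl_cases : ∀ a ∈ GL23.invol, ∀ r ∈ GL23.invol, r ≠ Induced.GL23.tT →
    GL23.mu a r = GL23.mu r a → a = Induced.GL23.tT ∨ a = r ∨ a = GL23.mu r Induced.GL23.tT := by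
  decide +kernel

universe u

variable {S : Type u} [Group S] [Finite S]

/-- The hypotheses on a stabiliser. -/
structure SHyp (x y : S) : Prop where
  ox : orderOf x = 2
  oy : orderOf y = 2
  ne : x ≠ y
  comm : Commute x y
  cent : ∀ i : S, orderOf i = 2 → Nat.card (Subgroup.centralizer ({i} : Set S)) = 16
  conj : ∀ i : S, orderOf i = 2 → ∃ g : S, g * x * g⁻¹ = i
  four : Nat.card ↥(Subgroup.centralizer ({x} : Set S) ⊓ Subgroup.centralizer ({y} : Set S)) ≤ 4
  sixteen : (Nat.card S).factorization 2 = 4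
  big : 32 ≤ Nat.card S

theorem eq_one_of_two {g : S} (h : g * g = 1) (hodd : Odd (orderOf g)) : g = 1 := by
  have h2 := orderOf_dvd_of_pow_eq_one (show g ^ 2 = 1 by rw [pow_two, h])
  rcases (Nat.dvd_prime Nat.prime_two).1 h2 with e | e
  · exact orderOf_eq_one_iff.1 e
  · rw [e] at hodd; exact absurd hodd (by decide)

namespace SHyp

variable {x y : S} (h : SHyp x y)
include h

theorem sq {i : S} (hi : orderOf i = 2) : i * i = 1 := by
  rw [← pow_two, ← hi, pow_orderOf_eq_one]

theorem oxy : orderOf (x * y) = 2 := by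
  have : Fact (Nat.Prime 2) := ⟨Nat.prime_two⟩
  refine orderOf_eq_prime ?_ fun e => h.ne ?_
  · rw [h.comm.mul_pow, pow_two, pow_two, h.sq h.ox, h.sq h.oy, one_mul]
  · rw [eq_inv_of_mul_eq_one_left e, inv_eq_of_mul_eq_one_right (h.sq h.oy)]

theorem odd_eq_bot {R : Subgroup S} [R.Normal] (hodd : Odd (Nat.card R)) : R = ⊥ := by
  refine le_antisymm ?_ bot_le
  have hc : ∀ i : S, orderOf i = 2 → ∀ r ∈ R, i * r * i⁻¹ = r → r ∈ (⊥ : Subgroup S) := by
    intro i hi r hr e
    have hr1 : r ∈ Subgroup.centralizer ({i} : Set S) :=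
      Subgroup.mem_centralizer_singleton_iff.2 (mul_inv_eq_iff_eq_mul.1 e).symm
    have h16 : r ^ 16 = 1 := by
      have := pow_card_eq_one' (x := (⟨r, hr1⟩ : Subgroup.centralizer ({i} : Set S)))
      rw [h.cent i hi] at this
      exact congrArg Subtype.val this
    have hn : r ^ Nat.card R = 1 := congrArg Subtype.val (pow_card_eq_one' (x := (⟨r, hr⟩ : R)))
    have := pow_gcd_eq_one.2 ⟨h16, hn⟩
    rw [show Nat.gcd 16 (Nat.card R) = 1 from Nat.Coprime.pow_left 4 (Nat.coprime_two_left.2 hodd),
      pow_one] at this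
    rw [this]; exact one_mem _
  exact RankOne.Involution.le_of_four_group hodd (h.sq h.ox) (h.sq h.oy) h.comm.eq
    (fun r hr => Subgroup.Normal.conj_mem ‹_› r hr x) (fun r hr => Subgroup.Normal.conj_mem ‹_› r hr y)
    (hc x h.ox) (hc y h.oy) (hc _ h.oxy)

theorem two_eq_bot {R : Subgroup S} [R.Normal] (hR : IsPGroup 2 R) : R = ⊥ := by
  classical
  have : Fact (Nat.Prime 2) := ⟨Nat.prime_two⟩
  by_contra hne
  have : Nontrivial R := (Subgroup.nontrivial_iff_ne_bot R).2 hne
  -- an involution of `R`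
  obtain ⟨j, hj⟩ := IsPGroup.iff_card.1 hR
  have hj0 : j ≠ 0 := by
    rintro rfl
    have := Finite.one_lt_card (α := R)
    omega
  obtain ⟨⟨r, hr⟩, hr2⟩ := exists_prime_orderOf_dvd_card' (G := R) 2 (hj ▸ dvd_pow_self 2 hj0)
  rw [Subgroup.orderOf_mk] at hr2
  have hall : ∀ i : S, orderOf i = 2 → i ∈ R := fun i hi => by
    obtain ⟨g, hg⟩ := h.conj r hr2
    obtain ⟨g', hg'⟩ := h.conj i hi
    have := Subgroup.Normal.conj_mem ‹R.Normal› r hr (g' * g⁻¹)
    rw [← hg, show g' * g⁻¹ * (g * x * g⁻¹) * (g' * g⁻¹)⁻¹ = g' * x * g'⁻¹ by group, hg'] at this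
    exact this
  have hcomm : ∀ i : S, orderOf i = 2 → ∀ r ∈ R, Commute r i := fun i hi r hr => by
    set C := Subgroup.centralizer ({i} : Set S) with hC
    have hCp : IsPGroup 2 C := IsPGroup.of_card (n := 4) (by rw [h.cent i hi]; norm_num)
    obtain ⟨P, hP⟩ := hCp.exists_le_sylow
    have hPC : C = (P : Subgroup S) := Subgroup.eq_of_le_of_card_ge hP (by
      rw [P.card_eq_multiplicity, h.sixteen, h.cent i hi]; norm_num)
    have hRP : R ≤ (P : Subgroup S) := hR.le_sylow_of_normal P
    rw [← hPC] at hRP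
    exact Subgroup.mem_centralizer_singleton_iff.1 (hRP hr)
  -- all involutions lie in the four-group of `x, y`
  have hfour : ∀ i : S, orderOf i = 2 → i = x ∨ i = y ∨ i = x * y := by
    intro i hi
    have hmem : ∀ g : S, Commute g x → Commute g y →
        g ∈ Subgroup.centralizer ({x} : Set S) ⊓ Subgroup.centralizer ({y} : Set S) := fun g h1 h2 =>
      ⟨Subgroup.mem_centralizer_singleton_iff.2 h1, Subgroup.mem_centralizer_singleton_iff.2 h2⟩
    by_contra hno
    push Not at hno
    obtain ⟨n1, n2, n3⟩ := hno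
    have hx := hall x h.ox
    have hy := hall y h.oy
    let f : Fin 5 → ↥(Subgroup.centralizer ({x} : Set S) ⊓ Subgroup.centralizer ({y} : Set S)) := fun k =>
      match k with
      | 0 => 1
      | 1 => ⟨x, hmem x (Commute.refl x) h.comm⟩
      | 2 => ⟨y, hmem y h.comm.symm (Commute.refl y)⟩
      | 3 => ⟨x * y, hmem _ ((Commute.refl x).mul_left h.comm.symm) (h.comm.mul_left (Commute.refl y))⟩
      | 4 => ⟨i, hmem i (hcomm x h.ox i (hall i hi)) (hcomm y h.oy i (hall i hi))⟩
    have hinj : Function.Injective f := by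
      have e1 : ∀ {g : S}, orderOf g = 2 → g ≠ 1 := fun hg e => by rw [e, orderOf_one] at hg; omega
      have a1 := e1 h.ox
      have a2 := e1 h.oy
      have a3 := e1 h.oxy
      have a4 := e1 hi
      have a5 : x * y ≠ x := fun e => a2 (mul_eq_left.1 e)
      have a6 : x * y ≠ y := fun e => a1 (mul_eq_right.1 e)
      have a7 := h.ne
      intro p q e
      have e' := congrArg Subtype.val e
      fin_cases p <;> fin_cases q <;> first
        | rfl
        | exact absurd e' a1 | exact absurd e'.symm a1 | exact absurd e' a2 | exact absurd e'.symm a2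
        | exact absurd e' a3 | exact absurd e'.symm a3 | exact absurd e' a4 | exact absurd e'.symm a4
        | exact absurd e' a5 | exact absurd e'.symm a5 | exact absurd e' a6 | exact absurd e'.symm a6
        | exact absurd e' a7 | exact absurd e'.symm a7 | exact absurd e' n1 | exact absurd e'.symm n1
        | exact absurd e' n2 | exact absurd e'.symm n2 | exact absurd e' n3 | exact absurd e'.symm n3
    have := Nat.card_le_card_of_injective f hinj
    have := h.four
    simp at *
    omega
  -- hence at most three involutions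
  have h1 := (Subgroup.centralizer ({x} : Set S)).card_mul_index
  rw [h.cent x h.ox] at h1
  have h3 : (Subgroup.centralizer ({x} : Set S)).index ≤ 3 := by
    set C := Subgroup.centralizer ({x} : Set S) with hC
    have hio : ∀ g : S, orderOf (g * x * g⁻¹) = 2 := fun g =>
      (orderOf_injective (MulAut.conj g).toMonoidHom (MulAut.conj g).injective x).trans h.ox
    have hle : Nat.card (S ⧸ C) ≤ Nat.card ↥({x, y, x * y} : Finset S) := by
      refine Nat.card_le_card_of_injective
        (fun q => ⟨q.out * x * q.out⁻¹, by simpa using hfour _ (hio q.out)⟩) fun q q' e => ?_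
      have e' : q.out * x * q.out⁻¹ = q'.out * x * q'.out⁻¹ := congrArg Subtype.val e
      rw [← QuotientGroup.out_eq' q, ← QuotientGroup.out_eq' q', QuotientGroup.eq]
      refine Subgroup.mem_centralizer_singleton_iff.2 ?_
      calc q.out⁻¹ * q'.out * x = q.out⁻¹ * (q'.out * x * q'.out⁻¹) * q'.out := by group
        _ = x * (q.out⁻¹ * q'.out) := by rw [← e']; group
    rw [Subgroup.index_eq_card]
    refine le_trans hle ?_
    rw [Nat.card_eq_fintype_card, Fintype.card_coe]
    exact Finset.card_le_three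
  have hcases : Nat.card S = 32 ∨ Nat.card S = 48 := by
    have := h.big
    omega
  rcases hcases with hc | hc
  · have := h.sixteen
    rw [hc, show (32 : ℕ) = 2 ^ 5 by norm_num, Nat.prime_two.factorization_pow, Finsupp.single_eq_same] at this
    omega
  · -- `C(x) ∩ C(y)` would have order at least eight
    have hx16 := h.cent x h.ox
    have hy16 := h.cent y h.oy
    have hi := Subgroup.index_inf_le (H := Subgroup.centralizer ({x} : Set S)) (K := Subgroup.centralizer ({y} : Set S))
    have ey := (Subgroup.centralizer ({y} : Set S)).card_mul_index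
    have exy := (Subgroup.centralizer ({x} : Set S) ⊓ Subgroup.centralizer ({y} : Set S)).card_mul_index
    rw [hy16, hc] at ey
    rw [hc] at h1 exy
    have e1 : (Subgroup.centralizer ({x} : Set S)).index = 3 := by omega
    have e2 : (Subgroup.centralizer ({y} : Set S)).index = 3 := by omega
    rw [e1, e2] at hi
    have := h.four
    nlinarith

theorem not_solvable : ¬ Group.IsSolvable S := by
  intro hs
  have : Nontrivial S := ⟨⟨x, y, h.ne⟩⟩
  obtain ⟨p, M, hp, hM, -, hN, hMp⟩ :=
    Coprime.exists_normal_pSubgroup (A := (⊤ : Subgroup S)) top_ne_bot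
  have : M.Normal := ⟨fun m hm g => (Subgroup.mem_normalizer_iff.1 (hN (Subgroup.mem_top g)) m).1 hm⟩
  have : Fact p.Prime := ⟨hp⟩
  rcases hp.eq_two_or_odd' with rfl | hodd
  · exact hM (h.two_eq_bot hMp)
  · obtain ⟨j, hj⟩ := IsPGroup.iff_card.1 hMp
    exact hM (h.odd_eq_bot (hj ▸ hodd.pow))

theorem not_two_primes {q a b : ℕ} (hq : q.Prime) : Nat.card S ≠ 2 ^ a * q ^ b := fun e =>
  h.not_solvable (Induced.Burnside.isSolvable_of_card_eq 2 q a b Nat.prime_two hq e)

theorem card_ne_240 : Nat.card S ≠ 240 := by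
  intro hS
  have : Fact (Nat.Prime 5) := ⟨by norm_num⟩
  obtain ⟨P⟩ : Nonempty (Sylow 5 S) := inferInstance
  have hP5 : Nat.card (P : Subgroup S) = 5 := by
    rw [P.card_eq_multiplicity, hS]
    have : (240 : ℕ).factorization 5 = 1 := by
      rw [show (240 : ℕ) = 5 * 48 by norm_num, Nat.factorization_mul (by norm_num) (by norm_num),
        Finsupp.add_apply, Nat.Prime.factorization_self (by norm_num),
        Nat.factorization_eq_zero_of_not_dvd (by norm_num)]
    rw [this, pow_one]
  have hidx := card_sylow_modEq_one 5 S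
  have hn : Nat.card (Sylow 5 S) = (Subgroup.normalizer ((P : Subgroup S) : Set S)).index := P.card_eq_index_normalizer
  have hN := Subgroup.card_mul_index (Subgroup.normalizer ((P : Subgroup S) : Set S))
  rw [← hn, hS] at hN
  have hdvd : 5 ∣ Nat.card ↥(Subgroup.normalizer ((P : Subgroup S) : Set S)) := by
    have h1 := Subgroup.card_dvd_of_le (Subgroup.le_normalizer (H := (P : Subgroup S)))
    rwa [hP5] at h1
  obtain ⟨m, hm⟩ := hdvd
  have hcases : Nat.card (Sylow 5 S) ∈ [1, 6, 16] := by
    have hd : Nat.card (Sylow 5 S) ∣ 48 := ⟨m, by rw [hm] at hN; nlinarith⟩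
    have hle := Nat.le_of_dvd (by norm_num) hd
    unfold Nat.ModEq at hidx
    exact (by decide : ∀ n < 49, n ∣ 48 → n % 5 = 1 → n ∈ [1, 6, 16]) _ (by omega) hd hidx
  simp only [List.mem_cons, List.not_mem_nil, or_false] at hcases
  rcases hcases with hc | hc | hc
  · -- a normal Sylow subgroup
    have : (P : Subgroup S).Normal := by
      refine Subgroup.normalizer_eq_top_iff.1 (Subgroup.index_eq_one.1 ?_)
      rw [← hn, hc]
    have := h.odd_eq_bot (R := (P : Subgroup S)) (by rw [hP5]; decide)
    rw [this, Subgroup.card_bot] at hP5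
    omega
  · -- a normaliser of order forty
    rw [hc] at hN
    set N := Subgroup.normalizer ((P : Subgroup S) : Set S) with hNdef
    have hN40 : Nat.card N = 40 := by omega
    obtain ⟨R⟩ : Nonempty (Sylow 2 N) := inferInstance
    have hR8 : Nat.card (R : Subgroup N) = 8 := by
      rw [R.card_eq_multiplicity, hN40]
      have : (40 : ℕ).factorization 2 = 3 := by
        rw [show (40 : ℕ) = 2 ^ 3 * 5 by norm_num, Nat.factorization_mul (by norm_num) (by norm_num),
          Finsupp.add_apply, Nat.prime_two.factorization_pow, Finsupp.single_eq_same,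
          Nat.factorization_eq_zero_of_not_dvd (by norm_num)]
      rw [this]; norm_num
    obtain ⟨p, hp, hp1⟩ : ∃ p ∈ (P : Subgroup S), p ≠ 1 := by
      by_contra hno
      push Not at hno
      rw [(Subgroup.eq_bot_iff_forall _).2 hno, Subgroup.card_bot] at hP5
      omega
    have hp5 : orderOf p = 5 := by
      have h1 : orderOf p ∣ 5 := by rw [← hP5, ← Subgroup.orderOf_mk p hp]; exact orderOf_dvd_natCard _
      exact ((Nat.dvd_prime (by norm_num)).1 h1).resolve_left fun e => hp1 (orderOf_eq_one_iff.1 e)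
    have hfree : ∀ g : N, g ∈ (R : Subgroup N) → Commute (g : S) p → g = 1 := by
      intro g hg hgp
      by_contra hg1
      obtain ⟨k, hk⟩ := IsPGroup.iff_orderOf.1 R.2 ⟨g, hg⟩
      rw [Subgroup.orderOf_mk] at hk
      obtain ⟨k', rfl⟩ : ∃ k', k = k' + 1 := ⟨k - 1, by
        rcases k with _ | k
        · exact absurd (orderOf_eq_one_iff.1 hk) hg1
        · omega⟩
      have hi : orderOf ((g : S) ^ 2 ^ k') = 2 := by
        rw [orderOf_pow' _ (by positivity), Subgroup.orderOf_coe, hk, Nat.gcd_eq_right (pow_dvd_pow 2 (by omega)),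
          pow_succ, Nat.mul_div_cancel_left _ (by positivity)]
      have hpm : p ∈ Subgroup.centralizer ({(g : S) ^ 2 ^ k'} : Set S) :=
        Subgroup.mem_centralizer_singleton_iff.2 (hgp.pow_left _).eq.symm
      have := Subgroup.orderOf_mk p hpm ▸ orderOf_dvd_natCard (⟨p, hpm⟩ : Subgroup.centralizer _)
      rw [h.cent _ hi, hp5] at this
      omega
    have hinj : Function.Injective (fun g : (R : Subgroup N) =>
        (⟨((g : N) : S) * p * ((g : N) : S)⁻¹, (Subgroup.mem_normalizer_iff.1 (g : N).2 p).1 hp⟩ :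
          (P : Subgroup S))) := by
      intro a b e
      have e' : ((a : N) : S) * p * ((a : N) : S)⁻¹ = ((b : N) : S) * p * ((b : N) : S)⁻¹ := congrArg Subtype.val e
      have := hfree ((b : N)⁻¹ * (a : N)) (mul_mem (inv_mem b.2) a.2) (by
        show ((b : N) : S)⁻¹ * ((a : N) : S) * p = p * (((b : N) : S)⁻¹ * ((a : N) : S))
        calc ((b : N) : S)⁻¹ * ((a : N) : S) * p
            = ((b : N) : S)⁻¹ * (((a : N) : S) * p * ((a : N) : S)⁻¹) * ((a : N) : S) := by group
          _ = _ := by rw [e']; group)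
      exact Subtype.ext (inv_mul_eq_one.1 this).symm
    have := Nat.card_le_card_of_injective _ hinj
    omega
  · -- a normaliser of order fifteen is abelian
    rw [hc] at hN
    set N := Subgroup.normalizer ((P : Subgroup S) : Set S) with hNdef
    have hN15 : Nat.card N = 15 := by omega
    have hcyc : IsCyclic N := by
      have : Fact (Nat.Prime 3) := ⟨Nat.prime_three⟩
      obtain ⟨a, ha⟩ := exists_prime_orderOf_dvd_card' (G := N) 3 (by rw [hN15]; norm_num)
      obtain ⟨b, hb⟩ := exists_prime_orderOf_dvd_card' (G := N) 5 (by rw [hN15]; norm_num)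
      have hPN : ((P : Subgroup S).subgroupOf N).Normal := Subgroup.normal_in_normalizer
      set P' := (P : Subgroup S).subgroupOf N
      have hP' : Nat.card P' = 5 := (Nat.card_congr (Subgroup.subgroupOfEquivOfLe Subgroup.le_normalizer).toEquiv).trans hP5
      have hbP : b ∈ P' := by
        by_contra hnb
        have h1 := P'.card_mul_index
        rw [hP', hN15] at h1
        have h3 : b ^ P'.index ∈ P' := Subgroup.pow_index_mem P' b
        rw [show P'.index = 3 by omega] at h3
        obtain ⟨k, hk⟩ := exists_pow_eq_self_of_coprime (x := b) (n := 3) (by rw [hb]; norm_num)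
        exact hnb (hk ▸ pow_mem h3 k)
      have hP'c : Subgroup.zpowers b = P' := Subgroup.eq_of_le_of_card_ge (Subgroup.zpowers_le.2 hbP)
        (by rw [Nat.card_zpowers, hb, hP'])
      have hab : a * b * a⁻¹ ∈ P' := hPN.conj_mem b hbP a
      rw [← hP'c] at hab
      obtain ⟨k, hk⟩ := Subgroup.mem_zpowers_iff.1 hab
      have hk' : a * b * a⁻¹ = b ^ (k % 5).toNat := by
        rw [← hk, ← zpow_natCast, Int.toNat_of_nonneg (Int.emod_nonneg _ (by norm_num))]
        have := zpow_mod_orderOf b k
        rw [hb] at this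
        exact_mod_cast this.symm
      set j := (k % 5).toNat
      have hj : j < 5 := by
        have := Int.emod_lt_of_pos k (b := 5) (by norm_num)
        omega
      have hiter : ∀ n : ℕ, a ^ n * b * (a ^ n)⁻¹ = b ^ (j ^ n) := by
        intro n
        induction n with
        | zero => simp
        | succ n ih =>
          rw [pow_succ', show a * a ^ n * b * (a * a ^ n)⁻¹ = a * (a ^ n * b * (a ^ n)⁻¹) * a⁻¹ by group, ih,
            ← conj_pow, hk', ← pow_mul, pow_succ']
      have h3 := hiter 3
      rw [show a ^ 3 = 1 by rw [← ha, pow_orderOf_eq_one]] at h3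
      simp only [one_mul, inv_one, mul_one] at h3
      have hmod : j ^ 3 % 5 = 1 := by
        have h4 : b ^ (j ^ 3) = b ^ 1 := h3.symm.trans (pow_one b).symm
        have := pow_eq_pow_iff_modEq.1 h4
        rw [hb] at this
        exact this
      have hj1 : j = 1 := (by decide : ∀ j < 5, j ^ 3 % 5 = 1 → j = 1) j hj hmod
      rw [hj1, pow_one] at hk'
      have hcab : Commute a b := mul_inv_eq_iff_eq_mul.1 hk'
      refine isCyclic_of_orderOf_eq_card (a * b) ?_
      rw [hcab.orderOf_mul_eq_mul_orderOf_of_coprime (by rw [ha, hb]; norm_num), ha, hb, hN15]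
    have hP : N ≤ Subgroup.centralizer ((P : Subgroup S) : Set S) := by
      intro g hg
      refine Subgroup.mem_centralizer_iff.2 fun q hq => ?_
      exact congrArg Subtype.val (IsMulCommutative.is_comm.comm (⟨q, Subgroup.le_normalizer hq⟩ : N) ⟨g, hg⟩)
    have hcomp := MonoidHom.ker_transferSylow_isComplement' P hP
    have hK := hcomp.card_mul_card
    rw [hP5, hS] at hK
    have : Group.IsSolvable (MonoidHom.transferSylow P hP).ker :=
      Induced.Burnside.isSolvable_of_card_eq 2 3 4 1 Nat.prime_two Nat.prime_three (by omega)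
    have : Group.IsSolvable (P : Subgroup S) := by
      have := P.2.isNilpotent
      infer_instance
    exact h.not_solvable (Group.isSolvable_of_ker_le_range (MonoidHom.transferSylow P hP).ker.subtype
      (MonoidHom.transferSylow P hP) (by rw [Subgroup.range_subtype]))

end SHyp

variable {H : Type u} [Group H] [Finite H]

/-- The order of the group and the three-part of the subgroup. -/
theorem main {t r : H} (ht : orderOf t = 2)
    (e : Subgroup.centralizer ({t} : Set H) ≃* Matrix.GeneralLinearGroup (Fin 2) (ZMod 3))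
    (hr : orderOf r = 2) (hrt : r ≠ t) (hrc : Commute r t) (hconj : ∃ g : H, g * r * g⁻¹ = t)
    (S : Subgroup H) (htS : t ∈ S) (hrS : r ∈ S) (hS : S ≠ ⊤)
    (h16 : Nat.card ↥(S ⊓ Subgroup.centralizer ({t} : Set H)) = 16)
    (hlines : ∀ g : H, g⁻¹ * t * g ∈ S → ∃ c : H, Commute c t ∧ c * g ∈ S)
    (h11 : ∀ g ∈ S, orderOf g ≠ 11) :
    IsSimpleGroup H ∧ Nat.card H = 7920 ∧ 9 ∣ Nat.card S ∧
      ∀ i : H, orderOf i = 2 → ∃ g : H, g * t * g⁻¹ = i := by
  have : Fact (Nat.Prime 2) := ⟨Nat.prime_two⟩
  -- no subgroup of index two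
  obtain ⟨o, hHo, ho⟩ := Induced.GL23Exceptional.card_eq_sixteen_mul_odd e ht
  have hno : ∀ N : Subgroup H, N.index ≠ 2 := by
    intro N hN
    have hNn : N.Normal := Subgroup.normal_of_index_eq_two hN
    set C := Subgroup.centralizer ({t} : Set H) with hC
    have hsq : ∀ g : H, g * g ∈ N := fun g => Subgroup.mul_self_mem_of_index_two hN g
    have htC : t ∈ C := Induced.GL23Exceptional.t_mem
    have hrC : r ∈ C := Subgroup.mem_centralizer_singleton_iff.2 hrc
    have ht2 : Induced.GL23Exceptional.q e ⟨t, htC⟩ = Induced.GL23.tT := Induced.GL23Exceptional.q_t e ht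
    have htN : t ∈ N := by
      obtain ⟨c, hc⟩ := Induced.GL23Exceptional.exists_q e
        (show Induced.GL23.pw Induced.GL23.uT 2 ∈ GL23.inv by decide +kernel)
      have h4 : c * c = ⟨t, htC⟩ := Induced.GL23Exceptional.q_injective e (by
        rw [Induced.GL23Exceptional.q_mul, hc, ht2]
        decide +kernel)
      have : (c : H) * c = t := congrArg Subtype.val h4
      exact this ▸ hsq _
    have hrN : r ∈ N := by
      obtain ⟨g, hg⟩ := hconj
      have := hNn.conj_mem t htN g⁻¹
      rwa [← hg, show g⁻¹ * (g * r * g⁻¹) * g⁻¹⁻¹ = r by group] at this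
    have hrne : Induced.GL23Exceptional.q e ⟨r, hrC⟩ ≠ Induced.GL23.tT := fun h => hrt
      (congrArg Subtype.val (Induced.GL23Exceptional.q_injective e (h.trans ht2.symm)))
    have hrinv : Induced.GL23Exceptional.q e ⟨r, hrC⟩ ∈ GL23.invol :=
      (Induced.GL23Exceptional.q_mem_invol e).2 hr
    have hCN : C ≤ N := by
      intro g hg
      rcases gen_sq_refl _ hrinv hrne _ (Induced.GL23Exceptional.q_mem e ⟨g, hg⟩) with h | h
      · obtain ⟨⟨a, b⟩, hab, hg'⟩ := Finset.mem_image.1 h
        obtain ⟨ha, hb⟩ := Finset.mem_product.1 hab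
        obtain ⟨a', ha', rfl⟩ := Finset.mem_image.1 ha
        obtain ⟨b', hb', rfl⟩ := Finset.mem_image.1 hb
        obtain ⟨u, rfl⟩ := Induced.GL23Exceptional.exists_q e ha'
        obtain ⟨v, rfl⟩ := Induced.GL23Exceptional.exists_q e hb'
        have : u * u * (v * v) = ⟨g, hg⟩ := Induced.GL23Exceptional.q_injective e (by
          rw [Induced.GL23Exceptional.q_mul, Induced.GL23Exceptional.q_mul, Induced.GL23Exceptional.q_mul]
          exact hg')
        have h2 : (u : H) * u * ((v : H) * v) = g := congrArg Subtype.val this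
        exact h2 ▸ mul_mem (hsq _) (hsq _)
      · obtain ⟨⟨a, b⟩, hab, hg'⟩ := Finset.mem_image.1 h
        obtain ⟨ha, hb⟩ := Finset.mem_product.1 hab
        obtain ⟨a', ha', rfl⟩ := Finset.mem_image.1 ha
        obtain ⟨b', hb', rfl⟩ := Finset.mem_image.1 hb
        obtain ⟨u, rfl⟩ := Induced.GL23Exceptional.exists_q e ha'
        obtain ⟨v, rfl⟩ := Induced.GL23Exceptional.exists_q e hb'
        have : u * u * (v * v) = ⟨g, hg⟩ * ⟨r, hrC⟩ := Induced.GL23Exceptional.q_injective e (by
          rw [Induced.GL23Exceptional.q_mul, Induced.GL23Exceptional.q_mul, Induced.GL23Exceptional.q_mul,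
            Induced.GL23Exceptional.q_mul]
          exact hg')
        have h2 : (u : H) * u * ((v : H) * v) = g * r := congrArg Subtype.val this
        have h3 : g * r ∈ N := h2 ▸ mul_mem (hsq _) (hsq _)
        have := mul_mem h3 (inv_mem hrN)
        rwa [mul_inv_cancel_right] at this
    have h48 : 48 ∣ Nat.card N := by
      rw [← Induced.GL23Exceptional.card_centralizer e]
      exact Subgroup.card_dvd_of_le hCN
    have h1 := N.card_mul_index
    rw [hN, hHo] at h1
    obtain ⟨m, hm⟩ := h48
    obtain ⟨l, hl⟩ := ho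
    omega
  have hsimple : IsSimpleGroup H := RecogThree.L33.Reduce.isSimple e ht hno
  have hall : ∀ i : H, orderOf i = 2 → ∃ g : H, g * t * g⁻¹ = i := fun i hi =>
    RecogThree.L33.Reduce.all_conj e ht hno hi
  have := Fintype.ofFinite H
  have hord := Induced.GL23Order.order_eq (G := H) ht e
  have hSconj : ∀ i ∈ S, orderOf i = 2 → ∃ g ∈ S, g * t * g⁻¹ = i := by
    intro i hiS hi
    obtain ⟨g₀, hg₀⟩ := hall i hi
    obtain ⟨c, hc, hcS⟩ := hlines g₀⁻¹ (by rwa [inv_inv, hg₀])
    refine ⟨(c * g₀⁻¹)⁻¹, inv_mem hcS, ?_⟩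
    calc (c * g₀⁻¹)⁻¹ * t * (c * g₀⁻¹)⁻¹⁻¹ = g₀ * (c⁻¹ * t * c) * g₀⁻¹ := by group
      _ = g₀ * t * g₀⁻¹ := by rw [show c⁻¹ * t * c = c⁻¹ * (t * c) by group, ← hc.eq, inv_mul_cancel_left]
      _ = i := hg₀
  -- the hypotheses for `S`
  have hcS : Nat.card (Subgroup.centralizer ({⟨t, htS⟩} : Set S)) = 16 := by
    rw [← h16]
    exact Nat.card_congr
      { toFun := fun c => ⟨c.1.1, c.1.2, Subgroup.mem_centralizer_singleton_iff.2
          (congrArg Subtype.val (Subgroup.mem_centralizer_singleton_iff.1 c.2))⟩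
        invFun := fun c => ⟨⟨c.1, c.2.1⟩, Subgroup.mem_centralizer_singleton_iff.2
          (Subtype.ext (Subgroup.mem_centralizer_singleton_iff.1 c.2.2))⟩
        left_inv := fun c => rfl
        right_inv := fun c => rfl }
  have hcent : ∀ i : S, orderOf i = 2 → Nat.card (Subgroup.centralizer ({i} : Set S)) = 16 := by
    intro i hi
    obtain ⟨g, hg, hgi⟩ := hSconj i i.2 (by rw [Subgroup.orderOf_coe]; exact hi)
    have hmap : (Subgroup.centralizer ({⟨t, htS⟩} : Set S)).map (MulAut.conj (⟨g, hg⟩ : S)).toMonoidHom =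
        Subgroup.centralizer ({i} : Set S) := by
      have hi' : (⟨g, hg⟩ : S) * ⟨t, htS⟩ * (⟨g, hg⟩ : S)⁻¹ = i := Subtype.ext hgi
      ext c
      constructor
      · rintro ⟨d, hd, rfl⟩
        refine Subgroup.mem_centralizer_singleton_iff.2 ?_
        rw [← hi']
        have hd' : d * ⟨t, htS⟩ = ⟨t, htS⟩ * d := Subgroup.mem_centralizer_singleton_iff.1 hd
        exact (Commute.map (show Commute d ⟨t, htS⟩ from hd') (MulAut.conj (⟨g, hg⟩ : S)).toMonoidHom).eq
      · intro hc
        refine ⟨(⟨g, hg⟩ : S)⁻¹ * c * ⟨g, hg⟩, Subgroup.mem_centralizer_singleton_iff.2 ?_, ?_⟩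
        · have hc' : Commute c i := Subgroup.mem_centralizer_singleton_iff.1 hc
          have h2 := hc'.map (MulAut.conj (⟨g, hg⟩ : S)⁻¹).toMonoidHom
          rw [← hi'] at h2
          simp only [MulEquiv.coe_toMonoidHom, MulAut.conj_apply, inv_inv] at h2
          have e' : (⟨g, hg⟩ : S)⁻¹ * ((⟨g, hg⟩ : S) * ⟨t, htS⟩ * (⟨g, hg⟩ : S)⁻¹) * ⟨g, hg⟩ = ⟨t, htS⟩ := by
            group
          rw [e'] at h2
          exact h2
        · show (⟨g, hg⟩ : S) * ((⟨g, hg⟩ : S)⁻¹ * c * ⟨g, hg⟩) * (⟨g, hg⟩ : S)⁻¹ = c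
          group
    rw [← hmap, Subgroup.card_map_of_injective (MulAut.conj (⟨g, hg⟩ : S)).injective, hcS]
  have h16S : 16 ∣ Nat.card S := by
    rw [← h16]
    exact Subgroup.card_dvd_of_le inf_le_left
  have hSH : Nat.card S ∣ Nat.card H := Subgroup.card_subgroup_dvd_card S
  have hfac : (Nat.card S).factorization 2 = 4 := by
    have hodd : Odd (Nat.card S / 16) := by
      refine ho.of_dvd_nat ?_
      have := Nat.div_dvd_div h16S hSH
      rwa [hHo, Nat.mul_div_cancel_left _ (by norm_num)] at this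
    obtain ⟨m, hm⟩ := h16S
    rw [hm, Nat.mul_div_cancel_left _ (by norm_num)] at hodd
    rw [hm, show (16 : ℕ) = 2 ^ 4 by norm_num, Nat.factorization_mul (by norm_num) (fun h => by simp [h] at hodd),
      Finsupp.add_apply, Nat.prime_two.factorization_pow, Finsupp.single_eq_same,
      Nat.factorization_eq_zero_of_not_dvd (fun h => Nat.not_even_iff_odd.2 hodd (even_iff_two_dvd.2 h))]
  have hfour : Nat.card ↥(Subgroup.centralizer ({(⟨t, htS⟩ : S)} : Set S) ⊓
      Subgroup.centralizer ({(⟨r, hrS⟩ : S)} : Set S)) ≤ 4 := by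
    have hrC : r ∈ Subgroup.centralizer ({t} : Set H) := Subgroup.mem_centralizer_singleton_iff.2 hrc
    have hrne : Induced.GL23Exceptional.q e ⟨r, hrC⟩ ≠ Induced.GL23.tT := fun h => hrt
      (congrArg Subtype.val (Induced.GL23Exceptional.q_injective e
        (h.trans (Induced.GL23Exceptional.q_t e ht).symm)))
    have hrinv : Induced.GL23Exceptional.q e ⟨r, hrC⟩ ∈ GL23.invol :=
      (Induced.GL23Exceptional.q_mem_invol e).2 hr
    have h4 := Induced.GL23.invol_centralizer _ hrinv hrne
    rw [← h4, ← Fintype.card_coe, ← Nat.card_eq_fintype_card]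
    let toC : ↥(Subgroup.centralizer ({(⟨t, htS⟩ : S)} : Set S) ⊓
        Subgroup.centralizer ({(⟨r, hrS⟩ : S)} : Set S)) → Subgroup.centralizer ({t} : Set H) := fun c =>
      ⟨c.1.1, Subgroup.mem_centralizer_singleton_iff.2
        (congrArg Subtype.val (Subgroup.mem_centralizer_singleton_iff.1 c.2.1))⟩
    refine Nat.card_le_card_of_injective (fun c => ⟨Induced.GL23Exceptional.q e (toC c),
      Finset.mem_filter.2 ⟨Induced.GL23Exceptional.q_mem e _, ?_⟩⟩) fun a b h => ?_
    · rw [← Induced.GL23Exceptional.q_mul, ← Induced.GL23Exceptional.q_mul]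
      exact congrArg _ (Subtype.ext (congrArg Subtype.val (Subgroup.mem_centralizer_singleton_iff.1 c.2.2) :
        (c.1.1 : H) * r = r * c.1.1))
    · have := Induced.GL23Exceptional.q_injective e (congrArg Subtype.val h)
      exact Subtype.ext (Subtype.ext (congrArg (fun w : Subgroup.centralizer ({t} : Set H) => (w : H)) this))
  have hbig : 32 ≤ Nat.card S := by
    obtain ⟨m, hm⟩ := h16S
    have hm1 : m ≠ 1 := by
      intro h1
      obtain ⟨g, hg, hgr⟩ := hSconj r hrS hr
      have hall' : Subgroup.centralizer ({(⟨t, htS⟩ : S)} : Set S) = ⊤ :=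
        Subgroup.eq_top_of_card_eq _ (by rw [hcS, hm, h1])
      have hgt : (⟨g, hg⟩ : S) ∈ Subgroup.centralizer ({(⟨t, htS⟩ : S)} : Set S) := hall' ▸ Subgroup.mem_top _
      have := congrArg Subtype.val (Subgroup.mem_centralizer_singleton_iff.1 hgt)
      refine hrt ?_
      rw [← hgr]
      exact mul_inv_eq_iff_eq_mul.2 this
    have : m ≠ 0 := fun h0 => by
      rw [h0, mul_zero] at hm
      exact (Nat.card_pos (α := S)).ne' hm
    omega
  have hS' : SHyp (⟨t, htS⟩ : S) ⟨r, hrS⟩ :=
    { ox := by rw [Subgroup.orderOf_mk]; exact ht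
      oy := by rw [Subgroup.orderOf_mk]; exact hr
      ne := fun h => hrt (congrArg Subtype.val h).symm
      comm := Subtype.ext hrc.eq.symm
      cent := hcent
      conj := fun i hi => by
        obtain ⟨g, hg, hgi⟩ := hSconj i i.2 (by rw [Subgroup.orderOf_coe]; exact hi)
        exact ⟨⟨g, hg⟩, Subtype.ext hgi⟩
      four := hfour
      sixteen := hfac
      big := hbig }
  have hidx := S.card_mul_index
  have hfact := Alternating.card_dvd_factorial_of_simple S hS
  have hne1 : S.index ≠ 1 := fun h => hS (Subgroup.index_eq_one.1 h)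
  obtain ⟨m, hm⟩ := h16S
  rcases hord with hH | hH
  · -- order 5616
    exfalso
    rw [hH, hm] at hidx
    rw [hH] at hfact
    have hd : m ∈ Nat.divisors 351 := Nat.mem_divisors.2 ⟨⟨S.index, by nlinarith⟩, by norm_num⟩
    rw [show Nat.divisors 351 = {1, 3, 9, 13, 27, 39, 117, 351} by decide +kernel] at hd
    simp only [Finset.mem_insert, Finset.mem_singleton] at hd
    rcases hd with rfl | rfl | rfl | rfl | rfl | rfl | rfl | rfl
    · exact hS'.not_two_primes (a := 4) (b := 0) Nat.prime_three (by omega)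
    · exact hS'.not_two_primes (a := 4) (b := 1) Nat.prime_three (by omega)
    · exact hS'.not_two_primes (a := 4) (b := 2) Nat.prime_three (by omega)
    · exact hS'.not_two_primes (a := 4) (b := 1) (q := 13) (by norm_num) (by omega)
    · exact hS'.not_two_primes (a := 4) (b := 3) Nat.prime_three (by omega)
    · rw [show S.index = 9 by omega] at hfact; norm_num [Nat.factorial] at hfact
    · rw [show S.index = 3 by omega] at hfact; norm_num [Nat.factorial] at hfact
    · exact hne1 (by omega)
  · -- order 7920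
    refine ⟨hsimple, hH, ?_, hall⟩
    rw [hH, hm] at hidx
    have hd : m ∈ Nat.divisors 495 := Nat.mem_divisors.2 ⟨⟨S.index, by nlinarith⟩, by norm_num⟩
    rw [show Nat.divisors 495 = {1, 3, 5, 9, 11, 15, 33, 45, 55, 99, 165, 495} by decide +kernel] at hd
    simp only [Finset.mem_insert, Finset.mem_singleton] at hd
    have h11' : ¬ 11 ∣ Nat.card S := fun h => by
      have : Fact (Nat.Prime 11) := ⟨by norm_num⟩
      obtain ⟨g, hg⟩ := exists_prime_orderOf_dvd_card' (G := S) 11 h
      exact h11 g g.2 (by rw [Subgroup.orderOf_coe]; exact hg)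
    rcases hd with rfl | rfl | rfl | rfl | rfl | rfl | rfl | rfl | rfl | rfl | rfl | rfl
    · exact absurd (show Nat.card S = 2 ^ 4 * 3 ^ 0 by omega) (hS'.not_two_primes Nat.prime_three)
    · exact absurd (show Nat.card S = 2 ^ 4 * 3 ^ 1 by omega) (hS'.not_two_primes Nat.prime_three)
    · exact absurd (show Nat.card S = 2 ^ 4 * 5 ^ 1 by omega) (hS'.not_two_primes (by norm_num))
    · exact absurd (show Nat.card S = 2 ^ 4 * 3 ^ 2 by omega) (hS'.not_two_primes Nat.prime_three)
    all_goals first
      | exact absurd (by omega) hS'.card_ne_240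
      | omega
      | exact absurd (hm ▸ by norm_num) h11'

end Cfsg.Agent.Lib.SuzM11H6.Count
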