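import Cfsg.Agent.Lib.SuzM11H6.Sylow
import Cfsg.Agent.Lib.SuzM11H6.Axis

/-!
# Suzuki type: transport of the Sylow `3`-subgroup

Owner: helper6.
-/

set_option autoImplicit false

open scoped Pointwise

namespace Cfsg.Agent.Lib.SuzM11H6

variable {G : Type*} [Group G] {z s : G} {ε : Tri → G}

theorem Loc.exists_P [Finite G] (L : Loc z s ε) : ∃ P : Subgroup G, P ≤ nAf ε ∧ bigA ε ≤ P ∧
    Nat.card P = 3 ^ 7 := by
  classical
  obtain ⟨-, h9, hcard⟩ := L.iso_M11
  haveI : Fact (Nat.Prime 3) := ⟨Nat.prime_three⟩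
  set SN := (nAf ε).subgroupOf (nA ε)
  have hA' : Nat.card (bigA' ε) = 243 := by
    rw [Nat.card_congr (Subgroup.subgroupOfEquivOfLe Subgroup.le_normalizer).toEquiv, L.card_bigA]
  have hAS : bigA' ε ≤ SN := fun a ha => L.bigA_le_nAf ha
  obtain ⟨k, hk⟩ := Subgroup.card_dvd_of_le hAS
  rw [hk, Nat.mul_div_cancel_left _ Nat.card_pos] at h9
  have hSN : Nat.card SN = Nat.card (nAf ε) :=
    Nat.card_congr (Subgroup.subgroupOfEquivOfLe inf_le_left).toEquiv
  have h37 : 3 ^ 7 ∣ Nat.card (nAf ε) := by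
    rw [← hSN, hk, hA', show 3 ^ 7 = 243 * 9 by norm_num]
    exact Nat.mul_dvd_mul_left _ h9
  have h38 : ¬ 3 ^ 8 ∣ Nat.card (nAf ε) := fun h => by
    have := h.trans ((Subgroup.card_dvd_of_le inf_le_left : Nat.card (nAf ε) ∣ Nat.card (nA ε)))
    rw [hcard] at this
    norm_num at this
  have hpA : IsPGroup 3 ((bigA ε).subgroupOf (nAf ε)) := IsPGroup.of_card (n := 5) (by
    rw [Nat.card_congr (Subgroup.subgroupOfEquivOfLe L.bigA_le_nAf).toEquiv, L.card_bigA]; norm_num)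
  obtain ⟨R, hR⟩ := hpA.exists_le_sylow
  refine ⟨(R : Subgroup (nAf ε)).map (nAf ε).subtype, Subgroup.map_subtype_le _,
    fun a ha => ⟨⟨a, L.bigA_le_nAf ha⟩, hR ha, rfl⟩, ?_⟩
  rw [Subgroup.card_map_of_injective (nAf ε).subtype_injective, R.card_eq_multiplicity]
  have hn : Nat.card (nAf ε) ≠ 0 := Nat.card_pos.ne'
  rw [Nat.prime_three.pow_dvd_iff_le_factorization hn] at h37 h38
  congr 1
  omega

theorem normalizer_map_conj (H : Subgroup G) (g : G) :
    Subgroup.normalizer ((H.map (MulAut.conj g).toMonoidHom : Subgroup G) : Set G) =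
      (Subgroup.normalizer (H : Set G)).map (MulAut.conj g).toMonoidHom :=
  (Subgroup.map_equiv_normalizer_eq H (MulAut.conj g)).symm

/-- The conclusion for a conjugate of `⟨f⟩`. -/
theorem Loc.final [Finite G] (L : Loc z s ε) (Y : Subgroup G) (g : G)
    (hY : Y = (Subgroup.zpowers (ε af)).map (MulAut.conj g).toMonoidHom)
    (P : Sylow 3 ↥(Subgroup.normalizer (Y : Set G))) :
    ¬ 3 ∣ ((P : Subgroup ↥(Subgroup.normalizer (Y : Set G))).map
        (Subgroup.subtype (Subgroup.normalizer (Y : Set G)))).index ∧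
      ∃ A : Subgroup G, A ≤ (P : Subgroup ↥(Subgroup.normalizer (Y : Set G))).map
          (Subgroup.subtype (Subgroup.normalizer (Y : Set G))) ∧ Cfsg.IsElementaryAbelian 3 A ∧
        Nat.card A = 3 ^ 5 ∧ Subgroup.centralizer (A : Set G) = A ∧
        ∃ _ : (A.subgroupOf (Subgroup.normalizer (A : Set G))).Normal,
          Cfsg.Spor.IsoM11 (↥(Subgroup.normalizer (A : Set G)) ⧸
            A.subgroupOf (Subgroup.normalizer (A : Set G))) := by
  classical
  haveI : Fact (Nat.Prime 3) := ⟨Nat.prime_three⟩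
  obtain ⟨P0, hP0, hAP0, hcP0⟩ := L.exists_P
  have hidx := L.sylow_index (hP0.trans inf_le_left) hAP0 hcP0
  set P1 := P0.map (MulAut.conj g).toMonoidHom with hP1
  have hidx1 : ¬ 3 ∣ P1.index := by
    rw [hP1, Subgroup.index_map_of_bijective (MulAut.conj g).bijective]
    exact hidx
  have hP1N : P1 ≤ (Subgroup.normalizer (Y : Set G)) := by
    rw [hY, normalizer_map_conj]
    exact Subgroup.map_mono (hP0.trans inf_le_right)
  have hp1 : IsPGroup 3 (P1.subgroupOf (Subgroup.normalizer (Y : Set G))) := IsPGroup.of_card (n := 7) (by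
    rw [Nat.card_congr (Subgroup.subgroupOfEquivOfLe hP1N).toEquiv, hP1,
      Subgroup.card_map_of_injective (MulAut.conj g).injective, hcP0])
  let T : Sylow 3 (Subgroup.normalizer (Y : Set G)) := hp1.toSylow fun h => hidx1 (h.trans (Subgroup.relIndex_dvd_index_of_le hP1N))
  obtain ⟨m, hm⟩ := MulAction.exists_smul_eq (Subgroup.normalizer (Y : Set G)) T P
  set c : G := (m : G) * g with hc
  set P' := (P : Subgroup (Subgroup.normalizer (Y : Set G))).map (Subgroup.normalizer (Y : Set G)).subtype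
  have hPeq : P' = P0.map (MulAut.conj c).toMonoidHom := by
    show ((P : Subgroup (Subgroup.normalizer (Y : Set G))).map (Subgroup.normalizer (Y : Set G)).subtype) = _
    rw [← hm, Sylow.coe_subgroup_smul]
    ext a
    constructor
    · rintro ⟨b, hb, rfl⟩
      obtain ⟨b', hb', rfl⟩ := (Subgroup.mem_smul_pointwise_iff_exists _ _ _).1 hb
      obtain ⟨p, hp, hpb⟩ := (show (b' : G) ∈ P1 from hb')
      refine ⟨p, hp, ?_⟩
      show c * p * c⁻¹ = (m : G) * b' * (m : G)⁻¹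
      rw [← hpb, hc]
      show (m : G) * g * p * ((m : G) * g)⁻¹ = (m : G) * (g * p * g⁻¹) * (m : G)⁻¹
      group
    · rintro ⟨p, hp, rfl⟩
      have h1 : g * p * g⁻¹ ∈ P1 := ⟨p, hp, rfl⟩
      refine ⟨MulAut.conj m • ⟨_, hP1N h1⟩, Subgroup.smul_mem_pointwise_smul _ _ _ h1, ?_⟩
      show (m : G) * (g * p * g⁻¹) * (m : G)⁻¹ = c * p * c⁻¹
      rw [hc]
      group
  set φ := MulAut.conj c
  set A := (bigA ε).map φ.toMonoidHom with hA
  refine ⟨?_, A, ?_, ⟨?_, ?_⟩, ?_, ?_, ?_⟩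
  · rw [hPeq, Subgroup.index_map_of_bijective (MulAut.conj c).bijective]
    exact hidx
  · rw [hA]
    exact le_of_le_of_eq (Subgroup.map_mono hAP0) hPeq.symm
  · refine ⟨⟨?_⟩⟩
    rintro ⟨-, a, ha, rfl⟩ ⟨-, b, hb, rfl⟩
    exact Subtype.ext ((L.bigA_comm a ha b hb).map φ.toMonoidHom).eq
  · rintro - ⟨a, ha, rfl⟩
    rw [← map_pow, L.bigA_cube a ha, map_one]
  · rw [hA, Subgroup.card_map_of_injective φ.injective, L.card_bigA]
    norm_num
  · refine le_antisymm (fun a ha => ?_) (fun a ha => Subgroup.mem_centralizer_iff.2 fun b hb => ?_)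
    · refine ⟨φ.symm a, L.cent_bigA fun b hb => φ.injective ?_, φ.apply_symm_apply a⟩
      rw [map_mul, map_mul, φ.apply_symm_apply]
      exact (Subgroup.mem_centralizer_iff.1 ha (φ b) ⟨b, hb, rfl⟩).symm
    · obtain ⟨a', ha', rfl⟩ := ha
      obtain ⟨b', hb', rfl⟩ := hb
      exact ((L.bigA_comm b' hb' a' ha').map φ.toMonoidHom).eq
  · obtain ⟨⟨hn0, ⟨iso⟩, -, -⟩, -, -⟩ := L.iso_M11
    haveI := hn0
    have hn : (A.subgroupOf (Subgroup.normalizer (A : Set G))).Normal := Subgroup.normal_in_normalizer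
    haveI := hn
    refine ⟨hn, ⟨MulEquiv.trans ?_ iso⟩⟩
    refine (QuotientGroup.congr (bigA' ε) (A.subgroupOf (Subgroup.normalizer (A : Set G)))
      ((φ.subgroupMap (nA ε)).trans (MulEquiv.subgroupCongr (normalizer_map_conj (bigA ε) c).symm)) ?_).symm
    ext ⟨a, ha⟩
    constructor
    · rintro ⟨⟨b, hb'⟩, hb, e⟩
      have e' : φ b = a := congrArg Subtype.val e
      show a ∈ A
      exact ⟨b, hb, e'⟩
    · rintro ⟨b, hb, e⟩
      exact ⟨⟨b, Subgroup.le_normalizer hb⟩, hb, Subtype.ext e⟩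

end Cfsg.Agent.Lib.SuzM11H6
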