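import Cfsg.Agent.Lib.SuzM11H6.Small
import Cfsg.Agent.Lib.Goldschmidt53.RankTwoBadBW

/-!
# Suzuki type: conjugates of the lines of `E` and the centraliser of `D`

`C(D)` has the four-group `T = ⟨z, s⟩` as a Sylow `2`-subgroup without fusion, so it is `A : T` with
`|A| = 3 ^ 5`.

Owner: helper6.
-/

set_option autoImplicit false

namespace Cfsg.Agent.Lib.SuzM11H6

open Cfsg.Agent.Lib.SuzType52 (pw pw_mul)

variable {G : Type*} [Group G] {z s : G} {ε : Tri → G}

theorem inD_cases : ∀ a : Tri, inD a →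
    a = 0 ∨ a = af ∨ a = -af ∨ a = ag ∨ a = -ag ∨ (wt a = 3 ∧ a ≠ 0) := by decide +kernel

theorem wt_af : wt af = 1 ∧ wt (-af) = 1 ∧ wt ag = 2 := by decide +kernel

theorem wt_three_D : ∀ a : Tri, inD a → wt a = 3 → a = ag + af ∨ a = -(ag + af) ∨ a = tn (ag + af) ∨
    a = -(tn (ag + af)) := by decide +kernel

theorem ts_fixed : ∀ a : Tri, ts a = a ↔ inD a := by decide +kernel

set_option synthInstance.maxSize 2048 in
theorem three_pair : ∀ a b : Tri, (inD a ∧ wt a = 3 ∧ inD b ∧ wt b = 3) →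
    (b = a ∨ b = -a ∨ b = tn a ∨ b = -(tn a)) := by decide +kernel

theorem inD_af : inD af ∧ inD ag := by decide +kernel

theorem inD_neg : ∀ a : Tri, inD a → inD (-a) := by decide +kernel

/-- Permuting three points by a permutation whose order is a power of two fixes a point. -/
theorem fix_three {G : Type*} [Group G] {y : G} {j : ℕ} (hy : y ^ 2 ^ j = 1) {a b c : G}
    (h1 : y * a * y⁻¹ = b) (h2 : y * b * y⁻¹ = c) (h3 : y * c * y⁻¹ = a) : y * a * y⁻¹ = a := by
  have e3 : y ^ 3 * a * (y ^ 3)⁻¹ = a := by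
    calc y ^ 3 * a * (y ^ 3)⁻¹ = y * (y * (y * a * y⁻¹) * y⁻¹) * y⁻¹ := by
          rw [pow_three]; group
      _ = a := by rw [h1, h2, h3]
  have hc : y ^ 3 ∈ Subgroup.centralizer ({a} : Set G) :=
    Subgroup.mem_centralizer_singleton_iff.2 (mul_inv_eq_iff_eq_mul.1 e3)
  have hy' : y ∈ Subgroup.zpowers (y ^ 3) := by
    obtain ⟨m, hm⟩ := exists_pow_eq_self_of_coprime (x := y) (n := 3)
      (Nat.Coprime.coprime_dvd_right (orderOf_dvd_of_pow_eq_one hy) (Nat.Coprime.pow_right j (by norm_num)))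
    exact ⟨m, by simpa using hm⟩
  exact mul_inv_eq_iff_eq_mul.2
    (Subgroup.mem_centralizer_singleton_iff.1 (Subgroup.zpowers_le.2 hc hy'))

/-- The centraliser of `D`. -/
def cenD (ε : Tri → G) : Subgroup G :=
  Subgroup.centralizer ({ε af} : Set G) ⊓ Subgroup.centralizer ({ε ag} : Set G)

namespace Loc

variable (L : Loc z s ε)
include L

theorem zero : ε 0 = 1 := by
  have := L.add 0 0
  rwa [add_zero, left_eq_mul] at this

theorem neg (a : Tri) : ε (-a) = (ε a)⁻¹ := by
  refine (inv_eq_of_mul_eq_one_right ?_).symm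
  rw [← L.add, add_neg_cancel, L.zero]

theorem comm (a b : Tri) : Commute (ε a) (ε b) := by
  show ε a * ε b = ε b * ε a
  rw [← L.add, ← L.add, add_comm]

theorem cube (a : Tri) : ε a ^ 3 = 1 := by
  have h3 : a + (a + a) = 0 := by
    have := three_nsmul a
    rwa [succ_nsmul', two_nsmul] at this
  rw [pow_three, ← L.add, ← L.add, h3, L.zero]

theorem zsq : z * z = 1 := by rw [← pow_two, ← L.ord, pow_orderOf_eq_one]

theorem z1 : z ≠ 1 := fun e => by
  have := L.ord
  rw [e, orderOf_one] at this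
  norm_num at this

theorem commute_D {c : G} (hf : Commute c (ε af)) (hg : Commute c (ε ag)) {a : Tri} (ha : inD a) :
    Commute c (ε a) := by
  rcases inD_cases a ha with rfl | rfl | rfl | rfl | rfl | h
  · rw [L.zero]; exact Commute.one_right c
  · exact hf
  · rw [L.neg]; exact hf.inv_right
  · exact hg
  · rw [L.neg]; exact hg.inv_right
  · rcases wt_three_D a ha h.1 with rfl | rfl | rfl | rfl
    · rw [L.add]; exact hg.mul_right hf
    · rw [L.neg, L.add]; exact (hg.mul_right hf).inv_right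
    · rw [show tn (ag + af) = -ag + af by decide +kernel, L.add, L.neg]; exact hg.inv_right.mul_right hf
    · rw [show -(tn (ag + af)) = ag + -af by decide +kernel, L.add, L.neg]
      exact hg.mul_right hf.inv_right

theorem s_comm {a : Tri} (ha : inD a) : Commute s (ε a) := by
  refine mul_inv_eq_iff_eq_mul.1 ?_
  rw [L.sconj, (ts_fixed a).2 ha]

/-- `f` is not conjugate into `⟨g⟩`. -/
theorem g_ne_f (h : G) {a : Tri} (ha : a = ag ∨ a = -ag) : h * ε af * h⁻¹ ≠ ε a := fun e => by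
  obtain ⟨R, hR, hRf, hR32⟩ := L.big
  have hc : ∀ r ∈ R.map (MulAut.conj h).toMonoidHom, Commute r (ε ag) := by
    rintro _ ⟨r, hr, rfl⟩
    have h1 := (hRf r hr).map (MulAut.conj h).toMonoidHom
    change Commute (h * r * h⁻¹) (h * ε af * h⁻¹) at h1
    rw [e] at h1
    rcases ha with rfl | rfl
    · exact h1
    · rw [L.neg] at h1
      simpa using h1.inv_right
  have h1 := L.small _ (hR.map _) hc
  rw [Subgroup.card_map_of_injective (MulAut.conj h).injective] at h1
  omega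

/-- An element normalising `D` and moving `z` into `{s, s z}` from `{s, s z}` does not fix `⟨g⟩`. -/
theorem g_moved {k : G} (hz : k * z * k⁻¹ = s ∨ k * z * k⁻¹ = s * z)
    (ht : k * s * k⁻¹ = z ∨ k * (s * z) * k⁻¹ = z) {a : Tri} (ha : a = ag ∨ a = -ag) :
    k * ε ag * k⁻¹ ≠ ε a := fun e => by
  obtain ⟨q, hqz, hqg, hqs, hqq⟩ := L.root
  set y := k * q * k⁻¹ with hy
  have hyy : y * y = k * z * k⁻¹ := by rw [hy, ← hqq]; group
  have hyz : Commute y z := by
    rcases ht with ht | ht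
    · have := hqs.map (MulAut.conj k).toMonoidHom
      change Commute (k * q * k⁻¹) (k * s * k⁻¹) at this
      rwa [ht] at this
    · have := (hqs.mul_right hqz).map (MulAut.conj k).toMonoidHom
      change Commute (k * q * k⁻¹) (k * (s * z) * k⁻¹) at this
      rwa [ht] at this
  have hyg : Commute y (ε ag) := by
    have h1 := hqg.map (MulAut.conj k).toMonoidHom
    change Commute (k * q * k⁻¹) (k * ε ag * k⁻¹) at h1
    rw [e] at h1
    rcases ha with rfl | rfl
    · exact h1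
    · rw [L.neg] at h1
      simpa using h1.inv_right
  rw [← hyy] at hz
  exact hz.elim (L.nsq y hyz hyg).1 (L.nsq y hyz hyg).2

/-- The lines of `D` with three rotations are conjugate to `⟨g⟩`. -/
theorem conj_g_three : ∀ a : Tri, inD a → wt a = 3 → ∃ h : G, h * ε ag * h⁻¹ = ε a ∨
    h * ε ag * h⁻¹ = ε (-a) := by
  obtain ⟨k, hks, hkz, hkD⟩ := L.swap
  obtain ⟨a', ha', hka⟩ := hkD ag inD_af.2
  have hne0 : a' ≠ 0 := fun e => by
    rw [e, L.zero] at hka
    have : ε ag = 1 := by simpa using hka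
    exact af_ne.2 (L.inj _ _ (this.trans L.zero.symm))
  have h3 : wt a' = 3 := by
    rcases inD_cases a' ha' with e | e | e | e | e | h
    · exact absurd e hne0
    · exfalso
      refine L.g_ne_f k⁻¹ (Or.inl rfl) ?_
      rw [← e, ← hka]; group
    · exfalso
      refine L.g_ne_f k⁻¹ (Or.inr rfl) ?_
      have : ε af = (k * ε ag * k⁻¹)⁻¹ := by rw [hka, e, L.neg, inv_inv]
      rw [this, L.neg]; group
    · exact absurd hka (L.g_moved hkz (Or.inl hks) (Or.inl e))
    · exact absurd hka (L.g_moved hkz (Or.inl hks) (Or.inr e))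
    · exact h.1
  obtain ⟨n, -, hn⟩ := L.inv01
  have key : ∀ a b : Tri, inD a → wt a = 3 → inD b → wt b = 3 →
      b = a ∨ b = -a ∨ b = tn a ∨ b = -(tn a) := fun a b h1 h2 h3 h4 => three_pair a b ⟨h1, h2, h3, h4⟩
  intro a ha hw
  rcases key a' a ha' h3 ha hw with rfl | rfl | rfl | rfl
  · exact ⟨k, Or.inl hka⟩
  · exact ⟨k, Or.inr (by rw [neg_neg]; exact hka)⟩
  · refine ⟨n * k, Or.inl ?_⟩
    rw [← hn a', ← hka]; group
  · refine ⟨n * k, Or.inr ?_⟩
    rw [neg_neg, ← hn a', ← hka]; group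

/-- The other lines are not conjugate to the axes. -/
theorem axis_ne {a : Tri} (ha : 2 ≤ wt a) (h : G) : h * ε af * h⁻¹ ≠ ε a := by
  have step : ∀ w : List (Fin 4), ∀ a : Tri, ∃ c, c * ε a * c⁻¹ = ε (w.foldr (fun i x =>
      if i = 0 then ts x else if i = 1 then tp x else if i = 2 then ti x else tn x) a) := by
    intro w
    induction w with
    | nil => exact fun a => ⟨1, by simp⟩
    | cons i w ih =>
      intro a
      obtain ⟨c, hc⟩ := ih a
      rw [List.foldr_cons]
      generalize w.foldr _ a = x at hc ⊢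
      have : ∃ d, d * ε x * d⁻¹ =
          ε (if i = 0 then ts x else if i = 1 then tp x else if i = 2 then ti x else tn x) := by
        split_ifs
        · exact ⟨s, L.sconj x⟩
        · obtain ⟨d, -, hd⟩ := L.perm12; exact ⟨d, hd x⟩
        · obtain ⟨d, -, hd⟩ := L.inv12; exact ⟨d, hd x⟩
        · obtain ⟨d, -, hd⟩ := L.inv01; exact ⟨d, hd x⟩
      obtain ⟨d, hd⟩ := this
      exact ⟨d * c, by rw [← hd, ← hc]; group⟩
  intro e
  obtain ⟨w, -, hw⟩ := line_kinds a ha
  obtain ⟨c, hc⟩ := step w a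
  generalize List.foldr _ a w = b at hw hc
  have e2 : (c * h) * ε af * (c * h)⁻¹ = ε b := by rw [← hc, ← e]; group
  simp only [List.mem_cons, List.not_mem_nil, or_false] at hw
  rcases hw with hb | hb | hb | hb
  · exact L.g_ne_f _ (Or.inl hb) e2
  · refine L.g_ne_f _ (Or.inr ?_) e2
    rw [hb]; decide +kernel
  all_goals
    have h3 : inD b ∧ wt b = 3 := by rw [hb]; decide +kernel
    obtain ⟨l, hl⟩ := L.conj_g_three b h3.1 h3.2
    rcases hl with hl | hl
    · refine L.g_ne_f (l⁻¹ * (c * h)) (Or.inl rfl) ?_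
      calc l⁻¹ * (c * h) * ε af * (l⁻¹ * (c * h))⁻¹ = l⁻¹ * (c * h * ε af * (c * h)⁻¹) * l := by group
        _ = ε ag := by rw [e2, ← neg_neg b, L.neg] <;> rw [← L.neg, neg_neg, ← hl]; group
    · refine L.g_ne_f (l⁻¹ * (c * h)) (Or.inr rfl) ?_
      calc l⁻¹ * (c * h) * ε af * (l⁻¹ * (c * h))⁻¹ = l⁻¹ * (c * h * ε af * (c * h)⁻¹) * l := by group
        _ = ε (-ag) := by
          rw [e2, show ε b = (ε (-b))⁻¹ by rw [L.neg, inv_inv], ← hl, L.neg]; group

/-- An element normalising `D` fixes `⟨f⟩`. -/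
theorem f_fixed {k : G} (hk : ∀ a, inD a → ∃ a', inD a' ∧ k * ε a * k⁻¹ = ε a') :
    k * ε af * k⁻¹ = ε af ∨ k * ε af * k⁻¹ = ε (-af) := by
  obtain ⟨a', ha', e⟩ := hk af inD_af.1
  rcases inD_cases a' ha' with h | h | h | h | h | h
  · exfalso
    rw [h, L.zero] at e
    have : ε af = 1 := by simpa using e
    exact af_ne.1 (L.inj _ _ (this.trans L.zero.symm))
  · exact Or.inl (h ▸ e)
  · exact Or.inr (h ▸ e)
  · exact absurd e (L.g_ne_f k (Or.inl h))
  · exact absurd e (L.g_ne_f k (Or.inr h))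
  · exact absurd e (L.axis_ne (by omega) k)

theorem mem_cenD {c : G} : c ∈ cenD ε ↔ Commute c (ε af) ∧ Commute c (ε ag) :=
  and_congr Subgroup.mem_centralizer_singleton_iff Subgroup.mem_centralizer_singleton_iff

theorem eps_cenD (a : Tri) : ε a ∈ cenD ε := L.mem_cenD.2 ⟨L.comm a af, L.comm a ag⟩

theorem s_cenD : s ∈ cenD ε := L.mem_cenD.2 ⟨L.s_comm inD_af.1, L.s_comm inD_af.2⟩

theorem z_cenD : z ∈ cenD ε := L.mem_cenD.2 ⟨(L.cz af).symm, (L.cz ag).symm⟩

theorem conj_cenD {k : G} (hk : ∀ a, inD a → ∃ a', inD a' ∧ k⁻¹ * ε a * k = ε a') {c : G}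
    (hc : c ∈ cenD ε) : k * c * k⁻¹ ∈ cenD ε := by
  obtain ⟨hf, hg⟩ := L.mem_cenD.1 hc
  refine L.mem_cenD.2 ⟨?_, ?_⟩
  · obtain ⟨a', ha', e⟩ := hk af inD_af.1
    have := (L.commute_D hf hg ha').map (MulAut.conj k).toMonoidHom
    change Commute (k * c * k⁻¹) (k * ε a' * k⁻¹) at this
    rwa [← e, show k * (k⁻¹ * ε af * k) * k⁻¹ = ε af by group] at this
  · obtain ⟨a', ha', e⟩ := hk ag inD_af.2
    have := (L.commute_D hf hg ha').map (MulAut.conj k).toMonoidHom
    change Commute (k * c * k⁻¹) (k * ε a' * k⁻¹) at this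
    rwa [← e, show k * (k⁻¹ * ε ag * k) * k⁻¹ = ε ag by group] at this

/-- The inverse of an element normalising `D` normalises it. -/
theorem norm_inv {k : G} (hk : ∀ a, inD a → ∃ a', inD a' ∧ k * ε a * k⁻¹ = ε a') :
    ∀ a, inD a → ∃ a', inD a' ∧ k⁻¹ * ε a * k = ε a' := by
  classical
  choose φ hφ1 hφ2 using hk
  let F : {a : Tri // inD a} → {a : Tri // inD a} := fun a => ⟨φ a.1 a.2, hφ1 a.1 a.2⟩
  have hinj : Function.Injective F := fun a b h => by
    have h' : φ a.1 a.2 = φ b.1 b.2 := congrArg Subtype.val h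
    have := (hφ2 a.1 a.2).trans ((congrArg ε h').trans (hφ2 b.1 b.2).symm)
    exact Subtype.ext (L.inj _ _ (mul_left_cancel (mul_right_cancel this)))
  intro a ha
  obtain ⟨b, hb⟩ := (Finite.injective_iff_surjective.1 hinj) ⟨a, ha⟩
  refine ⟨b.1, b.2, ?_⟩
  have hb' : φ b.1 b.2 = a := congrArg Subtype.val hb
  rw [← hb', ← hφ2 b.1 b.2]
  group

/-- The four-group. -/
def four : Subgroup G where
  carrier := {c | ∃ t i : Bool, c = pw s t * pw z i}
  one_mem' := ⟨false, false, (mul_one 1).symm⟩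
  mul_mem' := by
    rintro _ _ ⟨t, i, rfl⟩ ⟨t', i', rfl⟩
    refine ⟨Bool.xor t t', Bool.xor i i', ?_⟩
    have hc : Commute (pw z i) (pw s t') := by
      cases i <;> cases t' <;> first | exact Commute.one_left _ | exact Commute.one_right _ | exact L.sz.symm
    rw [← pw_mul L.ssq, ← pw_mul L.zsq, mul_assoc, ← mul_assoc (pw z i), hc.eq]
    group
  inv_mem' := by
    rintro _ ⟨t, i, rfl⟩
    refine ⟨t, i, ?_⟩
    have hc : Commute (pw s t) (pw z i) := by
      cases i <;> cases t <;> first | exact Commute.one_left _ | exact Commute.one_right _ | exact L.sz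
    have h1 : ∀ (g : G), g * g = 1 → ∀ b, (pw g b)⁻¹ = pw g b := fun g hg b =>
      inv_eq_of_mul_eq_one_right (by rw [pw_mul hg, Bool.xor_self]; rfl)
    rw [mul_inv_rev, h1 s L.ssq, h1 z L.zsq]
    exact hc.eq.symm

theorem four_le : L.four ≤ cenD ε := by
  rintro _ ⟨t, i, rfl⟩
  refine mul_mem ?_ ?_
  · cases t
    · exact one_mem _
    · exact L.s_cenD
  · cases i
    · exact one_mem _
    · exact L.z_cenD

theorem four_cases {c : G} (hc : c ∈ L.four) : c = 1 ∨ c = z ∨ c = s ∨ c = s * z := by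
  obtain ⟨t, i, rfl⟩ := hc
  cases t <;> cases i <;> simp [pw]

theorem z_four : z ∈ L.four := ⟨false, true, (one_mul z).symm⟩
theorem s_four : s ∈ L.four := ⟨true, false, (mul_one s).symm⟩
theorem sz_four : s * z ∈ L.four := ⟨true, true, rfl⟩

theorem distinct : s * z ≠ 1 ∧ s * z ≠ z ∧ s * z ≠ s := by
  refine ⟨fun e => L.sne ?_, fun e => L.s1 (by simpa using e), fun e => L.z1 (mul_eq_left.1 e)⟩
  have := mul_eq_one_iff_eq_inv.1 e
  rwa [inv_eq_of_mul_eq_one_right L.zsq] at this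

theorem card_four : Nat.card L.four = 4 := by
  have hb : Function.Bijective (fun p : Bool × Bool => (⟨pw s p.1 * pw z p.2, p.1, p.2, rfl⟩ : L.four)) := by
    refine ⟨?_, fun ⟨_, t, i, rfl⟩ => ⟨(t, i), rfl⟩⟩
    rintro ⟨t, i⟩ ⟨t', i'⟩ h
    have h' : pw s t * pw z i = pw s t' * pw z i' := congrArg Subtype.val h
    obtain ⟨d1, d2, d3⟩ := L.distinct
    cases t <;> cases i <;> cases t' <;> cases i' <;> simp only [pw, cond_true, cond_false, one_mul, mul_one] at h' <;>
      first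
        | rfl
        | exact absurd h' L.z1 | exact absurd h'.symm L.z1 | exact absurd h' L.s1 | exact absurd h'.symm L.s1
        | exact absurd h' L.sne | exact absurd h'.symm L.sne | exact absurd h' d1 | exact absurd h'.symm d1
        | exact absurd h' d2 | exact absurd h'.symm d2 | exact absurd h' d3 | exact absurd h'.symm d3
  rw [← Nat.card_congr (Equiv.ofBijective _ hb)]
  simp

/-- An element permuting `z, s, s z` as a swap does normalises the four-group. -/
theorem four_conj {k : G} (ht : k * s * k⁻¹ = z ∨ k * (s * z) * k⁻¹ = z)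
    (hz : k * z * k⁻¹ = s ∨ k * z * k⁻¹ = s * z) : ∀ c ∈ L.four, k * c * k⁻¹ ∈ L.four := by
  have hzm : k * z * k⁻¹ ∈ L.four := hz.elim (fun e => e ▸ L.s_four) fun e => e ▸ L.sz_four
  have hsm : k * s * k⁻¹ ∈ L.four := by
    rcases ht with e | e
    · exact e ▸ L.z_four
    · have : k * s * k⁻¹ = k * (s * z) * k⁻¹ * (k * z * k⁻¹)⁻¹ := by group
      rw [this, e]
      exact mul_mem L.z_four (inv_mem hzm)
  intro c hc
  rcases L.four_cases hc with rfl | rfl | rfl | rfl
  · simp [one_mem]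
  · exact hzm
  · exact hsm
  · have : k * (s * z) * k⁻¹ = k * s * k⁻¹ * (k * z * k⁻¹) := by group
    rw [this]; exact mul_mem hsm hzm

/-- `C(D) ∩ C(z)`. -/
theorem cenD_z {c : G} (hc : c ∈ cenD ε) (hz : Commute c z) :
    ∃ m : Tri, ∃ τ ∈ L.four, c = ε m * τ := by
  obtain ⟨m, t, i, rfl⟩ := L.cD c hz (L.mem_cenD.1 hc).1 (L.mem_cenD.1 hc).2
  exact ⟨m, _, ⟨t, i, rfl⟩, mul_assoc _ _ _⟩

variable [Finite G]

theorem four_max {R : Subgroup G} (hR : IsPGroup 2 R) (hTR : L.four ≤ R) (hRC : R ≤ cenD ε) :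
    R = L.four := by
  have : Fact (Nat.Prime 2) := ⟨Nat.prime_two⟩
  by_contra hne
  have : Group.IsNilpotent R := hR.isNilpotent
  have hlt : L.four.subgroupOf R < ⊤ := by
    refine lt_top_iff_ne_top.2 fun e => hne (le_antisymm ?_ hTR)
    rwa [Subgroup.subgroupOf_eq_top] at e
  obtain ⟨⟨y, hy⟩, hyN, hy'⟩ :=
    SetLike.exists_of_lt (Group.normalizerCondition_of_isNilpotent (L.four.subgroupOf R) hlt)
  refine hy' ?_
  have hperm : ∀ c ∈ L.four, y * c * y⁻¹ ∈ L.four := fun c hc =>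
    (Subgroup.mem_normalizer_iff.1 hyN ⟨c, hTR hc⟩).1 hc
  have key : ∀ w, ∀ R' : Subgroup G, IsPGroup 2 R' → L.four ≤ R' → R' ≤ cenD ε → w ∈ R' → Commute w z →
      w ∈ L.four := by
    intro w R' hR' hT' hC' hw hwz
    obtain ⟨m, τ, hτ, rfl⟩ := L.cenD_z (hC' hw) hwz
    have hm : ε m ∈ R' := by
      have := mul_mem hw (inv_mem (hT' hτ))
      rwa [mul_inv_cancel_right] at this
    obtain ⟨j, hj⟩ := hR' ⟨_, hm⟩
    have hj' : ε m ^ 2 ^ j = 1 := congrArg Subtype.val hj
    have := pow_gcd_eq_one.2 ⟨L.cube m, hj'⟩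
    rw [show Nat.gcd 3 (2 ^ j) = 1 from Nat.Coprime.pow_right j (by norm_num), pow_one] at this
    rw [this, one_mul]
    exact hτ
  -- an element of `T` fixed by `y`
  have hfix : y * z * y⁻¹ = z ∨ y * s * y⁻¹ = s ∨ y * (s * z) * y⁻¹ = s * z := by
    obtain ⟨j, hj⟩ := hR ⟨y, hy⟩
    have hj' : y ^ 2 ^ j = 1 := congrArg Subtype.val hj
    obtain ⟨d1, d2, d3⟩ := L.distinct
    have inj : ∀ {a b : G}, y * a * y⁻¹ = y * b * y⁻¹ → a = b := fun h =>
      mul_left_cancel (mul_right_cancel h)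
    have ne1 : ∀ {a : G}, a ≠ 1 → y * a * y⁻¹ ≠ 1 := fun ha h => ha (inj (h.trans (by group)))
    rcases L.four_cases (hperm z L.z_four) with a | a | a | a
    · exact absurd a (ne1 L.z1)
    · exact Or.inl a
    · rcases L.four_cases (hperm s L.s_four) with b | b | b | b
      · exact absurd b (ne1 L.s1)
      · refine Or.inr (Or.inr ?_)
        calc y * (s * z) * y⁻¹ = (y * s * y⁻¹) * (y * z * y⁻¹) := by group
          _ = s * z := by rw [a, b, L.sz.eq]
      · exact Or.inr (Or.inl b)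
      · refine Or.inl (fix_three hj' a b ?_)
        calc y * (s * z) * y⁻¹ = (y * s * y⁻¹) * (y * z * y⁻¹) := by group
          _ = z := by rw [a, b, mul_assoc, ← L.sz.eq, ← mul_assoc, L.ssq, one_mul]
    · rcases L.four_cases (hperm s L.s_four) with b | b | b | b
      · exact absurd b (ne1 L.s1)
      · refine Or.inl (fix_three hj' a ?_ b)
        calc y * (s * z) * y⁻¹ = (y * s * y⁻¹) * (y * z * y⁻¹) := by group
          _ = s := by rw [a, b, ← mul_assoc, ← L.sz.eq, mul_assoc, L.zsq, mul_one]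
      · exact Or.inr (Or.inl b)
      · exact absurd (inj (a.trans b.symm)) (Ne.symm L.sne)
  have aux : ∀ k t : G, k * t * k⁻¹ = z → (∀ c ∈ L.four, k * c * k⁻¹ ∈ L.four) →
      (∀ a, inD a → ∃ a', inD a' ∧ k * ε a * k⁻¹ = ε a') → Commute y t → y ∈ L.four := by
    intro k t hkt hkT hkD hyt
    set f := (MulAut.conj k).toMonoidHom
    have hT : L.four.map f = L.four := by
      refine Subgroup.eq_of_le_of_card_ge (by rintro _ ⟨c, hc, rfl⟩; exact hkT c hc) ?_
      rw [Subgroup.card_map_of_injective (MulAut.conj k).injective]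
    have h1 : k * y * k⁻¹ ∈ L.four := by
      refine key _ (R.map f) (hR.map f) (hT.symm.le.trans (Subgroup.map_mono hTR)) ?_ ⟨y, hy, rfl⟩ ?_
      · rintro _ ⟨c, hc, rfl⟩
        exact L.conj_cenD (L.norm_inv hkD) (hRC hc)
      · have := hyt.map f
        change Commute (k * y * k⁻¹) (k * t * k⁻¹) at this
        rwa [hkt] at this
    rw [← hT] at h1
    obtain ⟨c, hc, e⟩ := h1
    have e' : k * c * k⁻¹ = k * y * k⁻¹ := e
    rwa [← mul_left_cancel (mul_right_cancel e')]
  rcases hfix with h | h | h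
  · exact key y R hR hTR hRC hy (mul_inv_eq_iff_eq_mul.1 h)
  · obtain ⟨k, hks, hkz, hkD⟩ := L.swap
    exact aux k s hks (L.four_conj (Or.inl hks) hkz) hkD (mul_inv_eq_iff_eq_mul.1 h)
  · obtain ⟨k, hks, hkz, hkD⟩ := L.swap'
    exact aux k (s * z) hks (L.four_conj (Or.inr hks) hkz) hkD (mul_inv_eq_iff_eq_mul.1 h)

end Loc

end Cfsg.Agent.Lib.SuzM11H6
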