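import Cfsg.Agent.Lib.SuzM11H6.Space
import Cfsg.Agent.Lib.SuzType52.Main

/-!
# Suzuki type: the elementary abelian subgroup of order `27` of `C(z)`

Owner: helper6.
-/

set_option autoImplicit false

namespace Cfsg.Agent.Lib.SuzM11H6

open Cfsg.Agent.Lib.SuzType52

variable {G : Type*} [Group G] {z : G} {Q : Subgroup G} {co : G → ℕ} {ac : G → ℕ → ℕ}

/-- An element of `C(z)` acting as `φ`. -/
def Im (z : G) (ac : G → ℕ → ℕ) (c : G) (φ : ℕ → ℕ) : Prop :=
  Commute c z ∧ ∀ k < 64, ac c k = φ k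

theorem Im.cast {c : G} {φ ψ : ℕ → ℕ} (hc : Im z ac c φ) (e : ∀ k < 64, φ k = ψ k) : Im z ac c ψ :=
  ⟨hc.1, fun k hk => (hc.2 k hk).trans (e k hk)⟩

theorem Im.unique {c : G} {φ ψ : ℕ → ℕ} (hc : Im z ac c φ) (hc' : Im z ac c ψ) :
    ∀ k < 64, φ k = ψ k :=
  fun k hk => (hc.2 k hk).symm.trans (hc'.2 k hk)

section
variable (h : Frame z Q co ac)
include h

theorem Im.mul {c d : G} {φ ψ : ℕ → ℕ} (hc : Im z ac c φ) (hd : Im z ac d ψ) :
    Im z ac (c * d) fun k => φ (ψ k) :=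
  ⟨hc.1.mul_left hd.1, fun k hk => by
    show ac (c * d) k = φ (ψ k)
    rw [h.ac_mul hc.1 hd.1 hk, hc.2 _ (h.ac_lt hd.1 hk), hd.2 k hk]⟩

theorem Im.of_mem {q : G} (hq : q ∈ Q) : Im z ac q fun k => k :=
  ⟨h.es.comm q hq, fun _ hk => h.ac_Q hq hk⟩

theorem Im.mem {c : G} (hc : Im z ac c fun k => k) : c ∈ Q := h.faithful c hc.1 hc.2

theorem Im.inv_el {c : G} {a : Tri} (hc : Im z ac c (el a)) : Im z ac c⁻¹ (el (-a)) :=
  ⟨hc.1.inv_left, fun k hk => by
    have hl := (iso_el (-a)).lt k hk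
    have e : ac c (el (-a) k) = k := by rw [hc.2 _ hl, el_add a (-a) k hk, add_neg_cancel, el_zero]
    conv_lhs => rw [← e]
    exact h.ac_inv hc.1 hl⟩

/-- Conjugation of rotations by an element acting as a map permuting them. -/
theorem Im.conj_el {c y : G} {φ : ℕ → ℕ} {a b : Tri} (hc : Im z ac c φ) (hy : Im z ac y (el a))
    (e : ∀ k < 64, φ (el a k) = el b (φ k)) : Im z ac (c * y * c⁻¹) (el b) :=
  ⟨(hc.1.mul_left hy.1).mul_left hc.1.inv_left, fun k hk => by
    have hl := h.ac_lt hc.1.inv_left hk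
    rw [h.ac_conj hy.1 hc.1 hk, hy.2 _ hl, hc.2 _ ((iso_el a).lt _ hl), e _ hl, ← hc.2 _ hl,
      h.ac_inv' hc.1 hk]⟩

theorem exists_im_el : ∀ a : Tri, ∃ c, Im z ac c (el a) := by
  have h1 : ∀ φ ∈ [r0, r1, rf], ∃ c, Im z ac c φ := by
    intro φ hφ
    simp only [List.mem_cons, List.not_mem_nil, or_false] at hφ
    rcases hφ with rfl | rfl | rfl
    · obtain ⟨c, hc, hk⟩ := h.exists_pair 3 (by norm_num) 13 (by norm_num) (by decide) (by decide)
      exact ⟨c, hc, hk⟩
    · obtain ⟨c, hc, hk⟩ := h.exists_pair 7 (by norm_num) 12 (by norm_num) (by decide) (by decide)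
      exact ⟨c, hc, hk⟩
    · obtain ⟨c, hc, hk⟩ := h.exists_pair 16 (by norm_num) 32 (by norm_num) (by decide) (by decide)
      exact ⟨c, hc, hk⟩
  have h2 : ∀ φ ∈ [r0, r1, rf], ∀ n, ∃ c, Im z ac c (rp φ n) := by
    intro φ hφ n
    obtain ⟨c, hc⟩ := h1 φ hφ
    match n with
    | 0 => exact ⟨1, Im.of_mem h (one_mem Q)⟩
    | 1 => exact ⟨c, hc⟩
    | _ + 2 => exact ⟨c * c, (Im.mul h hc hc).cast fun _ _ => rfl⟩
  intro a
  obtain ⟨c, hc⟩ := h2 r0 (by simp) a.1.val
  obtain ⟨d, hd⟩ := h2 r1 (by simp) a.2.1.val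
  obtain ⟨e, he⟩ := h2 rf (by simp) a.2.2.val
  exact ⟨c * (d * e), (Im.mul h hc (Im.mul h hd he)).cast fun _ _ => rfl⟩

/-- The preimage of the rotation group. -/
def rotK : Subgroup G where
  carrier := {c | ∃ a : Tri, Im z ac c (el a)}
  one_mem' := ⟨0, Im.of_mem h (one_mem Q)⟩
  mul_mem' := by
    rintro c d ⟨a, ha⟩ ⟨b, hb⟩
    exact ⟨a + b, (Im.mul h ha hb).cast (el_add a b)⟩
  inv_mem' := by
    rintro c ⟨a, ha⟩
    exact ⟨-a, ha.inv_el h⟩

theorem exists_eps [Finite G] : ∃ ε : Tri → G, (∀ a b, ε (a + b) = ε a * ε b) ∧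
    (∀ a, Im z ac (ε a) (el a)) := by
  classical
  have : Fact (Nat.Prime 3) := ⟨Nat.prime_three⟩
  let ψ : rotK h →* Multiplicative Tri :=
    { toFun := fun c => Multiplicative.ofAdd c.2.choose
      map_one' := by
        refine congrArg Multiplicative.ofAdd (el_inj fun k hk => ?_)
        have := (1 : rotK h).2.choose_spec.2 k hk
        rw [el_zero, ← this]
        exact h.ac_Q (one_mem Q) hk
      map_mul' := fun c d => by
        rw [← ofAdd_add]
        refine congrArg Multiplicative.ofAdd (el_inj fun k hk => ?_)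
        exact ((c * d).2.choose_spec.unique
          ((Im.mul h c.2.choose_spec d.2.choose_spec).cast (el_add _ _))) k hk }
  have hψ : ∀ c : rotK h, Im z ac (c : G) (el (ψ c).toAdd) := fun c => c.2.choose_spec
  have hsurj : Function.Surjective ψ := fun a => by
    obtain ⟨c, hc⟩ := exists_im_el h a.toAdd
    refine ⟨⟨c, a.toAdd, hc⟩, ?_⟩
    exact Multiplicative.toAdd.injective (el_inj ((hψ ⟨c, a.toAdd, hc⟩).unique hc))
  obtain ⟨S⟩ : Nonempty (Sylow 3 (rotK h)) := inferInstance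
  have hMp : IsPGroup 3 (Multiplicative Tri) := IsPGroup.of_card (n := 3) (by simp)
  have himg : (S : Subgroup (rotK h)).map ψ = ⊤ := by
    obtain ⟨n, hn⟩ := IsPGroup.iff_card.1 (hMp.to_subgroup ((S : Subgroup (rotK h)).map ψ))
    obtain ⟨m, hm⟩ := hMp.index ((S : Subgroup (rotK h)).map ψ)
    have hdvd : ((S : Subgroup (rotK h)).map ψ).index ∣ (S : Subgroup (rotK h)).index :=
      Subgroup.index_map_dvd _ hsurj
    rw [hm] at hdvd
    rcases Nat.eq_zero_or_pos m with rfl | hm0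
    · rw [← Subgroup.index_eq_one, hm, pow_zero]
    · exact absurd ((dvd_pow_self 3 hm0.ne').trans hdvd) S.not_dvd_index
  have hinj : Function.Injective (ψ.comp (S : Subgroup (rotK h)).subtype) := by
    rw [injective_iff_map_eq_one]
    intro c hc
    have h0 := hψ c.1
    change ψ c.1 = 1 at hc
    rw [hc] at h0
    have hQ : ((c : rotK h) : G) ∈ Q := Im.mem h (h0.cast fun k _ => el_zero k)
    obtain ⟨k, hk⟩ := S.2 c
    have h2 : ((c : rotK h) : G) ^ 128 = 1 := by
      have : ((⟨_, hQ⟩ : Q) : Q) ^ Nat.card Q = 1 := pow_card_eq_one'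
      rw [h.card] at this
      exact congrArg Subtype.val this
    have h3 : ((c : rotK h) : G) ^ 3 ^ k = 1 := by
      have := congrArg (fun x : (S : Subgroup (rotK h)) => ((x : rotK h) : G)) hk
      simpa using this
    have : ((c : rotK h) : G) = 1 := by
      have := pow_gcd_eq_one.2 ⟨h2, h3⟩
      rwa [show Nat.gcd 128 (3 ^ k) = 1 from Nat.Coprime.pow_right k (by norm_num), pow_one] at this
    exact Subtype.ext (Subtype.ext this)
  have hbij : Function.Bijective (ψ.comp (S : Subgroup (rotK h)).subtype) := by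
    refine ⟨hinj, fun a => ?_⟩
    have ha : a ∈ (S : Subgroup (rotK h)).map ψ := himg ▸ Subgroup.mem_top a
    obtain ⟨c, hc, rfl⟩ := ha
    exact ⟨⟨c, hc⟩, rfl⟩
  let e := MulEquiv.ofBijective _ hbij
  refine ⟨fun a => (((e.symm (Multiplicative.ofAdd a)) : rotK h) : G), fun a b => ?_, fun a => ?_⟩
  · simp only [ofAdd_add, map_mul, Subgroup.coe_mul]
  · have := hψ (e.symm (Multiplicative.ofAdd a)).1
    have he : ψ (e.symm (Multiplicative.ofAdd a)).1 = Multiplicative.ofAdd a := e.apply_symm_apply _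
    rwa [he] at this

end

/-- The three axes and the two kinds of other lines. -/
theorem line_kinds : ∀ a : Tri, 2 ≤ wt a → ∃ w : List (Fin 4),
    w.length ≤ 4 ∧
      let b := w.foldr (fun i x => if i = 0 then ts x else if i = 1 then tp x else if i = 2 then ti x
        else tn x) a
      b ∈ [((1 : ZMod 3), (1 : ZMod 3), (0 : ZMod 3)), (2, 2, 0), (1, 1, 1), (2, 2, 2)] := by
  intro a ha
  have key : ∀ a : Tri, 2 ≤ wt a → (([] :: [[0], [1], [2], [3], [2, 1], [3, 1], [1, 0], [0, 1], [2, 1, 0],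
      [2, 0, 1], [3, 0, 1], [3, 1, 0], [0, 2], [1, 3], [2, 3]]).any fun w : List (Fin 4) =>
      decide ((w.foldr (fun i x => if i = 0 then ts x else if i = 1 then tp x else if i = 2 then ti x
        else tn x) a) ∈ [((1 : ZMod 3), (1 : ZMod 3), (0 : ZMod 3)), (2, 2, 0), (1, 1, 1), (2, 2, 2)])) =
      true := by decide +kernel
  obtain ⟨w, hw, hw'⟩ := List.any_eq_true.1 (key a ha)
  refine ⟨w, ?_, of_decide_eq_true hw'⟩
  simp only [List.mem_cons, List.not_mem_nil, or_false] at hw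
  rcases hw with rfl | rfl | rfl | rfl | rfl | rfl | rfl | rfl | rfl | rfl | rfl | rfl | rfl | rfl | rfl | rfl <;>
    simp

end Cfsg.Agent.Lib.SuzM11H6
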