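import Cfsg.Agent.Lib.SuzM11H6.Lifts

/-!
# Suzuki type: an involution over `eich 4` centralising a subgroup of order nine

`f = ε (0, 0, 1)`, `g = ε (1, 1, 0)`, `D = ⟨f, g⟩`.

Owner: helper6.
-/

set_option autoImplicit false

namespace Cfsg.Agent.Lib.SuzM11H6

open Cfsg.Agent.Lib.SuzType52

variable {G : Type*} [Group G] {z : G} {Q : Subgroup G} {co : G → ℕ} {ac : G → ℕ → ℕ}

/-- The exponents of `f`. -/
def af : Tri := (0, 0, 1)

/-- The exponents of `g`. -/
def ag : Tri := (1, 1, 0)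

/-- The exponents of `D`. -/
def inD (a : Tri) : Prop := a.1 = a.2.1

instance (a : Tri) : Decidable (inD a) := inferInstanceAs (Decidable (a.1 = a.2.1))

/-- The elementary abelian group with its action. -/
structure Eps (z : G) (Q : Subgroup G) (co : G → ℕ) (ac : G → ℕ → ℕ) (ε : Tri → G) : Prop where
  fr : Frame z Q co ac
  add : ∀ a b, ε (a + b) = ε a * ε b
  im : ∀ a, Im z ac (ε a) (el a)

theorem odd_no_inv {r x : G} (hr : r ^ 3 = 1) (hx : x ^ 3 = 1) (h : r * x * r⁻¹ = x⁻¹) : x = 1 := by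
  have h2 : r * r * x * (r * r)⁻¹ = x := by
    calc r * r * x * (r * r)⁻¹ = r * (r * x * r⁻¹) * r⁻¹ := by group
      _ = r * x⁻¹ * r⁻¹ := by rw [h]
      _ = (r * x * r⁻¹)⁻¹ := by group
      _ = x := by rw [h, inv_inv]
  have h3 : r * r * r = 1 := by rw [← pow_three', hr]
  have h4 : r⁻¹ = r * r := inv_eq_of_mul_eq_one_right (by rw [← mul_assoc, h3])
  rw [← h4] at h2
  have h5 : r⁻¹ * x * r = x := by simpa using h2
  have h6 : x⁻¹ = x := by
    calc x⁻¹ = r * x * r⁻¹ := h.symm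
      _ = r * (r⁻¹ * x * r) * r⁻¹ := by rw [h5]
      _ = x := by group
  have h7 : x * x = 1 := by
    calc x * x = x⁻¹ * x := by rw [h6]
      _ = 1 := inv_mul_cancel x
  rw [pow_three, h7, mul_one] at hx
  exact hx

namespace Eps

variable {ε : Tri → G} (E : Eps z Q co ac ε)
include E

theorem zero : ε 0 = 1 := by
  have := E.add 0 0
  rwa [add_zero, left_eq_mul] at this

theorem neg (a : Tri) : ε (-a) = (ε a)⁻¹ := by
  refine (inv_eq_of_mul_eq_one_right ?_).symm
  rw [← E.add, add_neg_cancel, E.zero]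

theorem comm (a b : Tri) : Commute (ε a) (ε b) := by
  show ε a * ε b = ε b * ε a
  rw [← E.add, ← E.add, add_comm]

theorem cz (a : Tri) : Commute (ε a) z := (E.im a).1

theorem cube (a : Tri) : ε a ^ 3 = 1 := by
  have h3 : a + (a + a) = 0 := (by decide +kernel : ∀ a : Tri, a + (a + a) = 0) a
  rw [pow_three, ← E.add, ← E.add, h3, E.zero]

theorem inj {a b : Tri} (h : ε a = ε b) : a = b := el_inj ((E.im a).unique (h ▸ E.im b))

theorem eq_one {a : Tri} (h : ε a = 1) : a = 0 := E.inj (h.trans E.zero.symm)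

/-- An element of `Q` commutes with `ε a` if its code is fixed. -/
theorem commute_iff {q : G} (hq : q ∈ Q) (a : Tri) : Commute (ε a) q ↔ el a (co q) = co q := by
  have hc : co (ε a * q * (ε a)⁻¹) = el a (co q) := by
    rw [E.fr.conj _ (E.cz a) q hq, (E.im a).2 _ (E.fr.co_lt q hq)]
  constructor
  · intro h
    rw [← hc, mul_inv_eq_iff_eq_mul.2 h.eq]
  · intro h
    have hm := E.fr.norm _ (E.cz a) q hq
    rcases E.fr.co_eq hq hm (h ▸ hc).symm with e | e
    · exact mul_inv_eq_iff_eq_mul.1 e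
    · exfalso
      have hzq : ε a * z * (ε a)⁻¹ = z := mul_inv_eq_iff_eq_mul.2 (E.cz a).eq
      have e2 : ε a * (ε a * q * (ε a)⁻¹) * (ε a)⁻¹ = q := by
        rw [e, show ε a * (q * z) * (ε a)⁻¹ = (ε a * q * (ε a)⁻¹) * (ε a * z * (ε a)⁻¹) by group, e, hzq,
          mul_assoc, E.fr.es.sq, mul_one]
      have h3 : ε a * ε a = (ε a)⁻¹ := by
        refine (inv_eq_of_mul_eq_one_right ?_).symm
        rw [← pow_three, E.cube]
      have e3 : (ε a)⁻¹ * q * ε a = q := by
        calc (ε a)⁻¹ * q * ε a = ε a * ε a * q * (ε a * ε a)⁻¹ := by rw [h3, inv_inv]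
          _ = q := by conv_rhs => rw [← e2]
                      group
      have : q * z = q := by
        calc q * z = ε a * q * (ε a)⁻¹ := e.symm
          _ = ε a * ((ε a)⁻¹ * q * ε a) * (ε a)⁻¹ := by rw [e3]
          _ = q := by group
      exact E.fr.es.ne (mul_eq_left.1 this)

/-- The subgroup of exponent three. -/
def grp : Subgroup G where
  carrier := Set.range ε
  one_mem' := ⟨0, E.zero⟩
  mul_mem' := by
    rintro _ _ ⟨a, rfl⟩ ⟨b, rfl⟩
    exact ⟨a + b, E.add a b⟩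
  inv_mem' := by
    rintro _ ⟨a, rfl⟩
    exact ⟨-a, E.neg a⟩

theorem card_grp : Nat.card E.grp = 27 := by
  have : Nat.card E.grp = Nat.card Tri :=
    (Nat.card_congr (Equiv.ofInjective ε fun a b h => E.inj h)).symm
  rw [this]
  simp

theorem card_rotK [Finite G] : Nat.card (rotK E.fr) = 27 * 128 := by
  have hb : Function.Bijective (fun p : Tri × Q => (⟨ε p.1 * p.2, p.1,
      ((E.im p.1).mul E.fr (Im.of_mem E.fr p.2.2)).cast fun _ _ => rfl⟩ : rotK E.fr)) := by
    constructor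
    · rintro ⟨a, q⟩ ⟨b, r⟩ h
      have h' : ε a * q = ε b * r := congrArg Subtype.val h
      have hab : a = b := el_inj (((E.im a).mul E.fr (Im.of_mem E.fr q.2)).unique
        (h' ▸ (E.im b).mul E.fr (Im.of_mem E.fr r.2)))
      subst hab
      exact Prod.ext rfl (Subtype.ext (mul_left_cancel h'))
    · rintro ⟨c, a, hc⟩
      have hq : (ε a)⁻¹ * c ∈ Q := by
        refine Im.mem E.fr (((E.im a).inv_el E.fr |>.mul E.fr hc).cast fun k hk => ?_)
        rw [el_add _ _ k hk, neg_add_cancel, el_zero]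
      exact ⟨(a, ⟨_, hq⟩), Subtype.ext (mul_inv_cancel_left _ _)⟩
  rw [← Nat.card_congr (Equiv.ofBijective _ hb), Nat.card_prod, E.fr.card]
  congr 1
  simp

/-- Adjusting an element permuting the rotations to normalise the group of exponent three. -/
theorem exists_norm [Finite G] {c : G} {φ : ℕ → ℕ} {T : Tri → Tri} (hc : Im z ac c φ)
    (hT : ∀ a, ∀ k < 64, φ (el a k) = el (T a) (φ k)) :
    ∃ c', Im z ac c' φ ∧ ∀ a, c' * ε a * c'⁻¹ = ε (T a) := by
  have : Fact (Nat.Prime 3) := ⟨Nat.prime_three⟩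
  set E' := E.grp.map (MulAut.conj c).toMonoidHom with hE'
  have hle : E.grp ≤ rotK E.fr := by rintro _ ⟨a, rfl⟩; exact ⟨a, E.im a⟩
  have hle' : E' ≤ rotK E.fr := by
    rintro _ ⟨_, ⟨a, rfl⟩, rfl⟩
    exact ⟨T a, Im.conj_el E.fr hc (E.im a) (hT a)⟩
  have hc' : Nat.card E' = 27 := by
    rw [hE', Subgroup.card_map_of_injective (MulAut.conj c).injective, E.card_grp]
  have mk : ∀ H : Subgroup G, H ≤ rotK E.fr → Nat.card H = 27 →
      ∃ S : Sylow 3 (rotK E.fr), (S : Subgroup (rotK E.fr)) = H.subgroupOf (rotK E.fr) := by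
    intro H hH hn
    have hn' : Nat.card (H.subgroupOf (rotK E.fr)) = 27 :=
      (Nat.card_congr (Subgroup.subgroupOfEquivOfLe hH).toEquiv).trans hn
    have hp : IsPGroup 3 (H.subgroupOf (rotK E.fr)) := IsPGroup.of_card (n := 3) hn'
    refine ⟨hp.toSylow ?_, rfl⟩
    have := Subgroup.card_mul_index (H.subgroupOf (rotK E.fr))
    rw [hn', E.card_rotK] at this
    omega
  obtain ⟨S, hS⟩ := mk _ hle E.card_grp
  obtain ⟨S', hS'⟩ := mk _ hle' hc'
  obtain ⟨⟨k, m, hm⟩, hk⟩ := MulAction.exists_smul_eq (rotK E.fr) S' S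
  have hq : (ε m)⁻¹ * k ∈ Q := by
    refine Im.mem E.fr (((E.im m).inv_el E.fr |>.mul E.fr hm).cast fun j hj => ?_)
    rw [el_add _ _ j hj, neg_add_cancel, el_zero]
  set q := (ε m)⁻¹ * k with hqdef
  have hi : Im z ac (q * c) φ := ((Im.of_mem E.fr hq).mul E.fr hc).cast fun _ _ => rfl
  refine ⟨q * c, hi, fun a => ?_⟩
  have hmem : (⟨c * ε a * c⁻¹, hle' ⟨_, ⟨a, rfl⟩, rfl⟩⟩ : rotK E.fr) ∈ (S' : Subgroup (rotK E.fr)) := by
    rw [hS']
    exact ⟨_, ⟨a, rfl⟩, rfl⟩
  have h2 : (⟨k, m, hm⟩ : rotK E.fr) * ⟨c * ε a * c⁻¹, hle' ⟨_, ⟨a, rfl⟩, rfl⟩⟩ * (⟨k, m, hm⟩ : rotK E.fr)⁻¹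
      ∈ (S : Subgroup (rotK E.fr)) := by
    rw [← hk, Sylow.coe_subgroup_smul]
    exact ⟨_, hmem, rfl⟩
  rw [hS] at h2
  obtain ⟨b, hb⟩ := h2
  have e : q * c * ε a * (q * c)⁻¹ = ε b := by
    have hb' : ε b = k * (c * ε a * c⁻¹) * k⁻¹ := hb
    calc q * c * ε a * (q * c)⁻¹ = (ε m)⁻¹ * (k * (c * ε a * c⁻¹) * k⁻¹) * ε m := by rw [hqdef]; group
      _ = ε b := by rw [← hb', mul_assoc, (E.comm b m).eq, inv_mul_cancel_left]
  rw [e]
  exact congrArg ε (el_inj (((E.im b)).unique (e ▸ Im.conj_el E.fr hi (E.im a) (hT a))))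

theorem ac_commute {c : G} (hc : Commute c z) {a : Tri} (h : Commute c (ε a)) :
    ∀ k < 64, ac c (el a k) = el a (ac c k) := fun k hk => by
  rw [← (E.im a).2 k hk, ← E.fr.ac_mul hc (E.cz a) hk, h.eq, E.fr.ac_mul (E.cz a) hc hk,
    (E.im a).2 _ (E.fr.ac_lt hc hk)]

theorem mem_Q_commute {q : G} (hq : q ∈ Q) (hf : Commute q (ε af)) (hg : Commute q (ε ag)) :
    q = 1 ∨ q = z := by
  refine E.fr.co_zero q hq ?_
  have h1 := (E.commute_iff hq af).1 hf.symm
  have h2 := (E.commute_iff hq ag).1 hg.symm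
  exact (by decide +kernel : ∀ k < 64, el af k = k → el ag k = k → k = 0) _ (E.fr.co_lt q hq) h1 h2

theorem ac_cD {c : G} (hc : Commute c z) (hf : Commute c (ε af)) (hg : Commute c (ε ag)) :
    ∃ m : Tri, ∃ t : Bool, ∀ k < 64, ac c k = el m (sw t k) := by
  obtain ⟨-, -, r2, r3⟩ := rots_el
  refine cD (E.fr.iso hc) (fun k hk => ?_) fun k hk => ?_
  · rw [r3 k hk, r3 _ (E.fr.ac_lt hc hk)]
    exact E.ac_commute hc hg k hk
  · rw [r2 k hk, r2 _ (E.fr.ac_lt hc hk)]
    exact E.ac_commute hc hf k hk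

end Eps

theorem el_sw_eich : ∀ m : Tri, ∀ t : Bool, (∀ k ∈ units, el m (sw t k) = eich 4 k) → m = 0 ∧ t = true := by
  decide +kernel

theorem el_sw_id : ∀ m : Tri, ∀ t : Bool, (∀ k ∈ units, el m (sw t k) = k) → m = 0 ∧ t = false := by
  decide +kernel

theorem el_sw_comm : ∀ m : Tri, ∀ t : Bool,
    (∀ k ∈ units, el m (sw t (eich 4 k)) = eich 4 (el m (sw t k))) → inD m := by
  decide +kernel

theorem units_lt : ∀ k ∈ units, k < 64 := by decide

/-- The involution centralising `D` together with the group. -/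
structure Base (z : G) (Q : Subgroup G) (co : G → ℕ) (ac : G → ℕ → ℕ) (x n : G) (ε : Tri → G) (s : G) :
    Prop where
  duo : Duo z Q co ac x n
  eps : Eps z Q co ac ε
  s_im : Im z ac s (eich 4)
  s_sq : s * s = 1
  sf : Commute s (ε af)
  sg : Commute s (ε ag)

variable {x n : G} (d : Duo z Q co ac x n)
include d

theorem card_fibre (L : List ℕ) (hL : L.Nodup) (hL' : ∀ k ∈ L, k < 64) :
    Nat.card {r : G // r ∈ Q ∧ co r ∈ L} = 2 * L.length := by
  classical
  choose! R hR using d.fr.co_surj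
  have hb : Function.Bijective (fun p : Fin L.length × Bool => (⟨R (L.get p.1) * pw z p.2, by
      have h1 := hR _ (hL' _ (L.get_mem p.1))
      have hz : pw z p.2 ∈ Q := by
        cases p.2
        · exact one_mem Q
        · exact d.fr.es.mem
      refine ⟨mul_mem h1.1 hz, ?_⟩
      have : co (pw z p.2) = 0 := by
        cases p.2
        · exact d.fr.co_one
        · exact d.fr.co_z
      rw [d.fr.co_mul _ h1.1 _ hz, h1.2, this, Nat.xor_zero]
      exact L.get_mem p.1⟩ : {r : G // r ∈ Q ∧ co r ∈ L})) := by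
    constructor
    · rintro ⟨i, a⟩ ⟨j, b⟩ h
      have h' : R (L.get i) * pw z a = R (L.get j) * pw z b := congrArg Subtype.val h
      have h1 := hR _ (hL' _ (L.get_mem i))
      have h2 := hR _ (hL' _ (L.get_mem j))
      have hz : ∀ a, pw z a ∈ Q ∧ co (pw z a) = 0 := fun a => by
        cases a
        · exact ⟨one_mem Q, d.fr.co_one⟩
        · exact ⟨d.fr.es.mem, d.fr.co_z⟩
      have hco := congrArg co h'
      rw [d.fr.co_mul _ h1.1 _ (hz a).1, d.fr.co_mul _ h2.1 _ (hz b).1, h1.2, h2.2, (hz a).2, (hz b).2,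
        Nat.xor_zero, Nat.xor_zero] at hco
      obtain rfl := hL.get_inj_iff.1 hco
      have := mul_left_cancel h'
      cases a <;> cases b <;> first | rfl | exact absurd this d.fr.es.ne | exact absurd this.symm d.fr.es.ne
    · rintro ⟨r, hr, hL2⟩
      obtain ⟨i, hi⟩ := List.mem_iff_get.1 hL2
      have h1 := hR _ (hL' _ (L.get_mem i))
      rcases d.fr.co_eq h1.1 hr (h1.2.trans hi) with e | e
      · exact ⟨(i, false), Subtype.ext (by simp [pw, e])⟩
      · exact ⟨(i, true), Subtype.ext (by simp [pw, e])⟩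
  rw [← Nat.card_congr (Equiv.ofBijective _ hb)]
  simp [mul_comm]

/-- The involutions of the coset of `eich 4`. -/
theorem card_coset :
    Nat.card {t : G // Im z ac t (eich 4) ∧ t * t = 1} = 8 := by
  obtain ⟨w, hw, hwa⟩ := d.lift 4 (by decide)
  have h4 : (4 : ℕ) ∈ v4 := by decide
  have hwi : Im z ac w (eich 4) := ⟨hw.2, hwa⟩
  have hF : ∀ r, InA Q co r → Form Q co ac n z (w * r) 4 (co r &&& 60) := fun r hr =>
    ⟨w, r, hw, hwa, hr, rfl, rfl⟩
  have key : ∀ k < 64, (eich 4 k = k ∧ bn 4 (k &&& 60) = false ∧ qn (k &&& 60) = false) ↔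
      k ∈ [0, 1, 4, 5] := by decide +kernel
  have hb1 : ∀ k < 64, eich 4 k = k → b1 k = false := by decide +kernel
  have e : {t : G // Im z ac t (eich 4) ∧ t * t = 1} ≃ {r : G // r ∈ Q ∧ co r ∈ [0, 1, 4, 5]} := by
    refine (Equiv.mulLeft w⁻¹).subtypeEquiv fun t => ?_
    simp only [Equiv.coe_mulLeft]
    constructor
    · rintro ⟨ht, ht2⟩
      have hr : w⁻¹ * t ∈ Q := d.fr.faithful _ (hw.2.inv_left.mul_left ht.1) fun k hk => by
        rw [d.fr.ac_mul hw.2.inv_left ht.1 hk, ht.2 k hk, ← hwa k hk, d.fr.ac_inv hw.2 hk]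
      refine ⟨hr, (key _ (d.fr.co_lt _ hr)).1 ?_⟩
      have hfix : eich 4 (co (w⁻¹ * t)) = co (w⁻¹ * t) := by
        have hm := d.fr.norm t ht.1 _ hr
        rw [← ht.2 _ (d.fr.co_lt _ hr), ← d.fr.conj t ht.1 _ hr]
        have hww : w * w = 1 := (d.sq_act 4 h4 w hw hwa).trans rfl
        have : t * (w⁻¹ * t) * t⁻¹ = (w⁻¹ * t)⁻¹ := by
          rw [mul_inv_rev, inv_inv, inv_eq_of_mul_eq_one_right ht2, inv_eq_of_mul_eq_one_right hww,
            mul_assoc, mul_assoc w, ht2, mul_one]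
        rw [this, d.fr.co_inv hr]
      have hA : InA Q co (w⁻¹ * t) := ⟨hr, hb1 _ (d.fr.co_lt _ hr) hfix⟩
      have hs := d.form_sq h4 (hF _ hA)
      rw [mul_inv_cancel_left, ht2, ← d.ee_zero] at hs
      obtain ⟨e1, e2⟩ := d.ee_inj hs
      rw [show qn 4 = false by decide, Bool.xor_false] at e1
      rw [← e1, Bool.false_xor] at e2
      exact ⟨hfix, e1.symm, e2.symm⟩
    · rintro ⟨hr, hL⟩
      obtain ⟨k1, k2, k3⟩ := (key _ (d.fr.co_lt _ hr)).2 hL
      have hA : InA Q co (w⁻¹ * t) := ⟨hr, hb1 _ (d.fr.co_lt _ hr) k1⟩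
      have hs := d.form_sq h4 (hF _ hA)
      rw [mul_inv_cancel_left, k2, k3, show qn 4 = false by decide] at hs
      refine ⟨?_, hs.trans d.ee_zero⟩
      have := Im.mul d.fr hwi (Im.of_mem d.fr hr)
      rw [mul_inv_cancel_left] at this
      exact this.cast fun _ _ => rfl
  rw [Nat.card_congr e, card_fibre d _ (by decide) (by decide)]
  rfl

theorem exists_base [Finite G] : ∃ ε s, Base z Q co ac x n ε s := by
  classical
  have : Fact (Nat.Prime 3) := ⟨Nat.prime_three⟩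
  obtain ⟨ε, h1, h2⟩ := exists_eps d.fr
  have E : Eps z Q co ac ε := ⟨d.fr, h1, h2⟩
  let X := {t : G // Im z ac t (eich 4) ∧ t * t = 1}
  have hmem : ∀ a, inD a → ∀ t : X, Im z ac (ε a * t.1 * (ε a)⁻¹) (eich 4) ∧
      ε a * t.1 * (ε a)⁻¹ * (ε a * t.1 * (ε a)⁻¹) = 1 := fun a ha t => by
    refine ⟨⟨((E.cz a).mul_left t.2.1.1).mul_left (E.cz a).inv_left, fun k hk => ?_⟩, ?_⟩
    · have hl := d.fr.ac_lt (E.cz a).inv_left hk
      rw [d.fr.ac_conj t.2.1.1 (E.cz a) hk, t.2.1.2 _ hl, (E.im a).2 _ (iso_eich.lt _ hl)]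
      have e := eich_el a _ hl
      rw [show (a.2.1, a.1, a.2.2) = a by obtain ⟨a, b, c⟩ := a; cases ha; rfl] at e
      rw [← e, ← (E.im a).2 _ hl, d.fr.ac_inv' (E.cz a) hk]
    · rw [show ε a * t.1 * (ε a)⁻¹ * (ε a * t.1 * (ε a)⁻¹) = ε a * (t.1 * t.1) * (ε a)⁻¹ by group, t.2.2]
      group
  have hperm : ∀ a, inD a → ∃ σ : Equiv.Perm X, σ ^ 3 ^ 1 = 1 ∧ ∀ t, (σ t).1 = ε a * t.1 * (ε a)⁻¹ := by
    intro a ha
    have ha2 : inD (a + a) := by simp only [inD, Prod.fst_add, Prod.snd_add] at ha ⊢; rw [ha]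
    have h3 : ε a * ε (a + a) = 1 := by rw [E.add, ← pow_three, E.cube]
    let σ : Equiv.Perm X :=
      { toFun := fun t => ⟨_, hmem a ha t⟩
        invFun := fun t => ⟨_, hmem _ ha2 t⟩
        left_inv := fun t => Subtype.ext (by
          show ε (a + a) * (ε a * t.1 * (ε a)⁻¹) * (ε (a + a))⁻¹ = t.1
          rw [E.add, show ε a * ε a = (ε a)⁻¹ from (inv_eq_of_mul_eq_one_right (by rw [← E.add, h3])).symm]
          group)
        right_inv := fun t => Subtype.ext (by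
          show ε a * (ε (a + a) * t.1 * (ε (a + a))⁻¹) * (ε a)⁻¹ = t.1
          rw [E.add, show ε a * ε a = (ε a)⁻¹ from (inv_eq_of_mul_eq_one_right (by rw [← E.add, h3])).symm]
          group) }
    refine ⟨σ, ?_, fun t => rfl⟩
    refine Equiv.ext fun t => Subtype.ext ?_
    show ε a * (ε a * (ε a * t.1 * (ε a)⁻¹) * (ε a)⁻¹) * (ε a)⁻¹ = t.1
    calc _ = (ε a * ε a * ε a) * t.1 * (ε a * ε a * ε a)⁻¹ := by group
      _ = t.1 := by rw [mul_assoc (ε a), ← pow_three, E.cube]; group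
  obtain ⟨σ, hσ, hσv⟩ := hperm af rfl
  obtain ⟨τ, hτ, hτv⟩ := hperm ag rfl
  have hcomm : Commute σ τ := by
    refine Equiv.ext fun t => Subtype.ext ?_
    show (σ (τ t)).1 = (τ (σ t)).1
    rw [hσv, hτv, hτv, hσv]
    calc _ = (ε af * ε ag) * t.1 * (ε af * ε ag)⁻¹ := by group
      _ = (ε ag * ε af) * t.1 * (ε ag * ε af)⁻¹ := by rw [(E.comm af ag).eq]
      _ = _ := by group
  have : Fintype X := Fintype.ofFinite X
  have hX : Fintype.card X = 8 := by rw [← Nat.card_eq_fintype_card]; exact card_coset d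
  let F := {t : X // σ t = t}
  let τ' : Equiv.Perm F := τ.subtypePerm fun t => by
    constructor
    · intro h
      rw [← Equiv.Perm.mul_apply, hcomm.eq, Equiv.Perm.mul_apply] at h
      exact τ.injective h
    · intro h
      rw [← Equiv.Perm.mul_apply, hcomm.eq, Equiv.Perm.mul_apply, h]
  have hF : ¬ 3 ∣ Fintype.card F := by
    have := Equiv.Perm.card_compl_support_modEq (p := 3) (n := 1) hσ
    rw [hX] at this
    have e : Fintype.card F = (Equiv.Perm.support σ)ᶜ.card := by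
      rw [Fintype.card_subtype]
      congr 1
      ext t
      simp
    rw [e]
    unfold Nat.ModEq at this
    omega
  obtain ⟨⟨t, ht⟩, ht'⟩ := Equiv.Perm.exists_fixed_point_of_prime (n := 1) hF (σ := τ') (by
    refine Equiv.ext fun t => Subtype.ext ?_
    have e : τ (τ (τ t.1)) = t.1 := by
      have := DFunLike.congr_fun hτ t.1
      rwa [pow_one, pow_three] at this
    rw [pow_one, pow_three]
    exact e)
  refine ⟨ε, t.1, d, E, t.2.1, t.2.2, ?_, ?_⟩
  · have := congrArg Subtype.val ht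
    rw [hσv] at this
    exact (mul_inv_eq_iff_eq_mul.1 this).symm
  · have h' : τ t = t := congrArg Subtype.val ht'
    have := congrArg Subtype.val h'
    rw [hτv] at this
    exact (mul_inv_eq_iff_eq_mul.1 this).symm

end Cfsg.Agent.Lib.SuzM11H6
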