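import Cfsg.Agent.Lib.SuzM11H6.Quot
import Cfsg.Agent.Lib.SuzM11H6.Count
import Cfsg.Agent.Lib.RecogThree.M11.Unique
import Cfsg.Agent.Lib.Involutions.BaerSuzuki

/-!
# Suzuki type: `N(A) / A` is `M₁₁` and the Sylow `3`-subgroup

Owner: helper6.
-/

set_option autoImplicit false

namespace Cfsg.Agent.Lib.SuzM11H6

variable {G : Type*} [Group G] {z s : G} {ε : Tri → G}

/-- The normaliser of `A`. -/
abbrev nA (ε : Tri → G) : Subgroup G := Subgroup.normalizer (bigA ε : Set G)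

/-- The elements of `N(A)` fixing the line of `f`. -/
abbrev nAf (ε : Tri → G) : Subgroup G :=
  nA ε ⊓ Subgroup.normalizer ((Subgroup.zpowers (ε af)) : Set G)

/-- `A` as a subgroup of its normaliser. -/
abbrev bigA' (ε : Tri → G) : Subgroup (nA ε) := (bigA ε).subgroupOf (nA ε)

/-- The axis of exponents of weight one. -/
def axIdx (a : Tri) : Fin 3 := if a.1 ≠ 0 then 0 else if a.2.1 ≠ 0 then 1 else 2

theorem axIdx_eq : ∀ a b : Tri, (wt a = 1 ∧ wt b = 1 ∧ axIdx a = axIdx b) → (a = b ∨ a = -b) := by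
  decide +kernel

theorem wt_neg : ∀ a : Tri, wt (-a) = wt a := by decide +kernel

theorem wt_cases : ∀ a : Tri, a = 0 ∨ wt a = 1 ∨ 2 ≤ wt a := by decide +kernel

theorem ts_neg : ∀ a : Tri, ts a = -a → a = 0 ∨ wt a = 2 := by decide +kernel

theorem axis_images : axIdx af = 2 ∧ axIdx (tp af) = 1 ∧ axIdx (ts (tp af)) = 0 ∧ wt (tp af) = 1 ∧
    wt (ts (tp af)) = 1 ∧ tp af ≠ af ∧ tp af ≠ -af := by decide +kernel

theorem mem_zpowers_f {g : G} (hg : g ∈ Subgroup.zpowers (ε af)) (h3 : ε af ^ 3 = 1) :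
    g = 1 ∨ g = ε af ∨ g = (ε af)⁻¹ := by
  obtain ⟨k, rfl⟩ := Subgroup.mem_zpowers_iff.1 hg
  rw [zpow_eq_zpow_emod' k h3]
  have h1 := Int.emod_nonneg k (show ((3 : ℕ) : ℤ) ≠ 0 by norm_num)
  have h2 := Int.emod_lt_of_pos k (show (0 : ℤ) < ((3 : ℕ) : ℤ) by norm_num)
  have h4 : k % ((3 : ℕ) : ℤ) = 0 ∨ k % ((3 : ℕ) : ℤ) = 1 ∨ k % ((3 : ℕ) : ℤ) = 2 := by omega
  rcases h4 with e | e | e <;> rw [e]
  · exact Or.inl (zpow_zero _)
  · exact Or.inr (Or.inl (zpow_one _))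
  · refine Or.inr (Or.inr ?_)
    rw [show (2 : ℤ) = ((2 : ℕ) : ℤ) from rfl, zpow_natCast]
    exact (inv_eq_of_mul_eq_one_right (by rw [pow_two, ← pow_three, h3])).symm

namespace Loc

variable (L : Loc z s ε) [Finite G]
include L

omit [Finite G] in
theorem f_ne_one : ε af ≠ 1 := fun e => af_ne.1 (L.inj _ _ (e.trans L.zero.symm))

theorem mem_nA {c : G} (h : ∀ a, inD a → ∃ a', inD a' ∧ c * ε a * c⁻¹ = ε a') : c ∈ nA ε := by
  refine Subgroup.mem_normalizer_iff.2 fun a => ⟨fun ha => L.conj_bigA h ha, fun ha => ?_⟩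
  have := L.conj_bigA (k := c⁻¹) (fun a ha => by
    obtain ⟨a', ha', e⟩ := L.norm_inv h a ha
    exact ⟨a', ha', by rwa [inv_inv]⟩) ha
  rwa [inv_inv, show c⁻¹ * (c * a * c⁻¹) * c = a by group] at this

theorem bigA_le_nAf : bigA ε ≤ nAf ε := fun a ha => by
  refine ⟨Subgroup.le_normalizer ha, Subgroup.mem_normalizer_iff.2 fun g => ?_⟩
  have hc : ∀ {g : G}, g ∈ Subgroup.zpowers (ε af) → Commute a g := fun {g} hg => by
    obtain ⟨k, rfl⟩ := Subgroup.mem_zpowers_iff.1 hg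
    exact (L.bigA_comm a ha _ (L.eps_bigA af)).zpow_right k
  constructor
  · intro hg
    rwa [mul_inv_eq_iff_eq_mul.2 (hc hg).eq]
  · intro hg
    have h1 := hc hg
    have : a * g * a⁻¹ = g := by
      calc a * g * a⁻¹ = a⁻¹ * (a * (a * g * a⁻¹)) * 1 := by group
        _ = a⁻¹ * (a * g * a⁻¹ * a) * 1 := by rw [h1.eq]
        _ = g := by group
    rwa [this] at hg

theorem mem_nAf {c : G} (hc : c ∈ nA ε)
    (h : c * ε af * c⁻¹ = ε af ∨ c * ε af * c⁻¹ = (ε af)⁻¹) : c ∈ nAf ε := by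
  refine ⟨hc, ?_⟩
  have hmap : (Subgroup.zpowers (ε af)).map (MulAut.conj c).toMonoidHom = Subgroup.zpowers (ε af) := by
    rw [MonoidHom.map_zpowers]
    show Subgroup.zpowers (c * ε af * c⁻¹) = _
    rcases h with e | e <;> rw [e]
    exact Subgroup.zpowers_inv
  refine Subgroup.mem_normalizer_iff.2 fun g => ?_
  conv_rhs => rw [← hmap]
  exact (Subgroup.mem_map_iff_mem (MulAut.conj c).injective).symm

theorem nAf_f {c : G} (hc : c ∈ nAf ε) :
    c * ε af * c⁻¹ = ε af ∨ c * ε af * c⁻¹ = (ε af)⁻¹ := by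
  have h := (Subgroup.mem_normalizer_iff.1 hc.2 _).1 (Subgroup.mem_zpowers (ε af))
  rcases mem_zpowers_f h (L.cube af) with e | e | e
  · exfalso
    exact L.f_ne_one (by simpa using e)
  · exact Or.inl e
  · exact Or.inr e

/-- `C(z)` in the quotient comes from `C(z) ∩ N(A)`. -/
theorem lift_comm {h : G} (hh : h ∈ nA ε) {a : G} (ha : a ∈ bigA ε) (e : h * z * h⁻¹ = a * z) :
    ∃ c ∈ nz z ε, ∃ b ∈ bigA ε, h = b * c := by
  have haz : a * z * (a * z) = 1 := by rw [← e]; rw [show h * z * h⁻¹ * (h * z * h⁻¹) = h * (z * z) * h⁻¹ by group, L.zsq]; group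
  have hza : z * a⁻¹ * z = a := by
    have h1 : a * (z * a * z) = 1 := by rw [← haz]; group
    calc z * a⁻¹ * z = (z * z) * (z⁻¹ * a⁻¹ * z⁻¹) * (z * z) := by group
      _ = (z * a * z)⁻¹ := by rw [L.zsq]; group
      _ = a := (eq_inv_of_mul_eq_one_left h1).symm
  refine ⟨a * h, ⟨mul_mem (Subgroup.le_normalizer ha) hh, Subgroup.mem_centralizer_singleton_iff.2 ?_⟩,
    a⁻¹, inv_mem ha, by group⟩
  have h3 : a * a * a = 1 := by rw [← pow_three', L.bigA_cube a ha]
  calc a * h * z = a * (h * z * h⁻¹) * h := by group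
    _ = (a * a) * z * h := by rw [e]; group
    _ = (z * z) * (a * a) * z * h := by rw [L.zsq, one_mul]
    _ = z * (z * (a * a) * z) * h := by group
    _ = z * (a * h) := by
      rw [show a * a = a⁻¹ from (inv_eq_of_mul_eq_one_right (by rw [← mul_assoc, h3])).symm, hza]
      group

/-- An element of `N(A)` centralising a line-conjugate under `z`. -/
theorem lines {h : G} (hh : h ∈ nA ε) (hS : h⁻¹ * z * h ∈ nAf ε) : ∃ c ∈ nz z ε, c * h ∈ nAf ε := by
  set l := h * ε af * h⁻¹ with hl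
  have hlA : l ∈ bigA ε := (Subgroup.mem_normalizer_iff.1 hh _).1 (L.eps_bigA af)
  have hl1 : l ≠ 1 := fun e => L.f_ne_one (by rw [hl] at e; simpa using e)
  have hcase : z * l * z⁻¹ = l ∨ z * l * z⁻¹ = l⁻¹ := by
    rcases L.nAf_f hS with e | e
    · left
      calc z * l * z⁻¹ = h * (h⁻¹ * z * h * ε af * (h⁻¹ * z * h)⁻¹) * h⁻¹ := by rw [hl]; group
        _ = l := by rw [e]
    · right
      calc z * l * z⁻¹ = h * (h⁻¹ * z * h * ε af * (h⁻¹ * z * h)⁻¹) * h⁻¹ := by rw [hl]; group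
        _ = l⁻¹ := by rw [e, hl]; group
  rcases hcase with e | e
  · obtain ⟨m, hm⟩ := (L.bigA_z hlA).1 (mul_inv_eq_iff_eq_mul.1 e).symm
    rcases wt_cases m with hw | hw | hw
    · exact absurd (by rw [hm, hw, L.zero]) hl1
    · obtain ⟨p, hpz, hp⟩ := L.perm12
      have key : ∀ m : Tri, wt m = 1 → (m = af ∨ m = -af) ∨ (tp m = af ∨ tp m = -af) ∨
          (tp (ts m) = af ∨ tp (ts m) = -af) := by decide +kernel
      have hpN : p ∈ nz z ε := L.mem_nz.2 ⟨fun a => ⟨_, hp a⟩, hpz⟩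
      have finish : ∀ c ∈ nz z ε, ∀ m', (m' = af ∨ m' = -af) → c * l * c⁻¹ = ε m' →
          ∃ c ∈ nz z ε, c * h ∈ nAf ε := by
        intro c hc m' hm' e'
        refine ⟨c, hc, L.mem_nAf (mul_mem hc.1 hh) ?_⟩
        rw [show c * h * ε af * (c * h)⁻¹ = c * (h * ε af * h⁻¹) * c⁻¹ by group, ← hl, e']
        rcases hm' with rfl | rfl
        · exact Or.inl rfl
        · exact Or.inr (L.neg af)
      rcases key m hw with k | k | k
      · exact finish 1 (one_mem _) m k (by rw [hm]; group)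
      · exact finish p hpN _ k (by rw [hm, hp])
      · refine finish (p * s) (mul_mem hpN L.s_nz) _ k ?_
        rw [hm, show p * s * ε m * (p * s)⁻¹ = p * (s * ε m * s⁻¹) * p⁻¹ by group, L.sconj, hp]
    · exact absurd (hl.symm.trans hm) (L.axis_ne hw h)
  · exfalso
    obtain ⟨b, hb, hbs, hbz, hb1⟩ := L.exists_minus (Or.inl rfl)
    obtain ⟨-, -, -, -, htrans⟩ := L.exists_gl
    obtain ⟨c, hc, hcl⟩ := htrans l hlA b hb e hbz hl1 hb1
    obtain ⟨k, hks, hkz, hkD⟩ := L.swap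
    have hkb : k * b * k⁻¹ ∈ bigA ε := L.conj_bigA hkD hb
    have hkbz : Commute (k * b * k⁻¹) z := by
      have := hbs.map (MulAut.conj k).toMonoidHom
      change Commute (k * b * k⁻¹) (k * s * k⁻¹) at this
      rwa [hks] at this
    obtain ⟨w, hw⟩ := (L.bigA_z hkb).1 hkbz
    have hinv : k * z * k⁻¹ * ε w * (k * z * k⁻¹)⁻¹ = ε (-w) := by
      rw [L.neg, ← hw]
      calc k * z * k⁻¹ * (k * b * k⁻¹) * (k * z * k⁻¹)⁻¹ = k * (z * b * z⁻¹) * k⁻¹ := by group
        _ = _ := by rw [hbz]; group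
    have hts : ts w = -w := by
      refine L.inj _ _ ?_
      rw [← L.sconj]
      rcases hkz with e' | e' <;> rw [e'] at hinv
      · exact hinv
      · rw [← hinv]
        calc s * ε w * s⁻¹ = s * (z * ε w * z⁻¹) * s⁻¹ := by
              rw [mul_inv_eq_iff_eq_mul.2 (L.cz w).symm.eq]
          _ = _ := by group
    rcases ts_neg w hts with hw0 | hw2
    · rw [hw0, L.zero] at hw
      exact hb1 (by simpa using hw)
    · refine L.axis_ne (a := w) (by omega) (k * c * h) ?_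
      rw [show k * c * h * ε af * (k * c * h)⁻¹ = k * (c * (h * ε af * h⁻¹) * c⁻¹) * k⁻¹ by group, ← hl,
        hcl, hw]

/-- The stabiliser of the line meets `C(z)` in index three. -/
theorem index_stab : ((nAf ε).subgroupOf (nz z ε)).index = 3 := by
  classical
  obtain ⟨p, hpz, hp⟩ := L.perm12
  have hpN : p ∈ nz z ε := L.mem_nz.2 ⟨fun a => ⟨_, hp a⟩, hpz⟩
  set M := (nAf ε).subgroupOf (nz z ε)
  have himg : ∀ c : nz z ε, ∃ m, wt m = 1 ∧ (c : G) * ε af * (c : G)⁻¹ = ε m := fun c => by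
    obtain ⟨hN, hc⟩ := L.mem_nz.1 c.2
    obtain ⟨m, hm⟩ := hN af
    exact ⟨m, (L.weight c hc af m hm).trans wt_af.1, hm⟩
  choose μ hμ1 hμ2 using himg
  have hiff : ∀ c d : nz z ε, c⁻¹ * d ∈ M ↔ axIdx (μ c) = axIdx (μ d) := by
    intro c d
    constructor
    · intro hm
      have hm' : (c : G)⁻¹ * d ∈ nAf ε := hm
      have hd : μ d = μ c ∨ μ d = -(μ c) := by
        rcases L.nAf_f hm' with e | e
        · refine Or.inl (L.inj _ _ ?_)
          rw [← hμ2 c, ← hμ2 d]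
          conv_rhs => rw [← e]
          group
        · refine Or.inr (L.inj _ _ ?_)
          rw [L.neg, ← hμ2 c, ← hμ2 d]
          rw [show ((c : G) * ε af * (c : G)⁻¹)⁻¹ = (c : G) * (ε af)⁻¹ * (c : G)⁻¹ by group, ← e]
          group
      rcases hd with e | e
      · rw [e]
      · rw [e]
        exact (by decide +kernel : ∀ a : Tri, axIdx a = axIdx (-a)) _
    · intro h
      show (c : G)⁻¹ * d ∈ nAf ε
      refine L.mem_nAf (mul_mem (inv_mem c.2.1) d.2.1) ?_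
      rcases axIdx_eq _ _ ⟨hμ1 c, hμ1 d, h⟩ with e | e
      · left
        rw [show (c : G)⁻¹ * d * ε af * ((c : G)⁻¹ * d)⁻¹ = (c : G)⁻¹ * ((d : G) * ε af * (d : G)⁻¹) * c by group,
          hμ2 d, ← e, ← hμ2 c]
        group
      · right
        rw [show (c : G)⁻¹ * d * ε af * ((c : G)⁻¹ * d)⁻¹ = (c : G)⁻¹ * ((d : G) * ε af * (d : G)⁻¹) * c by group,
          hμ2 d, show μ d = -(μ c) by rw [e, neg_neg], L.neg, ← hμ2 c]
        group
  let F : nz z ε ⧸ M → Fin 3 := Quotient.lift (fun c => axIdx (μ c))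
    (fun c d h => (hiff c d).1 (QuotientGroup.leftRel_apply.1 h))
  have hF : Function.Bijective F := by
    constructor
    · intro q q'
      induction q using QuotientGroup.induction_on with
      | _ c =>
        induction q' using QuotientGroup.induction_on with
        | _ d => exact fun h => QuotientGroup.eq.2 ((hiff c d).2 h)
    · intro i
      obtain ⟨a2, a1, a0, w1, w0, -, -⟩ := axis_images
      have h2 : axIdx (μ 1) = 2 := by
        have : μ 1 = af := L.inj _ _ (by rw [← hμ2 1]; simp)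
        rw [this, a2]
      have h1 : axIdx (μ ⟨p, hpN⟩) = 1 := by
        have : μ ⟨p, hpN⟩ = tp af := L.inj _ _ (by rw [← hμ2 ⟨p, hpN⟩]; exact hp af)
        rw [this, a1]
      have h0 : axIdx (μ ⟨s * p, mul_mem L.s_nz hpN⟩) = 0 := by
        have : μ ⟨s * p, mul_mem L.s_nz hpN⟩ = ts (tp af) := L.inj _ _ (by
          rw [← hμ2 ⟨s * p, mul_mem L.s_nz hpN⟩]
          rw [show s * p * ε af * (s * p)⁻¹ = s * (p * ε af * p⁻¹) * s⁻¹ by group, hp, L.sconj])
        rw [this, a0]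
      fin_cases i
      · exact ⟨QuotientGroup.mk _, h0⟩
      · exact ⟨QuotientGroup.mk _, h1⟩
      · exact ⟨QuotientGroup.mk _, h2⟩
  rw [Subgroup.index_eq_card, Nat.card_congr (Equiv.ofBijective F hF)]
  simp

theorem bigA'_normal : (bigA' ε).Normal := Subgroup.normal_in_normalizer

theorem iso_M11 : (∃ _ : (bigA' ε).Normal, Cfsg.Spor.IsoM11 (nA ε ⧸ bigA' ε) ∧
      IsSimpleGroup (nA ε ⧸ bigA' ε) ∧ ∀ i : nA ε ⧸ bigA' ε, orderOf i = 2 →
        ∃ g, g * QuotientGroup.mk ⟨z, L.z_nz.1⟩ * g⁻¹ = i) ∧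
    9 ∣ Nat.card ↥((nAf ε).subgroupOf (nA ε)) / Nat.card (bigA' ε) ∧
    Nat.card (nA ε) = 243 * 7920 := by
  classical
  haveI := L.bigA'_normal
  set π := QuotientGroup.mk' (bigA' ε) with hπ
  have hker : ∀ {c : nA ε}, π c = 1 ↔ (c : G) ∈ bigA ε := fun {c} => by
    rw [hπ, QuotientGroup.mk'_apply, QuotientGroup.eq_one_iff]
    rfl
  have hπeq : ∀ {c d : nA ε}, π c = π d ↔ (c : G)⁻¹ * d ∈ bigA ε := fun {c d} => by
    rw [hπ, QuotientGroup.mk'_apply, QuotientGroup.mk'_apply, QuotientGroup.eq]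
    rfl
  have hzN : z ∈ nA ε := L.z_nz.1
  have hsN : s ∈ nA ε := L.s_nz.1
  have hzA : z ∉ bigA ε := fun h => L.z1 (L.bigA_spec.2.2.2.1 z h L.z_four)
  set t := π ⟨z, hzN⟩ with ht
  set r := π ⟨s, hsN⟩ with hr
  have hfact : Fact (Nat.Prime 2) := ⟨Nat.prime_two⟩
  have hto : orderOf t = 2 := orderOf_eq_prime (by
    rw [ht, ← map_pow, hker]
    show z ^ 2 ∈ _
    rw [pow_two, L.zsq]; exact one_mem _) (fun e => hzA (hker.1 e))
  have hro : orderOf r = 2 := orderOf_eq_prime (by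
    rw [hr, ← map_pow, hker]
    show s ^ 2 ∈ _
    rw [pow_two, L.ssq]; exact one_mem _) (fun e => L.s1 (L.bigA_spec.2.2.2.1 s (hker.1 e) L.s_four))
  have hrt : r ≠ t := fun e => by
    have hm := hπeq.1 e
    have hinv : s⁻¹ = s := inv_eq_of_mul_eq_one_right L.ssq
    change s⁻¹ * z ∈ bigA ε at hm
    rw [hinv] at hm
    exact L.distinct.1 (L.bigA_spec.2.2.2.1 _ hm L.sz_four)
  have hrc : Commute r t := by
    have : Commute (⟨s, hsN⟩ : nA ε) ⟨z, hzN⟩ := Subtype.ext L.sz.eq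
    exact this.map π
  have hconj : ∃ g, g * r * g⁻¹ = t := by
    obtain ⟨k, hks, -, hkD⟩ := L.swap
    refine ⟨π ⟨k, L.mem_nA hkD⟩, ?_⟩
    rw [hr, ← map_inv, ← map_mul, ← map_mul]
    exact congrArg π (Subtype.ext hks)
  -- the centraliser of `t`
  have hlift : ∀ g, Commute g t → ∃ c : nz z ε, π ⟨c, c.2.1⟩ = g := by
    intro g hg
    obtain ⟨⟨h, hh⟩, rfl⟩ := QuotientGroup.mk'_surjective _ g
    have e : π (⟨h, hh⟩ * ⟨z, hzN⟩ * ⟨h, hh⟩⁻¹) = π ⟨z, hzN⟩ := by
      rw [map_mul, map_mul, map_inv, ← ht]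
      exact mul_inv_eq_iff_eq_mul.2 hg.eq
    have hm : h * z * h⁻¹ * z⁻¹ ∈ bigA ε := by
      have h1 : π (⟨h, hh⟩ * ⟨z, hzN⟩ * ⟨h, hh⟩⁻¹ * ⟨z, hzN⟩⁻¹) = 1 := by
        rw [map_mul, e, map_inv, mul_inv_cancel]
      exact hker.1 h1
    obtain ⟨c, hc, b, hb, hbc⟩ := L.lift_comm hh (a := h * z * h⁻¹ * z⁻¹) hm (inv_mul_cancel_right _ z).symm
    refine ⟨⟨c, hc⟩, hπeq.2 ?_⟩
    show c⁻¹ * h ∈ bigA ε
    rw [hbc]
    have := (Subgroup.mem_normalizer_iff.1 (inv_mem hc.1) b).1 hb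
    rwa [inv_inv, mul_assoc] at this
  let ι : nz z ε →* Subgroup.centralizer ({t} : Set (nA ε ⧸ bigA' ε)) :=
    { toFun := fun c => ⟨π ⟨c, c.2.1⟩, Subgroup.mem_centralizer_singleton_iff.2 (by
        have : Commute (⟨c, c.2.1⟩ : nA ε) ⟨z, hzN⟩ :=
          Subtype.ext (Subgroup.mem_centralizer_singleton_iff.1 c.2.2)
        exact (this.map π).eq)⟩
      map_one' := Subtype.ext (map_one π)
      map_mul' := fun c d => Subtype.ext (map_mul π ⟨c, c.2.1⟩ ⟨d, d.2.1⟩) }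
  have hιs : Function.Surjective ι := fun g => by
    obtain ⟨c, hc⟩ := hlift g.1 (Subgroup.mem_centralizer_singleton_iff.1 g.2)
    exact ⟨c, Subtype.ext hc⟩
  obtain ⟨ρ, hρs, hρA, -, -⟩ := L.exists_gl
  have hkeq : ι.ker = ρ.ker := by
    ext c
    rw [MonoidHom.mem_ker, MonoidHom.mem_ker, hρA]
    exact ⟨fun e => hker.1 (congrArg Subtype.val e), fun e => Subtype.ext (hker.2 e)⟩
  let e : Subgroup.centralizer ({t} : Set (nA ε ⧸ bigA' ε)) ≃* Matrix.GeneralLinearGroup (Fin 2) (ZMod 3) :=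
    (QuotientGroup.quotientKerEquivOfSurjective ι hιs).symm.trans
      ((QuotientGroup.quotientMulEquivOfEq hkeq).trans (QuotientGroup.quotientKerEquivOfSurjective ρ hρs))
  -- the stabiliser of the line
  set SN := (nAf ε).subgroupOf (nA ε) with hSN
  have hAS : bigA' ε ≤ SN := fun a ha => L.bigA_le_nAf ha
  set S := SN.map π with hS
  have hmemS : ∀ {c : nA ε}, π c ∈ S ↔ (c : G) ∈ nAf ε := fun {c} => by
    constructor
    · rintro ⟨d, hd, e⟩
      have h1 : (d : G)⁻¹ * c ∈ bigA ε := hπeq.1 e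
      have := mul_mem (show (d : G) ∈ nAf ε from hd) (L.bigA_le_nAf h1)
      rwa [mul_inv_cancel_left] at this
    · exact fun h => ⟨c, h, rfl⟩
  have hS16 : Nat.card ↥(S ⊓ Subgroup.centralizer ({t} : Set (nA ε ⧸ bigA' ε))) = 16 := by
    let M := (nAf ε).subgroupOf (nz z ε)
    have hkM : ι.ker ≤ M := fun c hc => L.bigA_le_nAf ((hker (c := ⟨c, c.2.1⟩)).1 (congrArg Subtype.val (MonoidHom.mem_ker.1 hc) :))
    have hmap : M.map ι = S.subgroupOf (Subgroup.centralizer ({t} : Set (nA ε ⧸ bigA' ε))) := by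
      ext g
      constructor
      · rintro ⟨c, hc, rfl⟩
        exact hmemS.2 hc
      · intro hg
        obtain ⟨c, rfl⟩ := hιs g
        exact ⟨c, hmemS.1 hg, rfl⟩
    have hidx : (S.subgroupOf (Subgroup.centralizer ({t} : Set (nA ε ⧸ bigA' ε)))).index = 3 := by
      rw [← hmap, Subgroup.index_map_eq M hιs hkM]
      exact L.index_stab
    have h48 : Nat.card (Subgroup.centralizer ({t} : Set (nA ε ⧸ bigA' ε))) = 48 := Induced.GL23Exceptional.card_centralizer e
    have h1 := Subgroup.card_mul_index (S.subgroupOf (Subgroup.centralizer ({t} : Set (nA ε ⧸ bigA' ε))))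
    rw [hidx, h48] at h1
    have h2 : Nat.card ↥(S.subgroupOf (Subgroup.centralizer ({t} : Set (nA ε ⧸ bigA' ε)))) = Nat.card ↥(S ⊓ (Subgroup.centralizer ({t} : Set (nA ε ⧸ bigA' ε)))) := by
      rw [← Subgroup.inf_subgroupOf_right, Nat.card_congr (Subgroup.subgroupOfEquivOfLe inf_le_right).toEquiv]
    omega
  have hne : S ≠ ⊤ := fun e => by
    obtain ⟨p, hpz, hp⟩ := L.perm12
    have hpN : p ∈ nz z ε := L.mem_nz.2 ⟨fun a => ⟨_, hp a⟩, hpz⟩
    have := hmemS.1 (e ▸ Subgroup.mem_top (π ⟨p, hpN.1⟩))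
    obtain ⟨-, -, -, -, -, n1, n2⟩ := axis_images
    rcases L.nAf_f this with e' | e' <;> rw [hp] at e'
    · exact n1 (L.inj _ _ e')
    · exact n2 (L.inj _ _ (e'.trans (L.neg af).symm))
  have hzS : t ∈ S := hmemS.2 (L.mem_nAf hzN (Or.inl (mul_inv_eq_iff_eq_mul.2 (L.cz af).symm.eq)))
  have hsS : r ∈ S := hmemS.2 (L.mem_nAf hsN (Or.inl (mul_inv_eq_iff_eq_mul.2 (L.s_comm inD_af.1).eq)))
  have h11 : ∀ g ∈ S, orderOf g ≠ 11 := by
    intro g hg hg11
    obtain ⟨⟨h, hh⟩, rfl⟩ := QuotientGroup.mk'_surjective _ g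
    have hfix : (h * h) * ε af * (h * h)⁻¹ = ε af := by
      rw [show (h * h) * ε af * (h * h)⁻¹ = h * (h * ε af * h⁻¹) * h⁻¹ by group]
      rcases L.nAf_f (hmemS.1 hg) with e' | e' <;> simp only at e' <;> rw [e']
      · exact e'
      · rw [show h * (ε af)⁻¹ * h⁻¹ = (h * ε af * h⁻¹)⁻¹ by group, e', inv_inv]
    set x : nA ε := ⟨h, hh⟩ * ⟨h, hh⟩ with hx
    have hx11 : orderOf (π x) = 11 := by
      rw [hx, map_mul, ← pow_two, orderOf_pow' _ (by norm_num), hg11]
      norm_num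
    have hp11 : Fact (Nat.Prime 11) := ⟨by norm_num⟩
    have hxA : (x : G) ^ 11 ∈ bigA ε := by
      have h1 : π (x ^ 11) = 1 := by rw [map_pow, ← hx11, pow_orderOf_eq_one]
      exact hker.1 h1
    have hmem : ∀ a : bigA ε, (x : G) * a * (x : G)⁻¹ ∈ bigA ε := fun a =>
      (Subgroup.mem_normalizer_iff.1 x.2 _).1 a.2
    let σ : Equiv.Perm (bigA ε) := Equiv.ofBijective (fun a => ⟨_, hmem a⟩)
      (Finite.injective_iff_bijective.1 fun a b h =>
        Subtype.ext (mul_left_cancel (mul_right_cancel (congrArg Subtype.val h))))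
    have hσn : ∀ (k : ℕ) (a : bigA ε), ((σ ^ k) a : G) = (x : G) ^ k * a * ((x : G) ^ k)⁻¹ := by
      intro k
      induction k with
      | zero => intro a; simp
      | succ k ih =>
        intro a
        rw [pow_succ', Equiv.Perm.mul_apply]
        show (x : G) * ((σ ^ k) a : G) * (x : G)⁻¹ = _
        rw [ih, pow_succ' (x : G)]
        group
    have hσ : σ ^ 11 ^ 1 = 1 := Equiv.ext fun a => Subtype.ext (by
      rw [pow_one, hσn]
      exact mul_inv_eq_iff_eq_mul.2 (L.bigA_comm _ hxA _ a.2).eq)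
    have : Fintype (bigA ε) := Fintype.ofFinite _
    have hmod := Equiv.Perm.card_compl_support_modEq hσ
    set K := bigA ε ⊓ Subgroup.centralizer ({(x : G)} : Set G)
    have hK : Nat.card K = (Equiv.Perm.support σ)ᶜ.card := by
      rw [← Fintype.card_coe, ← Nat.card_eq_fintype_card]
      refine Nat.card_congr
        { toFun := fun a => ⟨⟨a.1, a.2.1⟩, ?_⟩
          invFun := fun a => ⟨a.1.1, a.1.2, ?_⟩
          left_inv := fun a => rfl
          right_inv := fun a => rfl }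
      · rw [Finset.mem_compl, Equiv.Perm.notMem_support]
        exact Subtype.ext (mul_inv_eq_iff_eq_mul.2 (Subgroup.mem_centralizer_singleton_iff.1 a.2.2).symm)
      · have := a.2
        rw [Finset.mem_compl, Equiv.Perm.notMem_support] at this
        exact Subgroup.mem_centralizer_singleton_iff.2 (mul_inv_eq_iff_eq_mul.1 (congrArg Subtype.val this)).symm
    have hdvd : Nat.card K ∣ 3 ^ 5 := by
      have h := Subgroup.card_dvd_of_le (inf_le_left : K ≤ bigA ε)
      rw [L.card_bigA] at h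
      exact h
    have hf : ε af ∈ K := ⟨L.eps_bigA af, Subgroup.mem_centralizer_singleton_iff.2
      (show (ε af : G) * (x : G) = (x : G) * ε af from (mul_inv_eq_iff_eq_mul.1 hfix).symm)⟩
    have hK1 : Nat.card K ≠ 1 := fun h1 => L.f_ne_one (by
      have := (Subgroup.eq_bot_of_card_eq K h1).le hf
      exact Subgroup.mem_bot.1 this)
    rw [← Nat.card_eq_fintype_card, L.card_bigA, ← hK] at hmod
    obtain ⟨j, hj, hKj⟩ := (Nat.dvd_prime_pow Nat.prime_three).1 hdvd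
    have hj5 : j = 5 := by
      rw [hKj] at hmod hK1
      unfold Nat.ModEq at hmod
      interval_cases j <;> simp at hmod hK1 ⊢
    have hKA : K = bigA ε := Subgroup.eq_of_le_of_card_ge inf_le_left (by rw [L.card_bigA, hKj, hj5]; norm_num)
    have hxA' : (x : G) ∈ bigA ε := L.cent_bigA fun a ha => by
      have : a ∈ K := hKA.symm ▸ ha
      exact (Subgroup.mem_centralizer_singleton_iff.1 this.2).symm
    rw [hker.2 hxA', orderOf_one] at hx11
    omega
  obtain ⟨hsimple, hcard, h9, hall⟩ := Count.main hto e hro hrt hrc hconj S hzS hsS hne hS16 (fun g hg => by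
    obtain ⟨⟨h, hh⟩, rfl⟩ := QuotientGroup.mk'_surjective _ g
    rw [ht, ← map_inv, ← map_mul, ← map_mul] at hg
    obtain ⟨c, hc, hch⟩ := L.lines hh (hmemS.1 hg)
    refine ⟨π ⟨c, hc.1⟩, ?_, ?_⟩
    · have : Commute (⟨c, hc.1⟩ : nA ε) ⟨z, hzN⟩ := Subtype.ext (Subgroup.mem_centralizer_singleton_iff.1 hc.2)
      exact this.map π
    · rw [← map_mul]
      exact hmemS.2 hch) h11
  refine ⟨⟨inferInstance, RecogThree.M11.Unique.equiv_M11 hcard, hsimple, hall⟩, ?_, ?_⟩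
  · have h1 : Nat.card SN = Nat.card (bigA' ε) * Nat.card S := by
      have hcomap : S.comap π = SN := by
        rw [hS, Subgroup.comap_map_eq, QuotientGroup.ker_mk', sup_eq_left.2 hAS]
      have h2 := Subgroup.index_comap_of_surjective S (QuotientGroup.mk'_surjective (bigA' ε))
      rw [← hπ, hcomap] at h2
      have h3 := Subgroup.card_mul_index SN
      have h4 := Subgroup.card_mul_index S
      have h5 := Subgroup.card_eq_card_quotient_mul_card_subgroup (bigA' ε)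
      rw [h2] at h3
      have h6 : S.index ≠ 0 := Subgroup.index_ne_zero_of_finite
      apply Nat.eq_of_mul_eq_mul_right (Nat.pos_of_ne_zero h6)
      rw [h3, h5, ← h4]
      ring
    rw [h1, Nat.mul_div_cancel_left _ Nat.card_pos]
    exact h9
  · have h5 := Subgroup.card_eq_card_quotient_mul_card_subgroup (bigA' ε)
    rw [hcard, Nat.card_congr (Subgroup.subgroupOfEquivOfLe (Subgroup.le_normalizer)).toEquiv, L.card_bigA] at h5
    rw [h5]

end Loc

end Cfsg.Agent.Lib.SuzM11H6
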