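import Cfsg.Agent.Lib.SuzM11H6.Core

/-!
# Suzuki type: elements of `C(z)` normalising `E` and fixing the inverted part of `A` lie in `E`

Owner: helper6.
-/

set_option autoImplicit false

namespace Cfsg.Agent.Lib.SuzM11H6

variable {G : Type*} [Group G] {z s : G} {ε : Tri → G}

/-- Exponents after inverting the first and last rotations. -/
def t02 (a : Tri) : Tri := (-a.1, a.2.1, -a.2.2)

/-- A map of the exponents from the images of the three axes. -/
def lin3 (x y w a : Tri) : Tri := a.1.val • x + a.2.1.val • y + a.2.2.val • w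

/-- The images of axes. -/
def axes : List Tri := [(1, 0, 0), (2, 0, 0), (0, 1, 0), (0, 2, 0), (0, 0, 1), (0, 0, 2)]

/-- The even sign changes. -/
def evens : List (Tri → Tri) := [tn, ti, t02]

theorem mem_axes : ∀ a : Tri, wt a = 1 → a ∈ axes := by decide +kernel

theorem wt_axes : wt ((1, 0, 0) : Tri) = 1 ∧ wt ((0, 1, 0) : Tri) = 1 ∧ wt ((0, 0, 1) : Tri) = 1 := by
  decide +kernel

theorem tri_decomp : ∀ a : Tri, a = a.1.val • ((1, 0, 0) : Tri) + a.2.1.val • ((0, 1, 0) : Tri) +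
    a.2.2.val • ((0, 0, 1) : Tri) := by decide +kernel

theorem mono_cases_aux : axes.all (fun x => axes.all fun y => axes.all fun w =>
    !(decide (∀ a : Tri, wt (lin3 x y w a) = wt a)) ||
    decide (∀ a : Tri, lin3 x y w a = a) ||
    (evens.any fun e => decide (∀ a : Tri, lin3 x y w a = e a)) ||
    decide (∀ a : Tri, lin3 x y w a = t0 a) ||
    (evens.any fun e => decide (∀ a : Tri, lin3 x y w a = t0 (e a))) ||
    ([tn, ti].any fun d => evens.any fun e =>
      decide (∀ a : Tri, lin3 x y w (d a) = e (d (lin3 x y w a))))) = true := by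
  decide +kernel

theorem tn_vals : tn af = af ∧ tn ag = -ag := by decide +kernel

namespace Loc

variable (L : Loc z s ε)
include L

/-- The monomial map of an element of `C(z)` normalising `E`. -/
theorem exists_mono [Finite G] {c : G} (hc : Commute c z) (hN : ∀ m, ∃ m', c * ε m * c⁻¹ = ε m') :
    ∃ x ∈ axes, ∃ y ∈ axes, ∃ w ∈ axes, (∀ a, c * ε a * c⁻¹ = ε (lin3 x y w a)) ∧
      ∀ a, wt (lin3 x y w a) = wt a := by
  choose φ hφ using hN
  have hadd : ∀ a b, φ (a + b) = φ a + φ b := fun a b => L.inj _ _ (by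
    rw [L.add, ← hφ, ← hφ, ← hφ, L.add]; group)
  have hw : ∀ a, wt (φ a) = wt a := fun a => L.weight c hc a _ (hφ a)
  let F : Tri →+ Tri := AddMonoidHom.mk' φ hadd
  have hF : ∀ a, φ a = lin3 (φ (1, 0, 0)) (φ (0, 1, 0)) (φ (0, 0, 1)) a := fun a => by
    conv_lhs => rw [tri_decomp a]
    show F _ = _
    rw [map_add, map_add, map_nsmul, map_nsmul, map_nsmul]
    rfl
  exact ⟨_, mem_axes _ ((hw _).trans wt_axes.1), _, mem_axes _ ((hw _).trans wt_axes.2.1), _,
    mem_axes _ ((hw _).trans wt_axes.2.2), fun a => (hF a) ▸ hφ a, fun a => (hF a) ▸ hw a⟩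

/-- An element of the part of `A` inverted by `z` in the centraliser of `s`. -/
theorem exists_minus [Finite G] {t : G} (ht : t = s ∨ t = s * z) : ∃ b ∈ bigA ε,
    Commute b t ∧ z * b * z⁻¹ = b⁻¹ ∧ b ≠ 1 := by
  by_contra hno
  have ht' : t = z ∨ t = s ∨ t = s * z := Or.inr ht
  have htz : t ≠ z := by
    rcases ht with rfl | rfl
    · exact L.sne
    · exact L.distinct.2.1
  have hct : Commute t z := by
    rcases ht with rfl | rfl
    · exact L.sz
    · exact L.sz.mul_left (Commute.refl z)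
  have hsub : ∀ a ∈ bigA ε, Commute a t → ∃ m, inD m ∧ a = ε m := by
    intro a ha hat
    by_contra hna
    have hb : z * a * z⁻¹ ∈ bigA ε := L.conj_z_bigA ha
    have hbt : Commute (z * a * z⁻¹) t := (hct.symm.mul_left hat).mul_left hct.symm.inv_left
    refine hno ⟨a * (z * a * z⁻¹)⁻¹, mul_mem ha (inv_mem hb), hat.mul_left hbt.inv_left, ?_, fun e => ?_⟩
    · have hab := L.bigA_comm a ha _ hb
      have hzi : z⁻¹ = z := inv_eq_of_mul_eq_one_right L.zsq
      calc z * (a * (z * a * z⁻¹)⁻¹) * z⁻¹ = (z * a * z⁻¹) * ((z * z) * a⁻¹ * (z * z)⁻¹) := by group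
        _ = (a * (z * a * z⁻¹)⁻¹)⁻¹ := by rw [L.zsq]; group
    · have haz : Commute a z := by
        have := (mul_inv_eq_one.1 e).symm
        exact (mul_inv_eq_iff_eq_mul.1 this).symm
      exact hna (L.inD_of_two ht' (Or.inl rfl) htz ha hat haz)
  have h27 : Nat.card ↥(bigA ε ⊓ Subgroup.centralizer ({t} : Set G)) = 27 := by
    rcases ht with rfl | rfl
    · exact L.card_cent_s
    · exact L.card_cent_sz
  have hle := Nat.card_le_card_of_surjective
    (fun m : {a : Tri // inD a} => (⟨ε m.1, L.eps_bigA m.1, Subgroup.mem_centralizer_singleton_iff.2 (by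
      rcases ht with rfl | rfl
      · exact (L.s_comm m.2).symm
      · exact (L.s_comm m.2).symm.mul_right (L.cz m.1))⟩ :
      ↥(bigA ε ⊓ Subgroup.centralizer ({t} : Set G)))) fun ⟨a, ha, hat⟩ => by
      obtain ⟨m, hm, e⟩ := hsub a ha (Subgroup.mem_centralizer_singleton_iff.1 hat)
      exact ⟨⟨m, hm⟩, Subtype.ext e.symm⟩
  rw [h27, Nat.card_eq_fintype_card, card_inD] at hle
  omega


/-- No element of `C(z)` acting as `tn` fixes the inverted part. -/
theorem no_tn [Finite G] {c : G} (hc : Commute c z) (hce : ∀ a, c * ε a * c⁻¹ = ε (tn a))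
    (hfix : ∀ a ∈ bigA ε, z * a * z⁻¹ = a⁻¹ → c * a * c⁻¹ = a) : False := by
  obtain ⟨hf, hg⟩ := tn_vals
  obtain ⟨b, hb, hbs, hbz, hb1⟩ := L.exists_minus (Or.inl rfl)
  have hbno : ∀ {g : G}, Commute g b → g = z → False := fun hg' e => by
    subst e
    rw [mul_inv_eq_iff_eq_mul.2 hg'.eq] at hbz
    have h2 : b * b = 1 := by nth_rw 2 [hbz]; exact mul_inv_cancel b
    have := L.bigA_cube b hb
    rw [pow_three, h2, mul_one] at this
    exact hb1 this
  have hcD : ∀ a, inD a → inD (tn a) := fun a ha => by simp only [inD, tn] at *; rw [ha]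
  -- the image of `s`
  have hu : Commute (c * s * c⁻¹) z := (hc.mul_left L.sz).mul_left hc.inv_left
  have huD : ∀ a, inD a → Commute (c * s * c⁻¹) (ε a) := fun a ha => by
    have h1 := (L.s_comm (hcD a ha)).map (MulAut.conj c).toMonoidHom
    change Commute (c * s * c⁻¹) (c * ε (tn a) * c⁻¹) at h1
    rwa [hce, show tn (tn a) = a by obtain ⟨p, q, r⟩ := a; simp [tn]] at h1
  obtain ⟨m, t, i, hu'⟩ := L.cD _ hu (huD af inD_af.1) (huD ag inD_af.2)
  have hub : Commute (c * s * c⁻¹) b := by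
    have := (hbs.symm).map (MulAut.conj c).toMonoidHom
    change Commute (c * s * c⁻¹) (c * b * c⁻¹) at this
    rwa [hfix b hb hbz] at this
  have hτb : Commute (SuzType52.pw s t * SuzType52.pw z i) b := by
    have := ((L.bigA_comm _ (L.eps_bigA m) b hb).inv_left).mul_left hub
    rwa [hu', mul_assoc (ε m), inv_mul_cancel_left] at this
  have hu2 : c * s * c⁻¹ * (c * s * c⁻¹) = 1 := by
    rw [show c * s * c⁻¹ * (c * s * c⁻¹) = c * (s * s) * c⁻¹ by group, L.ssq]; group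
  have hms : c * s * c⁻¹ = ε m * s := by
    cases t <;> cases i <;> simp only [SuzType52.pw, cond_true, cond_false, mul_one, one_mul] at hu' hτb
    · exfalso
      have h3 := L.cube m
      rw [← hu', pow_three, hu2, mul_one] at h3
      exact L.s1 (by simpa using h3)
    · exact (hbno hτb rfl).elim
    · exact hu'
    · refine (hbno (g := z) ?_ rfl).elim
      have := hbs.symm.mul_left hτb
      rwa [← mul_assoc, L.ssq, one_mul] at this
  have hmts : m + ts m = 0 := by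
    refine L.inj _ _ ?_
    rw [L.add, L.zero, ← L.sconj m, inv_eq_of_mul_eq_one_right L.ssq]
    rw [hms] at hu2
    simpa only [mul_assoc] using hu2
  have hadj : ∃ e : Tri, e + m - ts e = 0 := by
    have key : ∀ m : Tri, m + ts m = 0 → ∃ e : Tri, e + m - ts e = 0 := by decide +kernel
    exact key m hmts
  obtain ⟨e, he⟩ := hadj
  set c' := ε e * c with hc'
  have hc'z : Commute c' z := (L.cz e).mul_left hc
  have hc's : Commute c' s := by
    refine mul_inv_eq_iff_eq_mul.1 ?_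
    calc c' * s * c'⁻¹ = ε e * (c * s * c⁻¹) * (ε e)⁻¹ := by rw [hc']; group
      _ = ε e * ε m * (s * (ε e)⁻¹ * s⁻¹) * s := by rw [hms]; group
      _ = ε e * ε m * ε (ts (-e)) * s := by rw [← L.sconj, L.neg]
      _ = s := by
        rw [← L.add, ← L.add, show e + m + ts (-e) = 0 by rw [← he]; simp [ts, sub_eq_add_neg],
          L.zero, one_mul]
  have hc'D : ∀ a, c' * ε a * c'⁻¹ = ε (tn a) := fun a => by
    calc c' * ε a * c'⁻¹ = ε e * (c * ε a * c⁻¹) * (ε e)⁻¹ := by rw [hc']; group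
      _ = ε (tn a) := by rw [hce, (L.comm e (tn a)).eq, mul_inv_cancel_right]
  -- transport to `z`
  obtain ⟨k, hks, hkz, hkD⟩ := L.swap
  set d := k * c' * k⁻¹ with hd
  have hdz : Commute d z := by
    have := hc's.map (MulAut.conj k).toMonoidHom
    change Commute (k * c' * k⁻¹) (k * s * k⁻¹) at this
    rwa [hks] at this
  obtain ⟨w, hwD, hkg⟩ := hkD ag inD_af.2
  have hdf : d * ε af * d⁻¹ = ε af := by
    have h1 : c' * ε af * c'⁻¹ = ε af := by rw [hc'D, hf]
    rcases L.f_fixed hkD with e' | e'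
    · calc d * ε af * d⁻¹ = d * (k * ε af * k⁻¹) * d⁻¹ := by rw [e']
        _ = k * (c' * ε af * c'⁻¹) * k⁻¹ := by rw [hd]; group
        _ = ε af := by rw [h1, e']
    · have e'' : k * (ε af)⁻¹ * k⁻¹ = ε af := by
        rw [show k * (ε af)⁻¹ * k⁻¹ = (k * ε af * k⁻¹)⁻¹ by group, e', L.neg, inv_inv]
      calc d * ε af * d⁻¹ = d * (k * (ε af)⁻¹ * k⁻¹) * d⁻¹ := by rw [e'']
        _ = k * (c' * ε af * c'⁻¹)⁻¹ * k⁻¹ := by rw [hd]; group
        _ = ε af := by rw [h1, e'']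
  have hdw : d * ε w * d⁻¹ = ε (-w) := by
    calc d * ε w * d⁻¹ = d * (k * ε ag * k⁻¹) * d⁻¹ := by rw [hkg]
      _ = k * (c' * ε ag * c'⁻¹) * k⁻¹ := by rw [hd]; group
      _ = (k * ε ag * k⁻¹)⁻¹ := by rw [hc'D, hg, L.neg]; group
      _ = ε (-w) := by rw [hkg, L.neg]
  have hw3 : wt w = 3 := by
    rcases inD_cases w hwD with e' | e' | e' | e' | e' | e'
    · exfalso
      rw [e', L.zero] at hkg
      exact af_ne.2 (L.inj _ _ ((by simpa using hkg : ε ag = 1).trans L.zero.symm))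
    · exfalso
      refine L.g_ne_f k⁻¹ (Or.inl rfl) ?_
      rw [← e', ← hkg]; group
    · exfalso
      refine L.g_ne_f k⁻¹ (Or.inr rfl) ?_
      have : ε af = (k * ε ag * k⁻¹)⁻¹ := by rw [hkg, e', L.neg, inv_inv]
      rw [this, L.neg]; group
    · exact absurd hkg (L.g_moved hkz (Or.inl hks) (Or.inl e'))
    · exact absurd hkg (L.g_moved hkz (Or.inl hks) (Or.inr e'))
    · exact e'.1
  have key : ∀ w : Tri, inD w ∧ wt w = 3 → ∃ j : Fin 3, wt (w + j.val • af) = 2 ∧
      wt (-w + j.val • af) ≠ 2 := by decide +kernel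
  obtain ⟨j, h2, h3⟩ := key w ⟨hwD, hw3⟩
  refine h3 ?_
  rw [← h2]
  refine L.weight d hdz _ _ ?_
  have hpow : ∀ i : ℕ, d * ε (i • af) * d⁻¹ = ε (i • af) := fun i => by
    induction i with
    | zero => rw [zero_smul, L.zero]; group
    | succ i ih =>
      rw [succ_nsmul, L.add]
      conv_rhs => rw [← ih, ← hdf]
      group
  rw [L.add, L.add, show d * (ε w * ε (j.val • af)) * d⁻¹ = d * ε w * d⁻¹ * (d * ε (j.val • af) * d⁻¹) by group,
    hdw, hpow]

/-- An element of `C(z)` normalising `E` and fixing the inverted part of `A` lies in `E`. -/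
theorem minus_faithful [Finite G] {c : G} (hc : Commute c z) (hN : ∀ m, ∃ m', c * ε m * c⁻¹ = ε m')
    (hfix : ∀ a ∈ bigA ε, z * a * z⁻¹ = a⁻¹ → c * a * c⁻¹ = a) : ∃ m, c = ε m := by
  have hminus : ∀ {d : G}, Commute d z → (∀ m, ∃ m', d * ε m * d⁻¹ = ε m') → ∀ a ∈ bigA ε,
      z * a * z⁻¹ = a⁻¹ → d * a * d⁻¹ ∈ bigA ε ∧ z * (d * a * d⁻¹) * z⁻¹ = (d * a * d⁻¹)⁻¹ := by
    intro d hd hdN a ha h
    refine ⟨L.norm_E hdN ha, ?_⟩
    calc z * (d * a * d⁻¹) * z⁻¹ = (z * d) * a * (z * d)⁻¹ := by group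
      _ = d * (z * a * z⁻¹) * d⁻¹ := by rw [← hd.eq]; group
      _ = _ := by rw [h]; group
  have hinvN : ∀ {d : G} {T : Tri → Tri}, (∀ a, d * ε a * d⁻¹ = ε (T a)) → (∀ a, T (T a) = a) →
      ∀ m, ∃ m', d⁻¹ * ε m * d⁻¹⁻¹ = ε m' := fun {d T} hd hT m => ⟨T m, by
    have := hd (T m)
    rw [hT] at this
    rw [← this]; group⟩
  -- no even sign change
  have hno : ∀ {d : G}, Commute d z → (∀ a ∈ bigA ε, z * a * z⁻¹ = a⁻¹ → d * a * d⁻¹ = a) →
      ∀ e ∈ evens, (∀ a, d * ε a * d⁻¹ = ε (e a)) → False := by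
    intro d hd hdfix e he hde
    obtain ⟨p, hpz, hp⟩ := L.perm12
    have conjfix : ∀ {q : G} {T : Tri → Tri}, Commute q z → (∀ a, q * ε a * q⁻¹ = ε (T a)) →
        (∀ a, T (T a) = a) → ∀ {d : G}, Commute d z →
        (∀ a ∈ bigA ε, z * a * z⁻¹ = a⁻¹ → d * a * d⁻¹ = a) →
        ∀ a ∈ bigA ε, z * a * z⁻¹ = a⁻¹ → q * d * q⁻¹ * a * (q * d * q⁻¹)⁻¹ = a := by
      intro q T hq hqT hTT d hd hdfix a ha h
      obtain ⟨h1, h2⟩ := hminus hq.inv_left (hinvN hqT hTT) a ha h
      calc q * d * q⁻¹ * a * (q * d * q⁻¹)⁻¹ = q * (d * (q⁻¹ * a * q⁻¹⁻¹) * d⁻¹) * q⁻¹ := by group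
        _ = a := by rw [hdfix _ h1 h2]; group
    have conjact : ∀ {q : G} {T U V : Tri → Tri}, (∀ a, q * ε a * q⁻¹ = ε (T a)) → (∀ a, T (T a) = a) →
        ∀ {d : G}, (∀ a, d * ε a * d⁻¹ = ε (U a)) → (∀ a, T (U (T a)) = V a) →
        ∀ a, q * d * q⁻¹ * ε a * (q * d * q⁻¹)⁻¹ = ε (V a) := by
      intro q T U V hqT hTT d hdU hV a
      have h1 : q⁻¹ * ε a * q = ε (T a) := by
        have := hqT (T a)
        rw [hTT] at this
        rw [← this]; group
      calc q * d * q⁻¹ * ε a * (q * d * q⁻¹)⁻¹ = q * (d * (q⁻¹ * ε a * q) * d⁻¹) * q⁻¹ := by group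
        _ = ε (V a) := by rw [h1, hdU, hqT, hV]
    have htp : ∀ a, tp (tp a) = a := fun ⟨_, _, _⟩ => rfl
    have hts : ∀ a, ts (ts a) = a := fun ⟨_, _, _⟩ => rfl
    have hcz : ∀ {q : G}, Commute q z → ∀ {d : G}, Commute d z → Commute (q * d * q⁻¹) z :=
      fun hq _ hd => (hq.mul_left hd).mul_left hq.inv_left
    simp only [evens, List.mem_cons, List.not_mem_nil, or_false] at he
    rcases he with rfl | rfl | rfl
    · exact L.no_tn hd hde hdfix
    · -- `ti` is moved to `t02`, then to `tn`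
      refine L.no_tn (hcz hpz (hcz L.sz hd)) (conjact hp htp (conjact L.sconj hts hde
        (V := t02) fun ⟨_, _, _⟩ => rfl) fun ⟨_, _, _⟩ => rfl) ?_
      exact conjfix hpz hp htp (hcz L.sz hd) (conjfix L.sz L.sconj hts hd hdfix)
    · refine L.no_tn (hcz hpz hd) (conjact hp htp hde fun ⟨_, _, _⟩ => rfl) ?_
      exact conjfix hpz hp htp hd hdfix
  obtain ⟨x, hx, y, hy, w, hw, hφ, hwt⟩ := L.exists_mono hc hN
  have key := List.all_eq_true.1 (List.all_eq_true.1 (List.all_eq_true.1 mono_cases_aux x hx) y hy) w hw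
  rw [decide_eq_true hwt, Bool.not_true, Bool.false_or] at key
  simp only [Bool.or_eq_true, decide_eq_true_eq, List.any_eq_true] at key
  obtain ⟨n, hnz, hn⟩ := L.inv01
  obtain ⟨i, hiz, hi⟩ := L.inv12
  have hev : ∀ e ∈ evens, ∃ q, Commute q z ∧ (∀ a, q * ε a * q⁻¹ = ε (e a)) := by
    intro e he
    simp only [evens, List.mem_cons, List.not_mem_nil, or_false] at he
    rcases he with rfl | rfl | rfl
    · exact ⟨n, hnz, hn⟩
    · exact ⟨i, hiz, hi⟩
    · refine ⟨n * i, hnz.mul_left hiz, fun a => ?_⟩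
      rw [show n * i * ε a * (n * i)⁻¹ = n * (i * ε a * i⁻¹) * n⁻¹ by group, hi, hn]
      obtain ⟨p, q, r⟩ := a
      simp [tn, ti, t02]
  rcases key with (((h | ⟨e, he, h⟩) | h) | ⟨e, he, h⟩) | ⟨d, hd, e, he, h⟩
  · -- identity
    have hcE : ∀ m, Commute c (ε m) := fun m => mul_inv_eq_iff_eq_mul.1 (by rw [hφ, h])
    obtain ⟨a, ha, hca | hca⟩ := L.cent_E hcE
    · obtain ⟨m, hm⟩ := (L.bigA_z ha).1 (hca ▸ hc)
      exact ⟨m, hca.trans hm⟩
    · exfalso
      obtain ⟨b, hb, -, hbz, hb1⟩ := L.exists_minus (Or.inl rfl)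
      have e' := hfix b hb hbz
      rw [hca, show a * z * b * (a * z)⁻¹ = a * (z * b * z⁻¹) * a⁻¹ by group, hbz,
        (L.bigA_comm a ha _ (inv_mem hb)).eq, mul_inv_cancel_right] at e'
      have h2 : b * b = 1 := by nth_rw 1 [← e']; exact inv_mul_cancel b
      have := L.bigA_cube b hb
      rw [pow_three, h2, mul_one] at this
      exact hb1 this
  · exact (hno hc hfix e he fun a => by rw [hφ, h]).elim
  · exact absurd ⟨c, hc, fun a => by rw [hφ, h]⟩ L.even
  · obtain ⟨q, hqz, hq⟩ := hev e he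
    refine absurd ⟨c * q, hc.mul_left hqz, fun a => ?_⟩ L.even
    rw [show c * q * ε a * (c * q)⁻¹ = c * (q * ε a * q⁻¹) * c⁻¹ by group, hq, hφ, h]
    congr 2
    simp only [evens, List.mem_cons, List.not_mem_nil, or_false] at he
    obtain ⟨p₁, p₂, p₃⟩ := a
    rcases he with rfl | rfl | rfl <;> simp [tn, ti, t02]
  · -- the commutator with an even sign change
    obtain ⟨q, hqz, hq⟩ : ∃ q, Commute q z ∧ ∀ a, q * ε a * q⁻¹ = ε (d a) := by
      simp only [List.mem_cons, List.not_mem_nil, or_false] at hd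
      rcases hd with rfl | rfl
      · exact ⟨n, hnz, hn⟩
      · exact ⟨i, hiz, hi⟩
    have hdd : ∀ a, d (d a) = a := fun ⟨p₁, p₂, p₃⟩ => by
      simp only [List.mem_cons, List.not_mem_nil, or_false] at hd
      rcases hd with rfl | rfl <;> simp [tn, ti]
    refine (hno (d := c * q * c⁻¹ * q⁻¹) (((hc.mul_left hqz).mul_left hc.inv_left).mul_left hqz.inv_left)
      ?_ e he ?_).elim
    · intro a ha ha'
      obtain ⟨h1, h2⟩ := hminus hqz.inv_left (hinvN hq hdd) a ha ha'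
      have h3 : c⁻¹ * (q⁻¹ * a * q⁻¹⁻¹) * c = q⁻¹ * a * q⁻¹⁻¹ := by
        conv_lhs => rw [← hfix _ h1 h2]
        group
      calc c * q * c⁻¹ * q⁻¹ * a * (c * q * c⁻¹ * q⁻¹)⁻¹
          = c * (q * (c⁻¹ * (q⁻¹ * a * q⁻¹⁻¹) * c) * q⁻¹) * c⁻¹ := by group
        _ = c * a * c⁻¹ := by rw [h3]; group
        _ = a := hfix a ha ha'
    · intro a
      obtain ⟨a₁, ha₁⟩ : ∃ a₁, lin3 x y w a₁ = d a := by
        have hinj : Function.Injective (lin3 x y w) := fun u v huv => by
          have := (hφ u).trans ((congrArg ε huv).trans (hφ v).symm)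
          exact L.inj _ _ (mul_left_cancel (mul_right_cancel this))
        exact Finite.injective_iff_surjective.1 hinj (d a)
      have h1 : q⁻¹ * ε a * q = ε (d a) := by
        have := hq (d a)
        rw [hdd] at this
        rw [← this]; group
      have h2 : c⁻¹ * ε (d a) * c = ε a₁ := by rw [← ha₁, ← hφ]; group
      calc c * q * c⁻¹ * q⁻¹ * ε a * (c * q * c⁻¹ * q⁻¹)⁻¹
          = c * (q * (c⁻¹ * (q⁻¹ * ε a * q) * c) * q⁻¹) * c⁻¹ := by group
        _ = ε (e a) := by rw [h1, h2, hq, hφ, h, ha₁, hdd]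

end Loc

end Cfsg.Agent.Lib.SuzM11H6
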