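import Cfsg.Agent.Lib.SuzM11H6.Local

/-!
# Suzuki type: the pairs (involution outside `Q` conjugate to `z`, group of order nine centralising it)

Owner: helper6.
-/

set_option autoImplicit false

namespace Cfsg.Agent.Lib.SuzM11H6

open Cfsg.Agent.Lib.SuzType52

variable {G : Type*} [Group G] {z : G} {Q : Subgroup G} {co : G → ℕ} {ac : G → ℕ → ℕ}

namespace Eps

variable {ε : Tri → G} (E : Eps z Q co ac ε)
include E

/-- The subgroup `D`. -/
def dgrp : Subgroup G where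
  carrier := {c | ∃ a, inD a ∧ ε a = c}
  one_mem' := ⟨0, rfl, E.zero⟩
  mul_mem' := by
    rintro _ _ ⟨a, ha, rfl⟩ ⟨b, hb, rfl⟩
    exact ⟨a + b, by simp only [inD, Prod.fst_add, Prod.snd_add] at *; rw [ha, hb], E.add a b⟩
  inv_mem' := by
    rintro _ ⟨a, ha, rfl⟩
    exact ⟨-a, by simp only [inD, Prod.fst_neg, Prod.snd_neg] at *; rw [ha], E.neg a⟩

theorem card_dgrp : Nat.card E.dgrp = 9 := by
  have hb : Function.Bijective (fun p : {a : Tri // inD a} => (⟨ε p.1, p.1, p.2, rfl⟩ : E.dgrp)) :=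
    ⟨fun p q h => Subtype.ext (E.inj (congrArg Subtype.val h)),
      fun ⟨_, a, ha, rfl⟩ => ⟨⟨a, ha⟩, rfl⟩⟩
  rw [← Nat.card_congr (Equiv.ofBijective _ hb), Nat.card_eq_fintype_card]
  decide

theorem pow_val (a : Tri) (i : ℕ) : ε a ^ i = ε (i • a) := by
  induction i with
  | zero => rw [pow_zero, zero_smul, E.zero]
  | succ i ih => rw [pow_succ, ih, ← E.add, succ_nsmul]

/-- An element commuting with `f` and `g` commutes with `D`. -/
theorem commute_D {c : G} (hf : Commute c (ε af)) (hg : Commute c (ε ag)) {a : Tri} (ha : inD a) :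
    Commute c (ε a) := by
  have e : a = a.1.val • ag + a.2.2.val • af :=
    (by decide +kernel : ∀ a : Tri, inD a → a = a.1.val • ag + a.2.2.val • af) a ha
  rw [e, E.add, ← E.pow_val, ← E.pow_val]
  exact (hg.pow_right _).mul_right (hf.pow_right _)

end Eps

theorem nfix_af : nfix (el af) = 16 ∧ nfix (el ag) = 4 := by decide +kernel

theorem nfix_cases : ∀ a : Tri, inD a →
    (nfix (el a) = 16 → a = af ∨ a = -af) ∧ (nfix (el a) = 4 → a = ag ∨ a = -ag) := by decide +kernel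

theorem nfix_congr {φ ψ : ℕ → ℕ} (e : ∀ k < 64, φ k = ψ k) : nfix φ = nfix ψ := by
  rw [nfix, nfix]
  congr 1
  refine List.filter_congr fun k hk => ?_
  rw [e k (List.mem_range.1 hk)]

section
variable (h : Frame z Q co ac)
include h

/-- Conjugate elements have the same number of fixed codes. -/
theorem nfix_conj {c y : G} (hc : Commute c z) (hy : Commute y z) :
    nfix (ac (c * y * c⁻¹)) = nfix (ac y) := by
  have hd : ∀ φ : ℕ → ℕ, nfix φ = ((Finset.range 64).filter fun k => φ k = k).card := fun φ => by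
    rw [nfix, Finset.card_def, Finset.filter_val, Finset.range_val, ← Multiset.coe_range,
      Multiset.filter_coe, Multiset.coe_card]
    congr 1
    refine List.filter_congr fun k _ => ?_
    rw [Bool.eq_iff_iff, decide_eq_true_eq]
    exact ⟨Nat.eq_of_beq_eq_true, fun e => by rw [e]; exact Nat.beq_refl _⟩
  rw [hd, hd]
  symm
  refine Finset.card_bij' (fun k _ => ac c k) (fun k _ => ac c⁻¹ k) ?_ ?_ ?_ ?_
  · intro k hk
    rw [Finset.mem_filter, Finset.mem_range] at hk ⊢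
    refine ⟨h.ac_lt hc hk.1, ?_⟩
    rw [h.ac_conj hy hc (h.ac_lt hc hk.1), h.ac_inv hc hk.1, hk.2]
  · intro k hk
    rw [Finset.mem_filter, Finset.mem_range] at hk ⊢
    refine ⟨h.ac_lt hc.inv_left hk.1, ?_⟩
    have e := hk.2
    rw [h.ac_conj hy hc hk.1] at e
    conv_rhs => rw [← e]
    rw [h.ac_inv hc (h.ac_lt hy (h.ac_lt hc.inv_left hk.1))]
  · intro k hk
    exact h.ac_inv hc (Finset.mem_range.1 (Finset.mem_filter.1 hk).1)
  · intro k hk
    exact h.ac_inv' hc (Finset.mem_range.1 (Finset.mem_filter.1 hk).1)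

/-- The preimage of the centraliser of the transvection. -/
def cosetC : Subgroup G where
  carrier := {c | Commute c z ∧ ∀ k < 64, ac c (eich 4 k) = eich 4 (ac c k)}
  one_mem' := ⟨Commute.one_left z, fun k hk => by
    rw [h.ac_Q (one_mem Q) hk, h.ac_Q (one_mem Q) (iso_eich.lt k hk)]⟩
  mul_mem' := fun {a b} ha hb => ⟨ha.1.mul_left hb.1, fun k hk => by
    rw [h.ac_mul ha.1 hb.1 (iso_eich.lt k hk), hb.2 k hk, ha.2 _ (h.ac_lt hb.1 hk), h.ac_mul ha.1 hb.1 hk]⟩
  inv_mem' := fun {a} ha => ⟨ha.1.inv_left, fun k hk => by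
    have hl := h.ac_lt ha.1.inv_left hk
    have e := ha.2 _ hl
    rw [h.ac_inv' ha.1 hk] at e
    rw [← e, h.ac_inv ha.1 (iso_eich.lt _ hl)]⟩

end

theorem tri_neg_eq : ∀ a : Tri, a = -a → a = 0 := by decide +kernel

theorem af_ne : af ≠ 0 ∧ ag ≠ 0 := by decide +kernel

namespace Base

variable {x n : G} {ε : Tri → G} {s : G} (b : Base z Q co ac x n ε s)
include b

theorem sz : Commute s z := b.s_im.1

theorem s_ne : s ≠ 1 ∧ s ≠ z := by
  have h2 : ac s 8 = 9 := (b.s_im.2 8 (by norm_num)).trans (by decide)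
  constructor <;> intro e <;> rw [e] at h2
  · rw [b.duo.fr.ac_Q (one_mem Q) (by norm_num)] at h2; omega
  · rw [b.duo.fr.ac_Q b.duo.fr.es.mem (by norm_num)] at h2; omega

/-- The same with `s z`. -/
theorem flip : Base z Q co ac x n ε (s * z) :=
  ⟨b.duo, b.eps, ⟨b.sz.mul_left (Commute.refl z), fun k hk => by
      rw [b.duo.fr.ac_mul b.sz (Commute.refl z) hk, b.duo.fr.ac_Q b.duo.fr.es.mem hk, b.s_im.2 k hk]⟩,
    by rw [← mul_assoc, mul_assoc s, ← b.sz.eq, ← mul_assoc, b.s_sq, one_mul, b.duo.fr.es.sq],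
    b.sf.mul_left (b.eps.cz af).symm, b.sg.mul_left (b.eps.cz ag).symm⟩

theorem isConj_s : IsConj z s := by
  have d := b.duo
  have hsQ : s ∉ Q := fun hm => by
    have h2 := (b.s_im.2 8 (by norm_num))
    rw [d.fr.ac_Q hm (by norm_num)] at h2
    exact absurd h2 (by decide)
  obtain ⟨c, hc, hcase⟩ := d.classify b.sz b.s_sq hsQ
  have hcs : IsConj s (c * s * c⁻¹) := isConj_iff.2 ⟨c, rfl⟩
  rcases hcase with hB | hF
  · refine (d.isConj_B hB ?_).trans hcs.symm
    have : Fact (Nat.Prime 2) := ⟨Nat.prime_two⟩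
    refine orderOf_eq_prime ?_ fun e => b.s_ne.1 (by simpa using e)
    rw [pow_two, show c * s * c⁻¹ * (c * s * c⁻¹) = c * (s * s) * c⁻¹ by group, b.s_sq]
    group
  · exfalso
    have hl : ac c⁻¹ 2 < 64 := d.fr.ac_lt hc.inv_left (by norm_num)
    have e1 : qn (eich 4 (ac c⁻¹ 2) ^^^ ac c⁻¹ 2) = false := eich_sing 4 (by decide) (by decide) _ hl
    rw [← b.s_im.2 _ hl, ← d.fr.ac_qn hc (xor_lt (d.fr.ac_lt b.sz hl) hl),
      d.fr.ac_xor hc (d.fr.ac_lt b.sz hl) hl, ← d.fr.ac_conj b.sz hc (by norm_num),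
      (d.form_commute hF).2 2 (by norm_num), d.fr.ac_inv' hc (by norm_num), eich_inv16] at e1
    cases e1

/-- Elements of `C(z)` centralising `D`. -/
theorem cD {c : G} (hc : Commute c z) (hf : Commute c (ε af)) (hg : Commute c (ε ag)) :
    ∃ m : Tri, ∃ t i : Bool, c = ε m * pw s t * pw z i := by
  obtain ⟨m, t, hm⟩ := b.eps.ac_cD hc hf hg
  have hst : Im z ac (pw s t) (sw t) := by
    cases t
    · exact ⟨Commute.one_left z, fun k hk => b.duo.fr.ac_Q (one_mem Q) hk⟩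
    · exact b.s_im
  have hm' : Im z ac (ε m * pw s t) fun k => el m (sw t k) := (b.eps.im m).mul b.duo.fr hst
  have hq : (ε m * pw s t)⁻¹ * c ∈ Q := b.duo.fr.faithful _ (hm'.1.inv_left.mul_left hc) fun k hk => by
    rw [b.duo.fr.ac_mul hm'.1.inv_left hc hk, hm k hk]
    have e := hm'.2 k hk
    show ac (ε m * pw s t)⁻¹ (el m (sw t k)) = k
    rw [show el m (sw t k) = ac (ε m * pw s t) k from e.symm]
    exact b.duo.fr.ac_inv hm'.1 hk
  have hcm : ∀ a ∈ [af, ag], Commute (ε m * pw s t) (ε a) := fun a ha => by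
    refine (b.eps.comm m a).mul_left ?_
    simp only [List.mem_cons, List.not_mem_nil, or_false] at ha
    cases t
    · exact Commute.one_left _
    · rcases ha with rfl | rfl
      · exact b.sf
      · exact b.sg
  rcases b.eps.mem_Q_commute hq ((hcm af (by simp)).inv_left.mul_left hf)
    ((hcm ag (by simp)).inv_left.mul_left hg) with e | e
  · exact ⟨m, t, false, by rw [inv_mul_eq_one.1 e]; exact (mul_one _).symm⟩
  · exact ⟨m, t, true, inv_mul_eq_iff_eq_mul.1 e⟩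

theorem im_form {m : Tri} {t i : Bool} : Im z ac (ε m * pw s t * pw z i) fun k => el m (sw t k) := by
  have hst : Im z ac (pw s t) (sw t) := by
    cases t
    · exact ⟨Commute.one_left z, fun k hk => b.duo.fr.ac_Q (one_mem Q) hk⟩
    · exact b.s_im
  have hz : pw z i ∈ Q := by
    cases i
    · exact one_mem Q
    · exact b.duo.fr.es.mem
  exact (((b.eps.im m).mul b.duo.fr hst).mul b.duo.fr (Im.of_mem b.duo.fr hz)).cast fun _ _ => rfl

/-- Involutions over `eich 4` centralising `D`. -/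
theorem eq_s {u : G} (hu : Im z ac u (eich 4)) (hf : Commute u (ε af)) (hg : Commute u (ε ag)) :
    u = s ∨ u = s * z := by
  obtain ⟨m, t, i, rfl⟩ := b.cD hu.1 hf hg
  obtain ⟨rfl, rfl⟩ := el_sw_eich m t fun k hk => (b.im_form.unique hu) k (units_lt k hk)
  rw [b.eps.zero, one_mul]
  cases i
  · exact Or.inl (mul_one s)
  · exact Or.inr rfl

/-- `D` is a Sylow subgroup of the centraliser of the coset. -/
theorem dgrp_max {R : Subgroup G} [Finite G] (hR : IsPGroup 3 R) (hDR : b.eps.dgrp ≤ R)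
    (hRM : R ≤ cosetC b.duo.fr) : R = b.eps.dgrp := by
  have : Fact (Nat.Prime 3) := ⟨Nat.prime_three⟩
  by_contra hne
  have : Group.IsNilpotent R := hR.isNilpotent
  have hlt : b.eps.dgrp.subgroupOf R < ⊤ := by
    refine lt_top_iff_ne_top.2 fun e => hne (le_antisymm ?_ hDR)
    rwa [Subgroup.subgroupOf_eq_top] at e
  obtain ⟨⟨r, hr⟩, hrN, hr'⟩ :=
    SetLike.exists_of_lt (Group.normalizerCondition_of_isNilpotent (b.eps.dgrp.subgroupOf R) hlt)
  obtain ⟨hrz, hrk⟩ := hRM hr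
  have hpow : ∀ y : G, y ∈ R → ∀ N : ℕ, Nat.Coprime 3 N → y ^ N = 1 → y = 1 := fun y hy N hN e => by
    obtain ⟨k, hk⟩ := hR ⟨y, hy⟩
    have hk' : y ^ 3 ^ k = 1 := congrArg Subtype.val hk
    have := pow_gcd_eq_one.2 ⟨hk', e⟩
    rwa [Nat.Coprime.pow_left k hN, pow_one] at this
  have hconj : ∀ a, inD a → ∃ a', inD a' ∧ r * ε a * r⁻¹ = ε a' := fun a ha => by
    have := (Subgroup.mem_normalizer_iff.1 hrN ⟨ε a, hDR ⟨a, ha, rfl⟩⟩).1 ⟨a, ha, rfl⟩
    obtain ⟨a', ha', e⟩ := this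
    exact ⟨a', ha', e.symm⟩
  have hfix : ∀ a, inD a → (∀ a', inD a' → nfix (el a') = nfix (el a) → a' = a ∨ a' = -a) →
      a ≠ 0 → Commute r (ε a) := fun a ha hu hane => by
    obtain ⟨a', ha', e⟩ := hconj a ha
    have hn : nfix (el a') = nfix (el a) := by
      rw [← nfix_congr (b.eps.im a').2, ← e, nfix_conj b.duo.fr hrz (b.eps.cz a),
        nfix_congr (b.eps.im a).2]
    rcases hu a' ha' hn with rfl | rfl
    · exact mul_inv_eq_iff_eq_mul.1 e
    · exfalso
      obtain ⟨k, hk⟩ := hR ⟨r, hr⟩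
      have hk' : r ^ 3 ^ k = 1 := congrArg Subtype.val hk
      rw [b.eps.neg] at e
      have hiter : ∀ m : ℕ, r ^ m * ε a * (r ^ m)⁻¹ = if Even m then ε a else (ε a)⁻¹ := by
        intro m
        induction m with
        | zero => simp
        | succ m ih =>
          rw [pow_succ', show r * r ^ m * ε a * (r * r ^ m)⁻¹ = r * (r ^ m * ε a * (r ^ m)⁻¹) * r⁻¹ by group,
            ih]
          by_cases hm : Even m
          · rw [if_pos hm, if_neg (Nat.even_add_one.not.2 (not_not.2 hm)), e]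
          · rw [if_neg hm, if_pos (Nat.even_add_one.2 hm), show r * (ε a)⁻¹ * r⁻¹ = (r * ε a * r⁻¹)⁻¹ by group,
              e, inv_inv]
      have hodd := hiter (3 ^ k)
      rw [if_neg (Nat.not_even_iff_odd.2 (Odd.pow (by decide))), hk', inv_one, mul_one, one_mul] at hodd
      have h0 : a = -a := b.eps.inj (hodd.trans (b.eps.neg a).symm)
      have ha0 : a = 0 := tri_neg_eq a h0
      exact hane ha0
  have hcf : Commute r (ε af) := by
    refine hfix af rfl (fun a' ha' hn => ?_) af_ne.1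
    rw [nfix_af.1] at hn
    exact (nfix_cases a' ha').1 hn
  have hcg : Commute r (ε ag) := by
    refine hfix ag rfl (fun a' ha' hn => ?_) af_ne.2
    rw [nfix_af.2] at hn
    exact (nfix_cases a' ha').2 hn
  obtain ⟨m, t, i, hr3⟩ := b.cD hrz hcf hcg
  have hmD : inD m := by
    refine el_sw_comm m t fun k hk => ?_
    have e := hrk k (units_lt k hk)
    rw [hr3, b.im_form.2 _ (iso_eich.lt k (units_lt k hk)), b.im_form.2 k (units_lt k hk)] at e
    exact e
  have hmem : pw s t * pw z i ∈ R := by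
    have := mul_mem (inv_mem (hDR ⟨m, hmD, rfl⟩)) hr
    rwa [hr3, mul_assoc (ε m), inv_mul_cancel_left] at this
  have hc : Commute (pw s t) (pw z i) := by
    cases t <;> cases i <;> first | exact Commute.one_left _ | exact Commute.one_right _ | exact b.sz
  have h2 : (pw s t * pw z i) ^ 2 = 1 := by
    rw [hc.mul_pow, pow_two, pow_two, pw_mul b.s_sq, pw_mul b.duo.fr.es.sq, Bool.xor_self, Bool.xor_self]
    exact one_mul 1
  have := hpow _ hmem 2 (by norm_num) h2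
  refine hr' ?_
  show r ∈ b.eps.dgrp
  rw [hr3, mul_assoc, this, mul_one]
  exact ⟨m, hmD, rfl⟩

/-- The pairs are conjugate in `C(z)`. -/
theorem pair [Finite G] {u : G} (huz : Commute u z) (hu2 : u * u = 1) (huQ : u ∉ Q) (hzu : IsConj z u)
    {R : Subgroup G} (hR9 : Nat.card R = 9) (hRc : ∀ r ∈ R, Commute r z ∧ Commute r u) :
    ∃ c, Commute c z ∧ (c * u * c⁻¹ = s ∨ c * u * c⁻¹ = s * z) ∧
      R.map (MulAut.conj c).toMonoidHom = b.eps.dgrp := by
  have : Fact (Nat.Prime 3) := ⟨Nat.prime_three⟩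
  have d := b.duo
  obtain ⟨c₁, hc₁, hcase⟩ := d.classify huz hu2 huQ
  have hB : InB Q n z (c₁ * u * c₁⁻¹) := by
    refine hcase.resolve_right fun hF => ?_
    obtain ⟨b₀, hb₀, hb₀2, hb₀Q⟩ := d.exists_form
    obtain ⟨r, -, hr⟩ := d.form_unique hF hb₀
    refine d.not_isConj hb₀ hb₀2 hb₀Q ((hzu.trans (isConj_iff.2 ⟨c₁, rfl⟩)).trans ?_)
    exact isConj_iff.2 ⟨r, hr⟩
  obtain ⟨a, ha, hact⟩ := d.exists_act hB
  have hu1 : c₁ * u * c₁⁻¹ * (c₁ * u * c₁⁻¹) = 1 := by
    rw [show c₁ * u * c₁⁻¹ * (c₁ * u * c₁⁻¹) = c₁ * (u * u) * c₁⁻¹ by group, hu2]; group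
  have hqa : qn a = false := by
    have e := d.sq_act a ha _ hB hact
    rw [hu1] at e
    exact (d.pw_x_inj (i := false) e).symm
  have ha0 : a ≠ 0 := by
    rintro rfl
    refine huQ ?_
    have hm : c₁ * u * c₁⁻¹ ∈ Q := d.fr.faithful _ hB.2 fun k hk => (hact k hk).trans (eich_zero hk)
    have := d.fr.norm c₁⁻¹ hc₁.inv_left _ hm
    rwa [inv_inv, show c₁⁻¹ * (c₁ * u * c₁⁻¹) * c₁ = u by group] at this
  obtain ⟨p, hp, hpa⟩ := sg_trans a ha ha0 hqa
  obtain ⟨c₂, hc₂, hc₂x, hc₂k⟩ := d.exists_prE hp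
  obtain ⟨-, hact'⟩ := d.act_conj hp hc₂ hc₂x hc₂k hB ha hact
  rw [hpa] at hact'
  set c := c₂ * c₁ with hcdef
  have hc : Commute c z := hc₂.mul_left hc₁
  have hu' : Im z ac (c * u * c⁻¹) (eich 4) :=
    ⟨(hc.mul_left huz).mul_left hc.inv_left, by
      rw [show c * u * c⁻¹ = c₂ * (c₁ * u * c₁⁻¹) * c₂⁻¹ by rw [hcdef]; group]
      exact hact'⟩
  set R' := R.map (MulAut.conj c).toMonoidHom with hR'
  have hR'M : R' ≤ cosetC d.fr := by
    rintro _ ⟨r, hr, rfl⟩
    have hrz : Commute (c * r * c⁻¹) z := (hc.mul_left (hRc r hr).1).mul_left hc.inv_left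
    refine ⟨hrz, fun k hk => ?_⟩
    show ac (c * r * c⁻¹) (eich 4 k) = eich 4 (ac (c * r * c⁻¹) k)
    rw [← hu'.2 k hk, ← hu'.2 _ (d.fr.ac_lt hrz hk), ← d.fr.ac_mul hrz hu'.1 hk,
      ← d.fr.ac_mul hu'.1 hrz hk]
    have hcom : Commute (c * r * c⁻¹) (c * u * c⁻¹) := by
      simpa using (hRc r hr).2.map (MulAut.conj c).toMonoidHom
    rw [hcom.eq]
  have hDM : b.eps.dgrp ≤ cosetC d.fr := by
    rintro _ ⟨m, hm, rfl⟩
    refine ⟨b.eps.cz m, fun k hk => ?_⟩
    rw [(b.eps.im m).2 _ (iso_eich.lt k hk), (b.eps.im m).2 k hk, eich_el m k hk]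
    congr 1
    obtain ⟨m₁, m₂, m₃⟩ := m
    cases hm
    rfl
  have hR'9 : Nat.card R' = 9 := by
    rw [hR', Subgroup.card_map_of_injective (MulAut.conj c).injective, hR9]
  set M := cosetC d.fr
  have hD9 : Nat.card (b.eps.dgrp.subgroupOf M) = 9 :=
    (Nat.card_congr (Subgroup.subgroupOfEquivOfLe hDM).toEquiv).trans b.eps.card_dgrp
  have hR9' : Nat.card (R'.subgroupOf M) = 9 :=
    (Nat.card_congr (Subgroup.subgroupOfEquivOfLe hR'M).toEquiv).trans hR'9
  obtain ⟨S, hS⟩ := (IsPGroup.of_card (n := 2) hD9 : IsPGroup 3 _).exists_le_sylow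
  have hSeq : (S : Subgroup M) = b.eps.dgrp.subgroupOf M := by
    have h1 : ((S : Subgroup M).map M.subtype) = b.eps.dgrp := by
      refine b.dgrp_max (S.2.map _) ?_ (Subgroup.map_subtype_le _)
      intro r hr
      exact ⟨⟨r, hDM hr⟩, hS hr, rfl⟩
    rw [← h1, Subgroup.subgroupOf, Subgroup.comap_map_eq_self_of_injective M.subtype_injective]
  obtain ⟨S', hS'⟩ := (IsPGroup.of_card (n := 2) hR9' : IsPGroup 3 _).exists_le_sylow
  obtain ⟨⟨k, hkz, hkk⟩, hk⟩ := MulAction.exists_smul_eq M S' S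
  have hmap : R'.map (MulAut.conj k).toMonoidHom = b.eps.dgrp := by
    refine Subgroup.eq_of_le_of_card_ge ?_ ?_
    · rintro _ ⟨r, hr, rfl⟩
      have hrS : (⟨r, hR'M hr⟩ : M) ∈ (S' : Subgroup M) := hS' hr
      have h2 : (⟨k, hkz, hkk⟩ : M) * ⟨r, hR'M hr⟩ * (⟨k, hkz, hkk⟩ : M)⁻¹ ∈ (S : Subgroup M) := by
        rw [← hk, Sylow.coe_subgroup_smul]
        exact ⟨_, hrS, rfl⟩
      rw [hSeq] at h2
      exact h2
    · rw [Subgroup.card_map_of_injective (MulAut.conj k).injective, hR'9, b.eps.card_dgrp]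
  have hRD : R.map (MulAut.conj (k * c)).toMonoidHom = b.eps.dgrp := by
    rw [← hmap, hR', Subgroup.map_map]
    congr 1
    ext r
    show k * c * r * (k * c)⁻¹ = k * (c * r * c⁻¹) * k⁻¹
    group
  refine ⟨k * c, hkz.mul_left hc, ?_, hRD⟩
  set u' := k * c * u * (k * c)⁻¹
  have hu'' : Im z ac u' (eich 4) := by
    refine ⟨((hkz.mul_left hc).mul_left huz).mul_left (hkz.mul_left hc).inv_left, fun j hj => ?_⟩
    show ac u' j = eich 4 j
    rw [show u' = k * (c * u * c⁻¹) * k⁻¹ by simp only [u']; group, d.fr.ac_conj hu'.1 hkz hj]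
    have hl := d.fr.ac_lt hkz.inv_left hj
    rw [hu'.2 _ hl, hkk _ hl, d.fr.ac_inv' hkz hj]
  have hcomD : ∀ a, inD a → Commute u' (ε a) := fun a ha => by
    have : ε a ∈ R.map (MulAut.conj (k * c)).toMonoidHom := hRD ▸ ⟨a, ha, rfl⟩
    obtain ⟨r, hr, e⟩ := this
    rw [← e]
    exact ((hRc r hr).2.map (MulAut.conj (k * c)).toMonoidHom).symm
  exact b.eq_s hu'' (hcomD af rfl) (hcomD ag rfl)

/-- An element normalising `D` that moves `s` to `z`, and `z` to `s` or `s z`. -/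
theorem swap [Finite G] : ∃ k : G, k * s * k⁻¹ = z ∧ (k * z * k⁻¹ = s ∨ k * z * k⁻¹ = s * z) ∧
    b.eps.dgrp.map (MulAut.conj k).toMonoidHom = b.eps.dgrp := by
  obtain ⟨h, hh⟩ := isConj_iff.1 b.isConj_s
  have hf := b.duo.fr
  set u := h⁻¹ * z * h with hu
  have hz' : h⁻¹ * s * h = z := by rw [← hh]; group
  have huz : Commute u z := by
    have := b.sz.symm.map (MulAut.conj h⁻¹).toMonoidHom
    simpa [hu, hz', mul_assoc] using this
  have hu2 : u * u = 1 := by
    rw [hu, show h⁻¹ * z * h * (h⁻¹ * z * h) = h⁻¹ * (z * z) * h by group, hf.es.sq]; group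
  have huQ : u ∉ Q := fun hm => by
    have hne : h⁻¹ * z * h⁻¹⁻¹ ≠ z := by
      rw [inv_inv]
      intro e
      refine b.s_ne.2 ?_
      rw [← hh]
      calc h * z * h⁻¹ = h * (h⁻¹ * z * h) * h⁻¹ := by rw [e]
        _ = z := by group
    have := hf.inv_mem_of (g := h⁻¹) (by rwa [inv_inv]) hne
    rw [inv_inv, hh] at this
    have h2 := b.s_im.2 8 (by norm_num)
    rw [hf.ac_Q this (by norm_num)] at h2
    exact absurd h2 (by decide)
  obtain ⟨c, hc, hcu, hcR⟩ := b.pair huz hu2 huQ (isConj_iff.2 ⟨h⁻¹, by rw [inv_inv]⟩)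
    (R := b.eps.dgrp.map (MulAut.conj h⁻¹).toMonoidHom)
    (by rw [Subgroup.card_map_of_injective (MulAut.conj h⁻¹).injective, b.eps.card_dgrp]) (by
      rintro _ ⟨_, ⟨a, ha, rfl⟩, rfl⟩
      constructor
      · have := ((b.eps.commute_D b.sf b.sg ha).symm).map (MulAut.conj h⁻¹).toMonoidHom
        simpa [hz', mul_assoc] using this
      · have := (b.eps.cz a).map (MulAut.conj h⁻¹).toMonoidHom
        simpa [hu, mul_assoc] using this)
  refine ⟨c * h⁻¹, ?_, ?_, ?_⟩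
  · rw [show c * h⁻¹ * s * (c * h⁻¹)⁻¹ = c * (h⁻¹ * s * h) * c⁻¹ by group, hz',
      mul_inv_eq_iff_eq_mul.2 hc.eq]
  · rwa [show c * h⁻¹ * z * (c * h⁻¹)⁻¹ = c * (h⁻¹ * z * h) * c⁻¹ by group]
  · conv_rhs => rw [← hcR]
    rw [Subgroup.map_map]
    congr 1
    ext r
    show c * h⁻¹ * r * (c * h⁻¹)⁻¹ = c * (h⁻¹ * r * h⁻¹⁻¹) * c⁻¹
    group

end Base

end Cfsg.Agent.Lib.SuzM11H6
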