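import Cfsg.Agent.Lib.SuzM11H6.Mono
import Cfsg.Agent.Lib.Spectrum.GLTwoThree

/-!
# Suzuki type: `N(A) ∩ C(z)` acts on the inverted part of `A` as `GL(2, 3)`

Owner: helper6.
-/

set_option autoImplicit false

namespace Cfsg.Agent.Lib.SuzM11H6

variable {G : Type*} [Group G] {z s : G} {ε : Tri → G}

/-- The elements of `C(z)` normalising `A`. -/
def nz (z : G) (ε : Tri → G) : Subgroup G :=
  Subgroup.normalizer (bigA ε : Set G) ⊓ Subgroup.centralizer ({z} : Set G)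

/-- The words giving representatives. -/
def permMap : Fin 6 → Tri → Tri
  | 0 => fun a => a
  | 1 => ts
  | 2 => tp
  | 3 => fun a => ts (tp a)
  | 4 => fun a => tp (ts a)
  | 5 => fun a => ts (tp (ts a))

/-- The sign changes. -/
def signMap : Fin 4 → Tri → Tri
  | 0 => fun a => a
  | 1 => tn
  | 2 => ti
  | 3 => fun a => tn (ti a)

theorem words_inj : ∀ p q : Fin 6 × Fin 4,
    ([((1, 0, 0) : Tri), (0, 1, 0), (0, 0, 1)].all fun a =>
      decide (permMap p.1 (signMap p.2 a) = permMap q.1 (signMap q.2 a))) = true → p = q := by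
  decide +kernel

theorem vec_decomp : ∀ v : Fin 2 → ZMod 3, v = v 0 • ![1, 0] + v 1 • ![0, 1] := by decide +kernel

theorem zmod3_add : ∀ p q : ZMod 3, (p.val + q.val) % 3 = (p + q).val := by decide +kernel

theorem zmod3_mul : ∀ p q : ZMod 3, (p * q).val = (p.val * q.val) % 3 := by decide +kernel

theorem vec_trans : ∀ v : Fin 2 → ZMod 3, v ≠ 0 → ∃ w : Fin 2 → ZMod 3, v 0 * w 1 - v 1 * w 0 ≠ 0 := by
  decide +kernel

theorem vec_cases : ∀ v : Fin 2 → ZMod 3, v ≠ 0 → v 0 ≠ 0 ∨ v 1 ≠ 0 := by decide +kernel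

theorem zmod3_units : ∀ p : ZMod 3, p ≠ 0 → p = 1 ∨ p = 2 := by decide +kernel

namespace Loc

variable (L : Loc z s ε) [Finite G]
include L

theorem mem_nz {c : G} : c ∈ nz z ε ↔ (∀ m, ∃ m', c * ε m * c⁻¹ = ε m') ∧ Commute c z := by
  have hz : c ∈ Subgroup.centralizer ({z} : Set G) ↔ Commute c z := Subgroup.mem_centralizer_singleton_iff
  constructor
  · rintro ⟨hN, hc⟩
    have hc' := hz.1 hc
    refine ⟨fun m => ?_, hc'⟩
    exact (L.bigA_z ((Subgroup.mem_normalizer_iff.1 hN _).1 (L.eps_bigA m))).1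
      ((hc'.mul_left (L.cz m)).mul_left hc'.inv_left)
  · rintro ⟨hN, hc⟩
    refine ⟨?_, hz.2 hc⟩
    have hN' : ∀ m, ∃ m', c⁻¹ * ε m * c⁻¹⁻¹ = ε m' := by
      choose φ hφ using hN
      have hinj : Function.Injective φ := fun x y h => L.inj _ _
        (mul_left_cancel (mul_right_cancel ((hφ x).trans ((congrArg ε h).trans (hφ y).symm))))
      intro m
      obtain ⟨m', rfl⟩ := Finite.injective_iff_surjective.1 hinj m
      exact ⟨m', by rw [← hφ m']; group⟩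
    refine Subgroup.mem_normalizer_iff.2 fun a => ⟨L.norm_E hN, fun ha => ?_⟩
    have := L.norm_E hN' ha
    rwa [inv_inv, show c⁻¹ * (c * a * c⁻¹) * c = a by group] at this

theorem eps_nz (m : Tri) : ε m ∈ nz z ε :=
  L.mem_nz.2 ⟨fun a => ⟨a, mul_inv_eq_iff_eq_mul.2 (L.comm m a).eq⟩, L.cz m⟩

theorem s_nz : s ∈ nz z ε := L.mem_nz.2 ⟨fun a => ⟨_, L.sconj a⟩, L.sz⟩

theorem z_nz : z ∈ nz z ε :=
  L.mem_nz.2 ⟨fun a => ⟨a, mul_inv_eq_iff_eq_mul.2 (L.cz a).eq.symm⟩, Commute.refl z⟩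

/-- A pair of inverted elements spanning the inverted part. -/
theorem exists_basis : ∃ b₁ b₂ : G, b₁ ∈ bigA ε ∧ b₂ ∈ bigA ε ∧ Commute b₁ s ∧
    z * b₁ * z⁻¹ = b₁⁻¹ ∧ z * b₂ * z⁻¹ = b₂⁻¹ ∧ b₁ ≠ 1 ∧ b₂ ≠ 1 ∧
    (∀ p q : ZMod 3, b₁ ^ p.val * b₂ ^ q.val = 1 → p = 0 ∧ q = 0) ∧
    ∀ a ∈ bigA ε, z * a * z⁻¹ = a⁻¹ → ∃ p q : ZMod 3, a = b₁ ^ p.val * b₂ ^ q.val := by
  classical
  obtain ⟨b₁, h1, c1, i1, n1⟩ := L.exists_minus (Or.inl rfl)
  obtain ⟨b₂, h2, c2, i2, n2⟩ := L.exists_minus (Or.inr rfl)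
  have hpow1 : ∀ k : ℕ, b₁ ^ k = b₁ ^ (k % 3) := fun k => pow_eq_pow_mod k (L.bigA_cube b₁ h1)
  have hord : ∀ {b : G}, b ∈ bigA ε → b ≠ 1 → ∀ p : ZMod 3, b ^ p.val = 1 → p = 0 := by
    intro b hb hb1 p hp
    by_contra hp0
    rcases zmod3_units p hp0 with rfl | rfl
    · rw [show (1 : ZMod 3).val = 1 from rfl, pow_one] at hp; exact hb1 hp
    · rw [show (2 : ZMod 3).val = 2 from rfl, pow_two] at hp
      have := L.bigA_cube b hb
      rw [pow_three, hp, mul_one] at this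
      exact hb1 this
  have hind : ∀ p q : ZMod 3, b₁ ^ p.val * b₂ ^ q.val = 1 → p = 0 ∧ q = 0 := by
    intro p q h
    have hq : b₂ ^ q.val = (b₁ ^ p.val)⁻¹ := eq_inv_of_mul_eq_one_right h
    have hs : Commute (b₂ ^ q.val) s := hq ▸ (c1.pow_left _).inv_left
    have hsz : Commute (b₂ ^ q.val) (s * z) := c2.pow_left _
    have hmem : b₂ ^ q.val ∈ bigA ε := pow_mem h2 _
    have hz : Commute (b₂ ^ q.val) z := by
      have := hs.mul_right hsz
      rwa [← mul_assoc, L.ssq, one_mul] at this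
    have hinv : z * b₂ ^ q.val * z⁻¹ = (b₂ ^ q.val)⁻¹ := by
      rw [← conj_pow, i2, inv_pow]
    rw [mul_inv_eq_iff_eq_mul.2 hz.eq.symm] at hinv
    have hsq : b₂ ^ q.val * b₂ ^ q.val = 1 := by nth_rw 2 [hinv]; exact mul_inv_cancel _
    have hone : b₂ ^ q.val = 1 := by
      have := L.bigA_cube _ hmem
      rwa [pow_three, hsq, mul_one] at this
    refine ⟨hord h1 n1 p ?_, hord h2 n2 q hone⟩
    rw [hone, mul_one] at h
    exact h
  refine ⟨b₁, b₂, h1, h2, c1, i1, i2, n1, n2, hind, fun a ha hinv => ?_⟩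
  have hcomm : ∀ {x y}, x ∈ bigA ε → y ∈ bigA ε → Commute x y := fun {x y} hx hy => L.bigA_comm x hx y hy
  let φ : bigA ε →* bigA ε :=
    { toFun := fun a => ⟨(a : G) * (z * (a : G) * z⁻¹)⁻¹, mul_mem a.2 (inv_mem (L.conj_z_bigA a.2))⟩
      map_one' := Subtype.ext (by simp)
      map_mul' := fun a b => Subtype.ext (by
        show (a : G) * b * (z * (a * b) * z⁻¹)⁻¹ =
          (a : G) * (z * a * z⁻¹)⁻¹ * ((b : G) * (z * b * z⁻¹)⁻¹)
        calc (a : G) * b * (z * (a * b) * z⁻¹)⁻¹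
            = (a : G) * ((b : G) * (z * b * z⁻¹)⁻¹) * (z * a * z⁻¹)⁻¹ := by group
          _ = _ := by
            rw [mul_assoc, (hcomm (mul_mem b.2 (inv_mem (L.conj_z_bigA b.2)))
              (inv_mem (L.conj_z_bigA a.2))).eq, ← mul_assoc]) }
  let V : Finset G := (Finset.univ : Finset (ZMod 3 × ZMod 3)).image fun p => b₁ ^ p.1.val * b₂ ^ p.2.val
  have hVsub : ∀ x ∈ V, x ∈ bigA ε ∧ z * x * z⁻¹ = x⁻¹ := by
    intro x hx
    simp only [V, Finset.mem_image, Finset.mem_univ, true_and] at hx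
    obtain ⟨p, rfl⟩ := hx
    refine ⟨mul_mem (pow_mem h1 _) (pow_mem h2 _), ?_⟩
    rw [show z * (b₁ ^ p.1.val * b₂ ^ p.2.val) * z⁻¹ = z * b₁ ^ p.1.val * z⁻¹ * (z * b₂ ^ p.2.val * z⁻¹) by group,
      ← conj_pow, ← conj_pow, i1, i2, inv_pow, inv_pow,
      ((hcomm (pow_mem h1 _) (pow_mem h2 _)).inv_inv).eq, ← mul_inv_rev]
  have : Fintype G := Fintype.ofFinite G
  let M : Finset G := Finset.univ.filter fun x => x ∈ bigA ε ∧ z * x * z⁻¹ = x⁻¹
  have hVM : V ⊆ M := fun x hx => by simpa [M] using hVsub x hx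
  have hVc : V.card = 9 := by
    rw [Finset.card_image_of_injective]
    · simp
    · rintro ⟨p, q⟩ ⟨p', q'⟩ h
      have h' : b₁ ^ (p - p').val * b₂ ^ (q - q').val = 1 := by
        have hadd : ∀ {b : G}, b ∈ bigA ε → ∀ u v : ZMod 3, b ^ (u + v).val = b ^ u.val * b ^ v.val :=
          fun {b} hb u v => by
            rw [← zmod3_add, ← pow_add, ← pow_eq_pow_mod _ (L.bigA_cube b hb)]
        have e1 := hadd h1 (p - p') p'
        have e2 := hadd h2 (q - q') q'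
        rw [sub_add_cancel] at e1 e2
        change b₁ ^ p.val * b₂ ^ q.val = b₁ ^ p'.val * b₂ ^ q'.val at h
        rw [e1, e2] at h
        have hc := hcomm (pow_mem h1 p'.val) (pow_mem h2 (q - q').val)
        rw [mul_assoc, ← mul_assoc (b₁ ^ p'.val), hc.eq, mul_assoc (b₂ ^ (q - q').val), ← mul_assoc] at h
        exact mul_eq_right.1 h
      obtain ⟨u, v⟩ := hind _ _ h'
      exact Prod.ext (sub_eq_zero.1 u) (sub_eq_zero.1 v)
  have hMc : M.card ≤ 9 := by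
    have hr : Nat.card φ.ker * Nat.card φ.range = 243 := by
      rw [← Subgroup.index_ker, Subgroup.card_mul_index, L.card_bigA]
    have hk : 27 ≤ Nat.card φ.ker := by
      rw [← L.card_cent_z]
      refine Nat.card_le_card_of_injective (fun x => ⟨⟨x.1, x.2.1⟩, ?_⟩) fun x y h => ?_
      · refine Subtype.ext ?_
        show (x : G) * (z * (x : G) * z⁻¹)⁻¹ = 1
        rw [mul_inv_eq_iff_eq_mul.2 (Subgroup.mem_centralizer_singleton_iff.1 x.2.2).symm, mul_inv_cancel]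
      · exact Subtype.ext (congrArg (fun w => ((w : φ.ker) : bigA ε).1) h)
    have hM : M.card ≤ Nat.card φ.range := by
      rw [← Fintype.card_coe, ← Nat.card_eq_fintype_card]
      refine Nat.card_le_card_of_injective (fun x => ⟨⟨x.1, (Finset.mem_filter.1 x.2).2.1⟩,
        ⟨(⟨x.1, (Finset.mem_filter.1 x.2).2.1⟩ : bigA ε) ^ 2, ?_⟩⟩) fun x y h => ?_
      · refine Subtype.ext ?_
        show (x : G) ^ 2 * (z * (x : G) ^ 2 * z⁻¹)⁻¹ = x
        rw [← conj_pow, (Finset.mem_filter.1 x.2).2.2, inv_pow, inv_inv, ← pow_add,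
          pow_eq_pow_mod _ (L.bigA_cube _ (Finset.mem_filter.1 x.2).2.1), pow_one]
      · exact Subtype.ext (congrArg (fun w => ((w : φ.range) : bigA ε).1) h)
    have := Nat.mul_le_mul_right (Nat.card φ.range) hk
    omega
  have hmemV : a ∈ V := by
    rw [Finset.eq_of_subset_of_card_le hVM (by omega)]
    simp [M, ha, hinv]
  simp only [V, Finset.mem_image, Finset.mem_univ, true_and] at hmemV
  obtain ⟨p, rfl⟩ := hmemV
  exact ⟨p.1, p.2, rfl⟩

/-- The action on the inverted part: a surjection onto `GL(2, 3)` with kernel `E`. -/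
theorem exists_gl : ∃ ρ : nz z ε →* GL (Fin 2) (ZMod 3), Function.Surjective ρ ∧
    (∀ c : nz z ε, ρ c = 1 ↔ (c : G) ∈ bigA ε) ∧
    (∀ c : nz z ε, ρ c = 1 ↔ ∃ m, (c : G) = ε m) ∧
    ∀ a ∈ bigA ε, ∀ a' ∈ bigA ε, z * a * z⁻¹ = a⁻¹ → z * a' * z⁻¹ = a'⁻¹ → a ≠ 1 → a' ≠ 1 →
      ∃ c ∈ nz z ε, c * a * c⁻¹ = a' := by
  classical
  obtain ⟨b₁, b₂, h1, h2, -, i1, i2, -, -, hind, hspan⟩ := L.exists_basis
  let κ : (Fin 2 → ZMod 3) → G := fun v => b₁ ^ (v 0).val * b₂ ^ (v 1).val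
  have hκm : ∀ v, κ v ∈ bigA ε ∧ z * κ v * z⁻¹ = (κ v)⁻¹ := fun v => by
    refine ⟨mul_mem (pow_mem h1 _) (pow_mem h2 _), ?_⟩
    show z * (b₁ ^ (v 0).val * b₂ ^ (v 1).val) * z⁻¹ = _
    rw [show z * (b₁ ^ (v 0).val * b₂ ^ (v 1).val) * z⁻¹ =
      z * b₁ ^ (v 0).val * z⁻¹ * (z * b₂ ^ (v 1).val * z⁻¹) by group,
      ← conj_pow, ← conj_pow, i1, i2, inv_pow, inv_pow,
      ((L.bigA_comm _ (pow_mem h1 _) _ (pow_mem h2 _)).inv_inv).eq, ← mul_inv_rev]
  have hκadd : ∀ u v, κ (u + v) = κ u * κ v := fun u v => by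
    have hadd : ∀ {b : G}, b ∈ bigA ε → ∀ x y : ZMod 3, b ^ (x + y).val = b ^ x.val * b ^ y.val :=
      fun {b} hb x y => by rw [← zmod3_add, ← pow_add, ← pow_eq_pow_mod _ (L.bigA_cube b hb)]
    show b₁ ^ (u 0 + v 0).val * b₂ ^ (u 1 + v 1).val = _
    rw [hadd h1, hadd h2]
    have hc := L.bigA_comm _ (pow_mem h1 (v 0).val) _ (pow_mem h2 (u 1).val)
    show _ = b₁ ^ (u 0).val * b₂ ^ (u 1).val * (b₁ ^ (v 0).val * b₂ ^ (v 1).val)
    rw [mul_assoc, ← mul_assoc (b₁ ^ (v 0).val), hc.eq]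
    group
  have hκinj : Function.Injective κ := fun u v h => by
    have h' : κ (u - v) = 1 := by
      have := hκadd (u - v) v
      rw [sub_add_cancel, h] at this
      exact mul_eq_right.1 this.symm
    obtain ⟨e0, e1⟩ := hind _ _ h'
    funext i
    fin_cases i
    · exact sub_eq_zero.1 e0
    · exact sub_eq_zero.1 e1
  have himg : ∀ (c : nz z ε) v, ∃ w, (c : G) * κ v * (c : G)⁻¹ = κ w := fun c v => by
    obtain ⟨hN, hc⟩ := L.mem_nz.1 c.2
    obtain ⟨ha, hi⟩ := hκm v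
    obtain ⟨p, q, e⟩ := hspan _ (L.norm_E hN ha) (by
      calc z * ((c : G) * κ v * (c : G)⁻¹) * z⁻¹ = (z * c) * κ v * (z * c)⁻¹ := by group
        _ = (c : G) * (z * κ v * z⁻¹) * (c : G)⁻¹ := by rw [← hc.eq]; group
        _ = _ := by rw [hi]; group)
    exact ⟨![p, q], e.trans (by simp [κ])⟩
  choose act hact using himg
  have hlin : ∀ c u v, act c (u + v) = act c u + act c v := fun c u v => hκinj (by
    rw [← hact, hκadd, hκadd, ← hact, ← hact]; group)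
  let F : nz z ε → ((Fin 2 → ZMod 3) →ₗ[ZMod 3] (Fin 2 → ZMod 3)) := fun c =>
    (AddMonoidHom.mk' (act c) (hlin c)).toZModLinearMap 3
  have hF : ∀ c v, κ (F c v) = (c : G) * κ v * (c : G)⁻¹ := fun c v => (hact c v).symm
  let M : nz z ε →* Matrix (Fin 2) (Fin 2) (ZMod 3) :=
    { toFun := fun c => LinearMap.toMatrix' (F c)
      map_one' := by
        rw [← LinearMap.toMatrix'_id]
        refine congrArg _ (LinearMap.ext fun v => hκinj ?_)
        rw [hF]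
        simp
      map_mul' := fun c d => by
        rw [← LinearMap.toMatrix'_comp]
        refine congrArg _ (LinearMap.ext fun v => hκinj ?_)
        rw [LinearMap.comp_apply, hF, hF, hF, Subgroup.coe_mul]
        group }
  let ρ : nz z ε →* GL (Fin 2) (ZMod 3) := M.toHomUnits
  have hone : ∀ c : nz z ε, ρ c = 1 ↔ ∀ v, (c : G) * κ v * (c : G)⁻¹ = κ v := fun c => by
    rw [← Units.val_eq_one]
    show LinearMap.toMatrix' (F c) = 1 ↔ _
    rw [← LinearMap.toMatrix'_id, (LinearEquiv.injective _).eq_iff, LinearMap.ext_iff]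
    refine forall_congr' fun v => ?_
    rw [← hF, hκinj.eq_iff]
    rfl
  have hker : ∀ c : nz z ε, ρ c = 1 ↔ ∃ m, (c : G) = ε m := fun c => by
    rw [hone]
    constructor
    · intro h
      refine L.minus_faithful (L.mem_nz.1 c.2).2 (L.mem_nz.1 c.2).1 fun a ha hi => ?_
      obtain ⟨p, q, e⟩ := hspan a ha hi
      have := h ![p, q]
      simpa [κ, ← e] using this
    · rintro ⟨m, e⟩ v
      rw [e, (L.bigA_comm _ (L.eps_bigA m) _ (hκm v).1).eq, mul_inv_cancel_right]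
  have hker' : ∀ c : nz z ε, ρ c = 1 ↔ (c : G) ∈ bigA ε := fun c => by
    rw [hker]
    exact ⟨fun ⟨m, e⟩ => e ▸ L.eps_bigA m, fun h => (L.bigA_z h).1 (L.mem_nz.1 c.2).2⟩
  suffices hsurj : Function.Surjective ρ by
    refine ⟨ρ, hsurj, hker', hker, fun a ha a' ha' hi hi' h0 h0' => ?_⟩
    obtain ⟨p, q, ea⟩ := hspan a ha hi
    obtain ⟨p', q', ea'⟩ := hspan a' ha' hi'
    have hva : κ ![p, q] = a := ea.symm
    have hva' : κ ![p', q'] = a' := ea'.symm
    have hκ0 : κ 0 = 1 := by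
      show b₁ ^ (0 : ZMod 3).val * b₂ ^ (0 : ZMod 3).val = 1
      rw [ZMod.val_zero, pow_zero, pow_zero, one_mul]
    have hto : ∀ v : Fin 2 → ZMod 3, v ≠ 0 → ∃ c : nz z ε, (c : G) * κ ![1, 0] * (c : G)⁻¹ = κ v := by
      intro v hv
      obtain ⟨w, hw⟩ := vec_trans v hv
      have hdet : (!![v 0, w 0; v 1, w 1] : Matrix (Fin 2) (Fin 2) (ZMod 3)).det ≠ 0 := by
        rw [Matrix.det_fin_two_of, mul_comm (w 0)]
        exact hw
      have : Fact (Nat.Prime 3) := ⟨Nat.prime_three⟩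
      obtain ⟨c, hc⟩ := hsurj (Matrix.GeneralLinearGroup.mkOfDetNeZero _ hdet)
      refine ⟨c, ?_⟩
      rw [← hF]
      congr 1
      have hM : LinearMap.toMatrix' (F c) = !![v 0, w 0; v 1, w 1] := congrArg Units.val hc
      rw [← Matrix.toLin'_toMatrix' (F c), hM, Matrix.toLin'_apply]
      funext i
      fin_cases i <;> simp [Matrix.mulVec, dotProduct, Fin.sum_univ_two]
    obtain ⟨c, hc⟩ := hto ![p, q] (fun h => h0 (by rw [← hva, h, hκ0]))
    obtain ⟨c', hc'⟩ := hto ![p', q'] (fun h => h0' (by rw [← hva', h, hκ0]))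
    refine ⟨(c' : G) * (c : G)⁻¹, mul_mem c'.2 (inv_mem c.2), ?_⟩
    rw [← hva, ← hc, ← hva', ← hc']
    group
  -- forty-eight distinct images
  obtain ⟨n, hnz, hn⟩ := L.inv01
  obtain ⟨i, hiz, hi⟩ := L.inv12
  obtain ⟨p, hpz, hp⟩ := L.perm12
  let pe : Fin 6 → G := fun j => match j with
    | 0 => 1 | 1 => s | 2 => p | 3 => s * p | 4 => p * s | 5 => s * p * s
  let se : Fin 4 → G := fun j => match j with
    | 0 => 1 | 1 => n | 2 => i | 3 => n * i
  have hcomp : ∀ {c d : G} {T U : Tri → Tri}, (∀ a, c * ε a * c⁻¹ = ε (T a)) →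
      (∀ a, d * ε a * d⁻¹ = ε (U a)) → ∀ a, c * d * ε a * (c * d)⁻¹ = ε (T (U a)) := by
    intro c d T U hc hd a
    rw [show c * d * ε a * (c * d)⁻¹ = c * (d * ε a * d⁻¹) * c⁻¹ by group, hd, hc]
  have hid : ∀ a, (1 : G) * ε a * 1⁻¹ = ε a := fun a => by group
  have hpe : ∀ j, Commute (pe j) z ∧ ∀ a, pe j * ε a * (pe j)⁻¹ = ε (permMap j a) := fun j => by
    fin_cases j
    · exact ⟨Commute.one_left z, hid⟩
    · exact ⟨L.sz, L.sconj⟩
    · exact ⟨hpz, hp⟩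
    · exact ⟨L.sz.mul_left hpz, hcomp (T := ts) (U := tp) L.sconj hp⟩
    · exact ⟨hpz.mul_left L.sz, hcomp (T := tp) (U := ts) hp L.sconj⟩
    · exact ⟨(L.sz.mul_left hpz).mul_left L.sz, hcomp (T := fun a => ts (tp a)) (U := ts) (hcomp (T := ts) (U := tp) L.sconj hp) L.sconj⟩
  have hse : ∀ j, Commute (se j) z ∧ ∀ a, se j * ε a * (se j)⁻¹ = ε (signMap j a) := fun j => by
    fin_cases j
    · exact ⟨Commute.one_left z, hid⟩
    · exact ⟨hnz, hn⟩
    · exact ⟨hiz, hi⟩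
    · exact ⟨hnz.mul_left hiz, hcomp (T := tn) (U := ti) hn hi⟩
  let rep : (Fin 6 × Fin 4) × Bool → nz z ε := fun w => ⟨pe w.1.1 * se w.1.2 * SuzType52.pw z w.2, by
    refine mul_mem (L.mem_nz.2 ⟨fun m => ⟨_, hcomp (hpe w.1.1).2 (hse w.1.2).2 m⟩,
      (hpe w.1.1).1.mul_left (hse w.1.2).1⟩) ?_
    cases w.2
    · exact one_mem _
    · exact L.z_nz⟩
  have hrep : ∀ w a, (rep w : G) * ε a * (rep w : G)⁻¹ = ε (permMap w.1.1 (signMap w.1.2 a)) := fun w a => by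
    refine hcomp (U := fun a => a) (hcomp (hpe w.1.1).2 (hse w.1.2).2) ?_ a
    intro a
    cases w.2
    · exact hid a
    · exact mul_inv_eq_iff_eq_mul.2 (L.cz a).eq.symm
  have hinj : Function.Injective (fun w => ρ (rep w)) := by
    intro w w' h
    have h1 : ρ ((rep w)⁻¹ * rep w') = 1 := by
      rw [map_mul, map_inv, show ρ (rep w') = ρ (rep w) from h.symm, inv_mul_cancel]
    obtain ⟨m, hm⟩ := (hker _).1 h1
    have hm' : (rep w' : G) = (rep w : G) * ε m := by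
      rw [← hm, Subgroup.coe_mul, Subgroup.coe_inv, mul_inv_cancel_left]
    have hfun : ∀ a, permMap w.1.1 (signMap w.1.2 a) = permMap w'.1.1 (signMap w'.1.2 a) := fun a =>
      L.inj _ _ (by
        rw [← hrep w a, ← hrep w' a, hm']
        calc (rep w : G) * ε a * (rep w : G)⁻¹ = (rep w : G) * (ε m * ε a * (ε m)⁻¹) * (rep w : G)⁻¹ := by
              rw [mul_inv_eq_iff_eq_mul.2 (L.comm m a).eq]
          _ = _ := by group)
    have hw := words_inj w.1 w'.1 (List.all_eq_true.2 fun a _ => decide_eq_true (hfun a))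
    refine Prod.ext hw ?_
    have h3 : SuzType52.pw z w'.2 = SuzType52.pw z w.2 * ε m := by
      have := hm'
      simp only [rep, hw, mul_assoc] at this
      exact mul_left_cancel (mul_left_cancel this)
    have hzm : z ≠ ε m ∧ 1 ≠ z * ε m := by
      have hne : ∀ m, z ≠ ε m := fun m e =>
        L.z1 (L.bigA_spec.2.2.2.1 z (e ▸ L.eps_bigA m) L.z_four)
      refine ⟨hne m, fun e => hne (-m) ?_⟩
      rw [L.neg, ← eq_inv_of_mul_eq_one_left e.symm]
    cases hb : w.2 <;> cases hb' : w'.2 <;> rw [hb, hb'] at h3 <;>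
      simp only [SuzType52.pw, cond_true, cond_false, one_mul] at h3
    all_goals first | rfl | exact absurd h3 hzm.1 | exact absurd h3 hzm.2
  have hbij : Function.Bijective (fun w => ρ (rep w)) := by
    have : Finite (GL (Fin 2) (ZMod 3)) := inferInstance
    refine hinj.bijective_of_nat_card_le ?_
    rw [Spectrum.GLTwoThree.card_gl]
    simp
  intro g
  obtain ⟨w, hw⟩ := hbij.2 g
  exact ⟨rep w, hw⟩

end Loc

end Cfsg.Agent.Lib.SuzM11H6
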