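import Cfsg.Agent.Lib.SuzM11H6.Pair

/-!
# Suzuki type: the local data at `D`

The two-parts of `C(g)` and `C(f)`, the elements of `C(z)` permuting the rotations, and the local data
`Loc` used by the rest of the proof.

Owner: helper6.
-/

set_option autoImplicit false

namespace Cfsg.Agent.Lib.SuzM11H6

open Cfsg.Agent.Lib.SuzType52

variable {G : Type*} [Group G] {z : G} {Q : Subgroup G} {co : G → ℕ} {ac : G → ℕ → ℕ}

/-- The local data, free of coordinates. -/
structure Loc (z s : G) (ε : Tri → G) : Prop where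
  ord : orderOf z = 2
  ssq : s * s = 1
  sz : Commute s z
  s1 : s ≠ 1
  sne : s ≠ z
  add : ∀ a b, ε (a + b) = ε a * ε b
  inj : ∀ a b, ε a = ε b → a = b
  cz : ∀ a, Commute (ε a) z
  zs : IsConj z s
  sconj : ∀ a, s * ε a * s⁻¹ = ε (ts a)
  cD : ∀ c, Commute c z → Commute c (ε af) → Commute c (ε ag) →
    ∃ m : Tri, ∃ t i : Bool, c = ε m * pw s t * pw z i
  swap : ∃ k : G, k * s * k⁻¹ = z ∧ (k * z * k⁻¹ = s ∨ k * z * k⁻¹ = s * z) ∧
    ∀ a, inD a → ∃ a', inD a' ∧ k * ε a * k⁻¹ = ε a'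
  swap' : ∃ k : G, k * (s * z) * k⁻¹ = z ∧ (k * z * k⁻¹ = s ∨ k * z * k⁻¹ = s * z) ∧
    ∀ a, inD a → ∃ a', inD a' ∧ k * ε a * k⁻¹ = ε a'
  small : ∀ R : Subgroup G, IsPGroup 2 R → (∀ r ∈ R, Commute r (ε ag)) → Nat.card R ≤ 32
  big : ∃ R : Subgroup G, IsPGroup 2 R ∧ (∀ r ∈ R, Commute r (ε af)) ∧ 32 < Nat.card R
  nsq : ∀ y, Commute y z → Commute y (ε ag) → y * y ≠ s ∧ y * y ≠ s * z
  root : ∃ q, Commute q z ∧ Commute q (ε ag) ∧ Commute q s ∧ q * q = z
  inv01 : ∃ c, Commute c z ∧ ∀ a, c * ε a * c⁻¹ = ε (tn a)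
  inv12 : ∃ c, Commute c z ∧ ∀ a, c * ε a * c⁻¹ = ε (ti a)
  perm12 : ∃ c, Commute c z ∧ ∀ a, c * ε a * c⁻¹ = ε (tp a)
  weight : ∀ c, Commute c z → ∀ a b, c * ε a * c⁻¹ = ε b → wt b = wt a
  even : ¬ ∃ c, Commute c z ∧ ∀ a, c * ε a * c⁻¹ = ε (t0 a)

theorem wt_of_nfix : ∀ a b : Tri, nfix (el a) = nfix (el b) → wt a = wt b := by decide +kernel

theorem inL0_el_sw : ∀ m : Tri, ∀ t : Bool, inL0 (el m (sw t 3)) = !t := by decide +kernel

theorem inL0_eich : inL0 (eich 4 3) = false := by decide +kernel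

theorem rf_three : ∀ k < 64, rf (rf (rf k)) = k := by decide +kernel

theorem el_refl_aux : ∀ m : Tri, ∀ k ∈ units, refl 3 (refl 3 (el m k)) = el m k := by decide +kernel

theorem refl_three : ∀ k < 64, refl 3 (refl 3 k) = k := by decide +kernel

theorem three_nsmul : ∀ a : Tri, 3 • a = 0 := by decide +kernel

/-- A flag of a map commuting with `rg`. -/
def flag (φ : ℕ → ℕ) : Bool := inL0 (φ 3)

/-- A map commutes with `rf`. -/
def comF (φ : ℕ → ℕ) : Prop := ∀ k < 64, φ (rf k) = rf (φ k)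

theorem cG_comp {φ ψ : ℕ → ℕ} (hφ : Iso6 φ) (hψ : Iso6 ψ) (gφ : ∀ k < 64, φ (rg k) = rg (φ k))
    (gψ : ∀ k < 64, ψ (rg k) = rg (ψ k)) :
    flag (fun k => φ (ψ k)) = (flag φ == flag ψ) ∧ ((comF φ ↔ comF ψ) → comF fun k => φ (ψ k)) := by
  obtain ⟨a1, a2, a3⟩ := cG hφ gφ
  obtain ⟨b1, -, b3⟩ := cG hψ gψ
  have hl := hψ.lt 3 (by norm_num)
  obtain ⟨-, h1⟩ := b1 3 (by norm_num) (by decide)
  have hrf := iso_rot (φ := rf) (by simp)
  refine ⟨?_, fun hiff => ?_⟩
  · cases hb : flag ψ with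
    | true =>
      rw [flag, (a1 _ hl hb).1]
      show flag φ = (flag φ == true)
      cases flag φ <;> rfl
    | false =>
      have hb' : inL1 (ψ 3) = true := by rw [h1]; show (!flag ψ) = true; rw [hb]; rfl
      rw [flag, a2 _ hl hb']
      show (!flag φ) = (flag φ == false)
      cases flag φ <;> rfl
  · intro k hk
    by_cases hc : comF ψ
    · show φ (ψ (rf k)) = rf (φ (ψ k))
      rw [hc k hk, hiff.2 hc _ (hψ.lt k hk)]
    · have hc' : ¬ comF φ := fun h => hc (hiff.1 h)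
      have e1 := b3.resolve_left hc
      have e2 := a3.resolve_left hc'
      have hl := hψ.lt k hk
      show φ (ψ (rf k)) = rf (φ (ψ k))
      rw [e1 k hk, e2 _ (hrf.lt _ hl), e2 _ hl, rf_three _ (hrf.lt _ (hφ.lt _ hl))]

namespace Eps

variable {ε : Tri → G} (E : Eps z Q co ac ε)
include E

theorem ac_rg {c : G} (hc : Commute c z) (hg : Commute c (ε ag)) :
    ∀ k < 64, ac c (rg k) = rg (ac c k) := fun k hk => by
  obtain ⟨-, -, -, r3⟩ := rots_el
  rw [r3 k hk, r3 _ (E.fr.ac_lt hc hk)]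
  exact E.ac_commute hc hg k hk

theorem ac_one (k : ℕ) (hk : k < 64) : ac 1 k = k := E.fr.ac_Q (one_mem Q) hk

theorem pow_im {r : G} {m : Tri} (hr : Im z ac r (el m)) : ∀ j : ℕ, Im z ac (r ^ j) (el (j • m))
  | 0 => by
    rw [pow_zero, zero_smul]
    exact ⟨Commute.one_left z, fun k hk => (E.ac_one k hk).trans (el_zero k).symm⟩
  | j + 1 => by
    rw [pow_succ, succ_nsmul]
    exact ((pow_im hr j).mul E.fr hr).cast fun k hk => el_add _ _ k hk

/-- A lift of a product of reflections permuting the rotations. -/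
theorem exists_perm [Finite G] {φ : ℕ → ℕ} {T : Tri → Tri} (hφ : ∃ c, Im z ac c φ)
    (hT : ∀ a, ∀ k < 64, φ (el a k) = el (T a) (φ k)) :
    ∃ c, Commute c z ∧ ∀ a, c * ε a * c⁻¹ = ε (T a) := by
  obtain ⟨c, hc⟩ := hφ
  obtain ⟨c', hc', h⟩ := E.exists_norm hc hT
  exact ⟨c', hc'.1, h⟩

end Eps

namespace Base

variable {x n : G} {ε : Tri → G} {s : G} (b : Base z Q co ac x n ε s)
include b

/-- The key of an element of a `2`-group in `C(z) ∩ C(g)`. -/
theorem flag_mul {y y' : G} (hy : Commute y z) (hy' : Commute y' z) (gy : Commute y (ε ag))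
    (gy' : Commute y' (ε ag)) :
    flag (ac (y * y')) = (flag (ac y) == flag (ac y')) ∧
      ((comF (ac y) ↔ comF (ac y')) → comF (ac (y * y'))) := by
  have hf := b.duo.fr
  obtain ⟨h1, h2⟩ := cG_comp (hf.iso hy) (hf.iso hy') (b.eps.ac_rg hy gy) (b.eps.ac_rg hy' gy')
  have e : ∀ k < 64, ac (y * y') k = ac y (ac y' k) := fun k hk => hf.ac_mul hy hy' hk
  refine ⟨?_, fun hi k hk => ?_⟩
  · rw [← h1, flag, flag, e 3 (by norm_num)]
  · rw [e _ ((iso_rot (φ := rf) (by simp)).lt k hk), e k hk]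
    exact h2 hi k hk

theorem key_inv {y : G} (hy : Commute y z) (gy : Commute y (ε ag)) :
    flag (ac y⁻¹) = flag (ac y) ∧ (comF (ac y⁻¹) ↔ comF (ac y)) := by
  have hf := b.duo.fr
  refine ⟨?_, ?_⟩
  · have h1 := (b.flag_mul hy.inv_left hy gy.inv_left gy).1
    rw [inv_mul_cancel, flag, b.eps.ac_one 3 (by norm_num)] at h1
    revert h1
    cases flag (ac y⁻¹) <;> cases flag (ac y) <;> decide
  · have key : ∀ w : G, Commute w z → comF (ac w) → comF (ac w⁻¹) := fun w hw hc k hk => by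
      have hl := hf.ac_lt hw.inv_left hk
      have e := hc _ hl
      rw [hf.ac_inv' hw hk] at e
      rw [← e, hf.ac_inv hw ((iso_rot (φ := rf) (by simp)).lt _ hl)]
    exact ⟨fun h => by simpa using key _ hy.inv_left h, key y hy⟩

/-- Equal keys in a `2`-group give the same coset of `Q`. -/
theorem mem_Q_of_key {R : Subgroup G} (hR : IsPGroup 2 R) (hz : ∀ r ∈ R, Commute r z)
    (hg : ∀ r ∈ R, Commute r (ε ag)) {y : G} (hy : y ∈ R) (hfl : flag (ac y) = true)
    (hc : comF (ac y)) : y ∈ Q := by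
  have hf := b.duo.fr
  obtain ⟨m, t, hm⟩ := Cfsg.Agent.Lib.SuzM11H6.cD (hf.iso (hz y hy)) (b.eps.ac_rg (hz y hy) (hg y hy)) hc
  have ht : t = false := by
    rw [flag, hm 3 (by norm_num), inL0_el_sw] at hfl
    revert hfl; cases t <;> decide
  subst ht
  have hi : Im z ac y (el m) := ⟨hz y hy, fun k hk => hm k hk⟩
  obtain ⟨j, hj⟩ := hR ⟨y, hy⟩
  have hj' : y ^ 2 ^ j = 1 := congrArg Subtype.val hj
  have h0 : (2 ^ j) • m = 0 := el_inj fun k hk => by
    rw [el_zero, ← (b.eps.pow_im hi (2 ^ j)).2 k hk, hj', b.eps.ac_one k hk]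
  have hm0 : m = 0 := by
    have := (gcd_nsmul_eq_zero (a := m) (m := 3) (n := 2 ^ j)).2 ⟨three_nsmul m, h0⟩
    rwa [show Nat.gcd 3 (2 ^ j) = 1 from Nat.Coprime.pow_right j (by norm_num), one_smul] at this
  subst hm0
  exact Im.mem hf (hi.cast fun k _ => el_zero k)

theorem card_CQg [Finite G] : Nat.card {q : G // q ∈ Q ∧ Commute q (ε ag)} = 8 := by
  have key : ∀ k < 64, el ag k = k ↔ k ∈ [0, 16, 32, 48] := by decide +kernel
  have e : {q : G // q ∈ Q ∧ Commute q (ε ag)} ≃ {r : G // r ∈ Q ∧ co r ∈ [0, 16, 32, 48]} :=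
    Equiv.subtypeEquivRight fun q =>
      ⟨fun ⟨hq, hc⟩ => ⟨hq, (key _ (b.duo.fr.co_lt q hq)).1 ((b.eps.commute_iff hq ag).1 hc.symm)⟩,
        fun ⟨hq, hL⟩ => ⟨hq, ((b.eps.commute_iff hq ag).2 ((key _ (b.duo.fr.co_lt q hq)).2 hL)).symm⟩⟩
  rw [Nat.card_congr e, card_fibre b.duo _ (by decide) (by decide)]
  rfl

theorem small_in [Finite G] {R : Subgroup G} (hR : IsPGroup 2 R) (hz : ∀ r ∈ R, Commute r z)
    (hg : ∀ r ∈ R, Commute r (ε ag)) : Nat.card R ≤ 32 ∧ ∀ r ∈ R, r * r ∈ Q := by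
  classical
  refine ⟨?_, fun r hr => ?_⟩
  · let key : R → Bool × Bool := fun r => (flag (ac r), decide (comF (ac r)))
    have : Fintype R := Fintype.ofFinite R
    have hfib : ∀ p ∈ Finset.univ.image key, ((Finset.univ : Finset R).filter fun r => key r = p).card ≤ 8 := by
      intro p hp
      obtain ⟨r₀, -, rfl⟩ := Finset.mem_image.1 hp
      have hbound : Nat.card {r : R // key r = key r₀} ≤ 8 := by
        rw [← b.card_CQg]
        refine Nat.card_le_card_of_injective (fun r => ⟨(r₀ : G)⁻¹ * r.1, ?_, ?_⟩) ?_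
        · obtain ⟨e1, e2⟩ := Prod.mk.injEq .. ▸ r.2
          have hi := b.key_inv (hz _ r₀.2) (hg _ r₀.2)
          have hm := b.flag_mul (hz _ r₀.2).inv_left (hz _ r.1.2) (hg _ r₀.2).inv_left (hg _ r.1.2)
          refine b.mem_Q_of_key hR hz hg (mul_mem (inv_mem r₀.2) r.1.2) ?_ (hm.2 ?_)
          · rw [hm.1, hi.1, e1]
            cases flag (ac (r₀ : G)) <;> rfl
          · rw [hi.2]
            exact (decide_eq_decide.1 e2).symm
        · exact (hg _ r₀.2).inv_left.mul_left (hg _ r.1.2)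
        · intro r r' h
          exact Subtype.ext (Subtype.ext (mul_left_cancel (congrArg Subtype.val h)))
      rw [Nat.card_eq_fintype_card, Fintype.card_subtype] at hbound
      exact hbound
    have h1 := Finset.card_le_mul_card_image (f := key) (Finset.univ : Finset R) 8 hfib
    have h2 : (Finset.univ.image key).card ≤ 4 := le_trans (Finset.card_le_univ _) (by simp)
    rw [Nat.card_eq_fintype_card, ← Finset.card_univ]
    omega
  · refine b.mem_Q_of_key hR hz hg (mul_mem hr hr) ?_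
      ((b.flag_mul (hz r hr) (hz r hr) (hg r hr) (hg r hr)).2 Iff.rfl)
    rw [(b.flag_mul (hz r hr) (hz r hr) (hg r hr) (hg r hr)).1]
    cases flag (ac r) <;> rfl

theorem exists_root : ∃ q, q ∈ Q ∧ Commute q (ε ag) ∧ Commute q s ∧ q * q = z := by
  have hf := b.duo.fr
  obtain ⟨q, hq, hqc⟩ := hf.co_surj 16 (by norm_num)
  have hqg : Commute q (ε ag) := ((b.eps.commute_iff hq ag).2 (by rw [hqc]; decide +kernel)).symm
  refine ⟨q, hq, hqg, ?_, by rw [hf.sq q hq, hqc]; rfl⟩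
  -- the sign of `s` is the same on the three classes, hence trivial
  set f := ε af with hfdef
  have hfz : ∀ (i : Bool) (c : G), Commute c z → c * pw z i * c⁻¹ = pw z i := fun i c hc => by
    cases i
    · simp [pw]
    · exact mul_inv_eq_iff_eq_mul.2 hc.eq
  have hsgn : ∀ r ∈ Q, co r = 16 ∨ co r = 32 ∨ co r = 48 → ∃ i, s * r * s⁻¹ = r * pw z i := fun r hr h => by
    have hm := hf.norm s b.sz r hr
    have e : co (s * r * s⁻¹) = co r := by
      rw [hf.conj s b.sz r hr, b.s_im.2 _ (hf.co_lt r hr)]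
      rcases h with h | h | h <;> rw [h] <;> rfl
    rcases hf.co_eq hr hm e.symm with e | e
    · exact ⟨false, by rw [e]; exact (mul_one r).symm⟩
    · exact ⟨true, e⟩
  obtain ⟨i, hi⟩ := hsgn q hq (Or.inl hqc)
  have hq2 : f * q * f⁻¹ ∈ Q := hf.norm f (b.eps.cz af) q hq
  have hq2c : co (f * q * f⁻¹) = 32 := by
    rw [hf.conj f (b.eps.cz af) q hq, hqc, (b.eps.im af).2 16 (by norm_num)]; decide +kernel
  have hq3 : f * (f * q * f⁻¹) * f⁻¹ ∈ Q := hf.norm f (b.eps.cz af) _ hq2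
  have hq3c : co (f * (f * q * f⁻¹) * f⁻¹) = 48 := by
    rw [hf.conj f (b.eps.cz af) _ hq2, hq2c, (b.eps.im af).2 32 (by norm_num)]; decide +kernel
  have hconj : ∀ r : G, s * r * s⁻¹ = r * pw z i → s * (f * r * f⁻¹) * s⁻¹ = f * r * f⁻¹ * pw z i := by
    intro r hr
    have hsf : s * f = f * s := b.sf.eq
    calc s * (f * r * f⁻¹) * s⁻¹ = (s * f) * r * (s * f)⁻¹ := by group
      _ = f * (s * r * s⁻¹) * f⁻¹ := by rw [hsf]; group
      _ = f * r * f⁻¹ * (f * pw z i * f⁻¹) := by rw [hr]; group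
      _ = _ := by rw [hfz i f (b.eps.cz af)]
  have h3 := hconj _ (hconj q hi)
  have hprod : q * (f * q * f⁻¹) ∈ Q := mul_mem hq hq2
  have hco : co (q * (f * q * f⁻¹)) = co (f * (f * q * f⁻¹) * f⁻¹) := by
    rw [hf.co_mul q hq _ hq2, hqc, hq2c, hq3c]; rfl
  have hprod' : s * (q * (f * q * f⁻¹)) * s⁻¹ = q * (f * q * f⁻¹) := by
    calc s * (q * (f * q * f⁻¹)) * s⁻¹ = (s * q * s⁻¹) * (s * (f * q * f⁻¹) * s⁻¹) := by group
      _ = q * pw z i * (f * q * f⁻¹ * pw z i) := by rw [hi, hconj q hi]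
      _ = q * (f * q * f⁻¹) * (pw z i * pw z i) := by
        have hc : Commute (f * q * f⁻¹) (pw z i) := by
          cases i
          · exact Commute.one_right _
          · exact hf.es.comm _ hq2
        rw [mul_assoc q, ← mul_assoc (pw z i), ← hc.eq]; group
      _ = _ := by rw [pw_mul hf.es.sq, Bool.xor_self]; exact mul_one _
  have hi0 : i = false := by
    cases i with
    | false => rfl
    | true =>
      exfalso
      rcases hf.co_eq hq3 hprod hco.symm with e | e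
      · rw [e, h3] at hprod'
        exact hf.es.ne (mul_eq_left.1 hprod')
      · rw [e, show s * (f * (f * q * f⁻¹) * f⁻¹ * z) * s⁻¹ =
          (s * (f * (f * q * f⁻¹) * f⁻¹) * s⁻¹) * (s * z * s⁻¹) by group, h3,
          mul_inv_eq_iff_eq_mul.2 b.sz.eq] at hprod'
        have h4 := mul_right_cancel hprod'
        exact hf.es.ne (mul_eq_left.1 h4)
  rw [hi0] at hi
  exact (mul_inv_eq_iff_eq_mul.1 (hi.trans (mul_one q))).symm

theorem small [Finite G] (R : Subgroup G) (hR : IsPGroup 2 R) (hg : ∀ r ∈ R, Commute r (ε ag)) :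
    Nat.card R ≤ 32 := by
  have : Fact (Nat.Prime 2) := ⟨Nat.prime_two⟩
  have hf := b.duo.fr
  obtain ⟨q, hq, hqg, -, hqq⟩ := b.exists_root
  set C := Subgroup.centralizer ({ε ag} : Set G) with hC
  have hC' : ∀ {c : G}, c ∈ C ↔ Commute c (ε ag) := fun {c} => Subgroup.mem_centralizer_singleton_iff
  set H := C ⊓ Subgroup.centralizer ({z} : Set G) with hH
  have hH' : ∀ {c : G}, c ∈ H → Commute c z ∧ Commute c (ε ag) := fun hc =>
    ⟨Subgroup.mem_centralizer_singleton_iff.1 hc.2, hC'.1 hc.1⟩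
  have hqH : q ∈ H := ⟨hC'.2 hqg, Subgroup.mem_centralizer_singleton_iff.2 (hf.es.comm q hq)⟩
  obtain ⟨k, hk⟩ : ∃ k, Nat.card Q = 2 ^ k := ⟨7, by rw [hf.card]; norm_num⟩
  have hqp : IsPGroup 2 (Subgroup.zpowers (⟨q, hqH⟩ : H)) := by
    have : IsPGroup 2 Q := IsPGroup.of_card hk
    rintro ⟨y, hy⟩
    obtain ⟨e, rfl⟩ := Subgroup.mem_zpowers_iff.1 hy
    obtain ⟨j, hj⟩ := this ⟨q ^ e, zpow_mem hq e⟩
    exact ⟨j, Subtype.ext (Subtype.ext (by simpa using congrArg Subtype.val hj))⟩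
  obtain ⟨S₀, hS₀⟩ := hqp.exists_le_sylow
  set T₀ := (S₀ : Subgroup H).map H.subtype with hT₀
  have hT₀H : T₀ ≤ H := Subgroup.map_subtype_le _
  have hT₀p : IsPGroup 2 T₀ := S₀.2.map _
  have hqT : q ∈ T₀ := ⟨_, hS₀ (Subgroup.mem_zpowers _), rfl⟩
  obtain ⟨h32, hsq⟩ := b.small_in hT₀p (fun r hr => (hH' (hT₀H hr)).1) fun r hr => (hH' (hT₀H hr)).2
  set T₁ := T₀.subgroupOf C with hT₁
  have hT₀C : T₀ ≤ C := hT₀H.trans inf_le_left
  obtain ⟨S, hS⟩ := (hT₀p.of_equiv (Subgroup.subgroupOfEquivOfLe hT₀C).symm).exists_le_sylow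
  have hSeq : (S : Subgroup C).map C.subtype ≤ T₀ := by
    set T := (S : Subgroup C).map C.subtype
    have hTp : IsPGroup 2 T := S.2.map _
    have hle : T₀ ≤ T := fun r hr => ⟨⟨r, hT₀C hr⟩, hS hr, rfl⟩
    by_contra hne
    have : Group.IsNilpotent T := hTp.isNilpotent
    have hlt : T₀.subgroupOf T < ⊤ := by
      refine lt_top_iff_ne_top.2 fun e => hne ?_
      rwa [Subgroup.subgroupOf_eq_top] at e
    obtain ⟨⟨y, hy⟩, hyN, hy'⟩ :=
      SetLike.exists_of_lt (Group.normalizerCondition_of_isNilpotent (T₀.subgroupOf T) hlt)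
    have hyC : y ∈ C := Subgroup.map_subtype_le _ hy
    have hyq : y * q * y⁻¹ ∈ T₀ := (Subgroup.mem_normalizer_iff.1 hyN ⟨q, hle hqT⟩).1 hqT
    have hm := hsq _ hyq
    have e : y * q * y⁻¹ * (y * q * y⁻¹) = y * z * y⁻¹ := by rw [← hqq]; group
    rw [e] at hm
    have hcom : Commute (y * z * y⁻¹) (ε ag) :=
      ((hC'.1 hyC).mul_left (b.eps.cz ag).symm).mul_left (hC'.1 hyC).inv_left
    have hcases := (by decide +kernel : ∀ k < 64, el ag k = k → qn k = false → k = 0) _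
      (hf.co_lt _ hm) ((b.eps.commute_iff hm ag).1 hcom.symm)
    have h1 : y * z * y⁻¹ * (y * z * y⁻¹) = 1 := by
      rw [show y * z * y⁻¹ * (y * z * y⁻¹) = y * (z * z) * y⁻¹ by group, hf.es.sq]; group
    have hqn : qn (co (y * z * y⁻¹)) = false := by
      have e' := hf.sq _ hm
      rw [h1] at e'
      cases h3 : qn (co (y * z * y⁻¹)) with
      | false => rfl
      | true => rw [h3] at e'; exact absurd e'.symm hf.es.ne
    rcases hf.co_zero _ hm (hcases hqn) with e' | e'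
    · exact hf.es.ne (by simpa using e')
    · have hyz : Commute y z := mul_inv_eq_iff_eq_mul.1 e'
      have hyH : y ∈ H := ⟨hyC, Subgroup.mem_centralizer_singleton_iff.2 hyz⟩
      have hle2 : (S₀ : Subgroup H) ≤ (T ⊓ H).subgroupOf H := fun r hr => ⟨hle ⟨r, hr, rfl⟩, r.2⟩
      have hp2 : IsPGroup 2 ((T ⊓ H).subgroupOf H) :=
        (hTp.to_le inf_le_left).comap_of_injective _ H.subtype_injective
      have heq := S₀.3 hp2 hle2
      refine hy' ⟨⟨y, hyH⟩, heq ▸ (⟨hy, hyH⟩ : (⟨y, hyH⟩ : H) ∈ (T ⊓ H).subgroupOf H), rfl⟩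
  have hRC : R ≤ C := fun r hr => hC'.2 (hg r hr)
  obtain ⟨S', hS'⟩ := (hR.of_equiv (Subgroup.subgroupOfEquivOfLe hRC).symm).exists_le_sylow
  calc Nat.card R = Nat.card (R.subgroupOf C) :=
        (Nat.card_congr (Subgroup.subgroupOfEquivOfLe hRC).toEquiv).symm
    _ ≤ Nat.card (S' : Subgroup C) := Subgroup.card_le_of_le hS'
    _ = Nat.card (S : Subgroup C) := Nat.card_congr (Sylow.equiv S' S).toEquiv
    _ = Nat.card ((S : Subgroup C).map C.subtype) :=
        (Subgroup.card_map_of_injective C.subtype_injective).symm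
    _ ≤ Nat.card T₀ := Subgroup.card_le_of_le hSeq
    _ ≤ 32 := h32

theorem big [Finite G] :
    ∃ R : Subgroup G, IsPGroup 2 R ∧ (∀ r ∈ R, Commute r (ε af)) ∧ 32 < Nat.card R := by
  have hf := b.duo.fr
  have hs : s⁻¹ = s := inv_eq_of_mul_eq_one_right b.s_sq
  let F : Subgroup G := Q ⊓ Subgroup.centralizer ({ε af} : Set G)
  have hF : ∀ {q : G}, q ∈ F ↔ q ∈ Q ∧ Commute q (ε af) := fun {q} =>
    ⟨fun h => ⟨h.1, Subgroup.mem_centralizer_singleton_iff.1 h.2⟩,
      fun h => ⟨h.1, Subgroup.mem_centralizer_singleton_iff.2 h.2⟩⟩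
  have hFs : ∀ q ∈ F, s * q * s⁻¹ ∈ F := fun q hq => hF.2
    ⟨hf.norm s b.sz q (hF.1 hq).1, (b.sf.mul_left (hF.1 hq).2).mul_left b.sf.inv_left⟩
  have hpw : ∀ t : Bool, ∀ q ∈ F, pw s t * q * pw s t ∈ F := fun t q hq => by
    cases t
    · simpa [pw] using hq
    · have := hFs q hq
      rwa [hs] at this
  let R : Subgroup G :=
    { carrier := {c | ∃ t : Bool, c * pw s t ∈ F}
      one_mem' := ⟨false, by simp [pw, one_mem]⟩
      mul_mem' := by
        rintro c d ⟨t, hc⟩ ⟨u, hd⟩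
        refine ⟨Bool.xor u t, ?_⟩
        have := mul_mem hc (hpw t _ hd)
        convert this using 1
        rw [← pw_mul b.s_sq u t]
        calc c * d * (pw s u * pw s t) = c * 1 * d * (pw s u * pw s t) := by group
          _ = c * (pw s t * pw s t) * d * (pw s u * pw s t) := by
              rw [pw_mul b.s_sq t t, Bool.xor_self]
              rfl
          _ = _ := by group
      inv_mem' := by
        rintro c ⟨t, hc⟩
        refine ⟨t, ?_⟩
        have := hpw t _ (inv_mem hc)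
        convert this using 1
        calc c⁻¹ * pw s t = (pw s t * (pw s t)⁻¹) * c⁻¹ * pw s t := by group
          _ = _ := by group }
  have hcard : Nat.card R = 64 := by
    have hb : Function.Bijective (fun p : F × Bool => (⟨p.1 * pw s p.2, p.2, by
        rw [mul_assoc, pw_mul b.s_sq, Bool.xor_self]
        simp [pw]⟩ : R)) := by
      constructor
      · rintro ⟨q, t⟩ ⟨q', t'⟩ h
        have h' : (q : G) * pw s t = (q' : G) * pw s t' := congrArg Subtype.val h
        have hsQ : s ∉ Q := fun hm => by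
          have h2 := b.s_im.2 8 (by norm_num)
          rw [hf.ac_Q hm (by norm_num)] at h2
          exact absurd h2 (by decide)
        have ht : t = t' := by
          by_contra hne
          refine hsQ ?_
          cases t <;> cases t' <;> first | exact absurd rfl hne | skip
          · have : s = (q' : G)⁻¹ * q := by
              rw [eq_inv_mul_iff_mul_eq]; simpa [pw] using h'.symm
            rw [this]; exact mul_mem (inv_mem (hF.1 q'.2).1) (hF.1 q.2).1
          · have : s = (q : G)⁻¹ * q' := by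
              rw [eq_inv_mul_iff_mul_eq]; simpa [pw] using h'
            rw [this]; exact mul_mem (inv_mem (hF.1 q.2).1) (hF.1 q'.2).1
        subst ht
        exact Prod.ext (Subtype.ext (mul_right_cancel h')) rfl
      · rintro ⟨c, t, hc⟩
        refine ⟨(⟨_, hc⟩, t), Subtype.ext ?_⟩
        show c * pw s t * pw s t = c
        rw [mul_assoc, pw_mul b.s_sq, Bool.xor_self]
        exact mul_one c
    rw [← Nat.card_congr (Equiv.ofBijective _ hb), Nat.card_prod]
    let L := (List.range 64).filter fun k => Nat.beq (el af k) k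
    have e : F ≃ {r : G // r ∈ Q ∧ co r ∈ L} := Equiv.subtypeEquivRight fun q => by
      rw [hF]
      refine and_congr_right fun hq => ?_
      rw [List.mem_filter, List.mem_range]
      constructor
      · intro h
        refine ⟨hf.co_lt q hq, ?_⟩
        rw [(b.eps.commute_iff hq af).1 h.symm]
        exact Nat.beq_refl _
      · rintro ⟨-, h⟩
        exact ((b.eps.commute_iff hq af).2 (Nat.eq_of_beq_eq_true h)).symm
    rw [Nat.card_congr e, card_fibre b.duo L (List.nodup_range.filter _)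
      (fun k hk => List.mem_range.1 (List.mem_of_mem_filter hk))]
    simp only [Nat.card_eq_fintype_card, Fintype.card_bool]
    decide +kernel
  refine ⟨R, IsPGroup.of_card (n := 6) (by rw [hcard]; norm_num), ?_, by omega⟩
  rintro c ⟨t, hc⟩
  have h1 : Commute (c * pw s t) (ε af) := (hF.1 hc).2
  have h2 : Commute (pw s t) (ε af) := by
    cases t
    · exact Commute.one_left _
    · exact b.sf
  have := h1.mul_left h2.inv_left
  rwa [mul_inv_cancel_right] at this

theorem sconj [Finite G] (a : Tri) : s * ε a * s⁻¹ = ε (ts a) := by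
  obtain ⟨c, hc, hce⟩ := b.eps.exists_norm b.s_im (T := ts) eich_el
  have hD : ∀ a, inD a → Commute c (ε a) := fun a ha => by
    have e := hce a
    have : ts a = a := by obtain ⟨a₁, a₂, a₃⟩ := a; cases ha; rfl
    rw [this] at e
    exact mul_inv_eq_iff_eq_mul.1 e
  rcases b.eq_s hc (hD af rfl) (hD ag rfl) with rfl | rfl
  · exact hce a
  · rw [← hce a]
    calc s * ε a * s⁻¹ = s * (z * ε a * z⁻¹) * s⁻¹ := by
          rw [mul_inv_eq_iff_eq_mul.2 (b.eps.cz a).symm.eq]
      _ = s * z * ε a * (s * z)⁻¹ := by group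

theorem nsq {y : G} (hy : Commute y z) (hg : Commute y (ε ag)) : y * y ≠ s ∧ y * y ≠ s * z := by
  have h1 : flag (ac (y * y)) = true := by
    rw [(b.flag_mul hy hy hg hg).1]
    cases flag (ac y) <;> rfl
  constructor <;> intro e <;> rw [e, flag] at h1
  · rw [b.s_im.2 3 (by norm_num), inL0_eich] at h1
    exact Bool.noConfusion h1
  · rw [b.flip.s_im.2 3 (by norm_num), inL0_eich] at h1
    exact Bool.noConfusion h1

theorem loc [Finite G] : Loc z s ε where
  ord := b.duo.fr.ord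
  ssq := b.s_sq
  sz := b.sz
  s1 := b.s_ne.1
  sne := b.s_ne.2
  add := b.eps.add
  inj := fun _ _ => b.eps.inj
  cz := b.eps.cz
  zs := b.isConj_s
  sconj := b.sconj
  cD := fun _ => b.cD
  swap := by
    obtain ⟨k, h1, h2, h3⟩ := b.swap
    refine ⟨k, h1, h2, fun a ha => ?_⟩
    have : k * ε a * k⁻¹ ∈ b.eps.dgrp := h3 ▸ ⟨ε a, ⟨a, ha, rfl⟩, rfl⟩
    obtain ⟨a', ha', e⟩ := this
    exact ⟨a', ha', e.symm⟩
  swap' := by
    obtain ⟨k, h1, h2, h3⟩ := b.flip.swap
    refine ⟨k, h1, ?_, fun a ha => ?_⟩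
    · refine h2.symm.imp (fun e => e.trans ?_) id
      rw [mul_assoc s, b.duo.fr.es.sq, mul_one]
    · have : k * ε a * k⁻¹ ∈ b.flip.eps.dgrp := h3 ▸ ⟨ε a, ⟨a, ha, rfl⟩, rfl⟩
      obtain ⟨a', ha', e⟩ := this
      exact ⟨a', ha', e.symm⟩
  small := b.small
  big := b.big
  nsq := fun _ => b.nsq
  root := by
    obtain ⟨q, hq, h1, h2, h3⟩ := b.exists_root
    exact ⟨q, b.duo.fr.es.comm q hq, h1, h2, h3⟩
  inv01 := by
    obtain ⟨c, hc, hk⟩ := b.duo.fr.exists_pair 3 (by norm_num) 7 (by norm_num) (by decide) (by decide)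
    exact b.eps.exists_perm (φ := SuzM11H6.inv01) ⟨c, hc, hk⟩ fun a k hk => (perm_el a k hk).2.1
  inv12 := by
    obtain ⟨c, hc, hk⟩ := b.duo.fr.exists_pair 7 (by norm_num) 16 (by norm_num) (by decide) (by decide)
    exact b.eps.exists_perm (φ := SuzM11H6.inv12) ⟨c, hc, hk⟩ fun a k hk => (perm_el a k hk).2.2.1
  perm12 := by
    obtain ⟨c, hc, hck⟩ := b.duo.fr.exists_pair 37 (by norm_num) 57 (by norm_num) (by decide) (by decide)
    obtain ⟨d, hd, hdk⟩ := b.duo.fr.exists_pair 3 (by norm_num) 17 (by norm_num) (by decide) (by decide)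
    exact b.eps.exists_perm (φ := SuzM11H6.swap12)
      ⟨c * d, ((show Im z ac c (pr (37, 57)) from ⟨hc, hck⟩).mul b.duo.fr
        (show Im z ac d (pr (3, 17)) from ⟨hd, hdk⟩)).cast fun _ _ => rfl⟩
      fun a k hk => (perm_el a k hk).1
  weight := fun c hc a b' e => by
    refine wt_of_nfix b' a ?_
    rw [← nfix_congr (b.eps.im b').2, ← e, nfix_conj b.duo.fr hc (b.eps.cz a), nfix_congr (b.eps.im a).2]
  even := by
    rintro ⟨c, hc, hce⟩
    have hf := b.duo.fr
    have hr := iso_pr (φ := refl 3) (by simp)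
    have hcom : ∀ a, ∀ k < 64, refl 3 (ac c (el a k)) = el a (refl 3 (ac c k)) := fun a k hk => by
      have hl := hf.ac_lt hc hk
      have e : ac c (el a k) = el (t0 a) (ac c k) := by
        rw [← (b.eps.im a).2 k hk, ← hf.ac_mul hc (b.eps.cz a) hk, ← (b.eps.im (t0 a)).2 _ hl,
          ← hf.ac_mul (b.eps.cz _) hc hk, ← hce a]
        congr 1
        group
      rw [e, (perm_el (t0 a) _ hl).2.2.2]
      congr 1
      obtain ⟨a₁, a₂, a₃⟩ := a
      simp [t0]
    obtain ⟨r0', -, r2', r3'⟩ := rots_el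
    have hiso := hr.comp (hf.iso hc)
    obtain ⟨m, t, hm⟩ := Cfsg.Agent.Lib.SuzM11H6.cD hiso
      (fun k hk => by rw [r3' k hk, r3' _ (hiso.lt k hk)]; exact hcom _ k hk)
      (fun k hk => by rw [r2' k hk, r2' _ (hiso.lt k hk)]; exact hcom _ k hk)
    have ht : t = false := by
      refine sw_rot_units m t fun k hk => ?_
      have hk' := units_lt k hk
      have hl : r0 k < 64 := (iso_rot (φ := r0) (by simp)).lt k hk'
      rw [← hm k hk', ← hm _ hl, r0' k hk', r0' _ (hiso.lt k hk')]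
      exact hcom _ k hk'
    subst ht
    refine hf.not_refl (c * ε (-m)) (hc.mul_left (b.eps.cz _)) 3 (by norm_num) (by decide) fun k hk => ?_
    have hl := (iso_el (-m)).lt k hk
    rw [hf.ac_mul hc (b.eps.cz _) hk, (b.eps.im _).2 k hk, ← refl_three _ (hf.ac_lt hc hl)]
    congr 1
    show refl 3 (ac c (el (-m) k)) = k
    rw [hm _ hl]
    show el m (el (-m) k) = k
    rw [el_add _ _ k hk, add_neg_cancel, el_zero]

end Base

end Cfsg.Agent.Lib.SuzM11H6
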