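import Cfsg.Agent.Lib.SuzType52.Frame

/-!
# Suzuki type: three orthogonal anisotropic planes in the coded space

`{3, 13, 14}`, `{7, 12, 11}` and `{16, 32, 48}`.  The transvection `eich 4` interchanges the first two and
centralises the third.

Owner: helper6.
-/

set_option autoImplicit false
set_option maxRecDepth 100000

namespace Cfsg.Agent.Lib.SuzM11H6

open Cfsg.Agent.Lib.SuzType52

/-- The rotation of the first plane. -/
def r0 (k : ℕ) : ℕ := pr (3, 13) k

/-- The rotation of the second plane. -/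
def r1 (k : ℕ) : ℕ := pr (7, 12) k

/-- The rotation of the third plane. -/
def rf (k : ℕ) : ℕ := pr (16, 32) k

/-- The product of the first two rotations. -/
def rg (k : ℕ) : ℕ := r0 (r1 k)

/-- A power below three. -/
def rp (φ : ℕ → ℕ) : ℕ → ℕ → ℕ
  | 0, k => k
  | 1, k => φ k
  | _, k => φ (φ k)

/-- Exponents of the three rotations. -/
abbrev Tri : Type := ZMod 3 × ZMod 3 × ZMod 3

/-- The element of the rotation group with given exponents. -/
def el (a : Tri) (k : ℕ) : ℕ := rp r0 a.1.val (rp r1 a.2.1.val (rp rf a.2.2.val k))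

/-- `eich 4` or the identity. -/
def sw (b : Bool) (k : ℕ) : ℕ := bif b then eich 4 k else k

/-- Whether a vector lies in the first plane. -/
def inL0 (k : ℕ) : Bool := Nat.beq k 3 || Nat.beq k 13 || Nat.beq k 14

/-- Whether a vector lies in the second plane. -/
def inL1 (k : ℕ) : Bool := Nat.beq k 7 || Nat.beq k 12 || Nat.beq k 11

/-- The six unit codes. -/
def units : List ℕ := [1, 2, 4, 8, 16, 32]

theorem Iso6.ext_units {f g : ℕ → ℕ} (hf : Iso6 f) (hg : Iso6 g) (h : ∀ k ∈ units, f k = g k) :
    ∀ k < 64, f k = g k := fun k hk => by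
  rw [← hf.lin_eq hk, ← hg.lin_eq hk, h 1 (by decide), h 2 (by decide), h 4 (by decide),
    h 8 (by decide), h 16 (by decide), h 32 (by decide)]

theorem iso_id : Iso6 fun k => k := ⟨fun _ h => h, fun _ _ _ _ => rfl, fun _ _ => rfl⟩

theorem iso_rot_aux : [r0, r1, rf].all (fun φ => (List.range 64).all fun j => decide (φ j < 64) &&
    qn (φ j) == qn j && (List.range 64).all fun k => Nat.beq (φ (j ^^^ k)) (φ j ^^^ φ k)) = true := by
  decide +kernel

theorem iso_rot {φ : ℕ → ℕ} (h : φ ∈ [r0, r1, rf]) : Iso6 φ := by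
  have := List.all_eq_true.1 iso_rot_aux φ h
  refine ⟨fun k hk => ?_, fun j hj k hk => ?_, fun k hk => ?_⟩
  · have := List.all_eq_true.1 this k (List.mem_range.2 hk)
    simp only [Bool.and_eq_true, decide_eq_true_eq, beq_iff_eq] at this
    exact this.1.1
  · have := List.all_eq_true.1 this j (List.mem_range.2 hj)
    simp only [Bool.and_eq_true, decide_eq_true_eq, beq_iff_eq] at this
    exact Nat.eq_of_beq_eq_true (List.all_eq_true.1 this.2 k (List.mem_range.2 hk))
  · have := List.all_eq_true.1 this k (List.mem_range.2 hk)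
    simp only [Bool.and_eq_true, decide_eq_true_eq, beq_iff_eq] at this
    exact this.1.2

theorem iso_rp {φ : ℕ → ℕ} (h : Iso6 φ) : ∀ n, Iso6 (rp φ n)
  | 0 => iso_id
  | 1 => h
  | _ + 2 => h.comp h

theorem iso_el (a : Tri) : Iso6 (el a) :=
  (iso_rp (iso_rot (by simp)) _).comp ((iso_rp (iso_rot (by simp)) _).comp (iso_rp (iso_rot (by simp)) _))

theorem iso_eich_aux : (List.range 64).all (fun j => decide (eich 4 j < 64) &&
    qn (eich 4 j) == qn j && (List.range 64).all fun k =>
      Nat.beq (eich 4 (j ^^^ k)) (eich 4 j ^^^ eich 4 k)) = true := by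
  decide +kernel

theorem iso_eich : Iso6 (eich 4) := by
  refine ⟨fun k hk => ?_, fun j hj k hk => ?_, fun k hk => ?_⟩
  · have := List.all_eq_true.1 iso_eich_aux k (List.mem_range.2 hk)
    simp only [Bool.and_eq_true, decide_eq_true_eq, beq_iff_eq] at this
    exact this.1.1
  · have := List.all_eq_true.1 iso_eich_aux j (List.mem_range.2 hj)
    simp only [Bool.and_eq_true, decide_eq_true_eq, beq_iff_eq] at this
    exact Nat.eq_of_beq_eq_true (List.all_eq_true.1 this.2 k (List.mem_range.2 hk))
  · have := List.all_eq_true.1 iso_eich_aux k (List.mem_range.2 hk)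
    simp only [Bool.and_eq_true, decide_eq_true_eq, beq_iff_eq] at this
    exact this.1.2

theorem iso_sw : ∀ b, Iso6 (sw b)
  | false => iso_id
  | true => iso_eich

theorem el_add_units : ∀ a b : Tri, ∀ k ∈ units, el a (el b k) = el (a + b) k := by decide +kernel

theorem el_add (a b : Tri) : ∀ k < 64, el a (el b k) = el (a + b) k :=
  Iso6.ext_units ((iso_el a).comp (iso_el b)) (iso_el _) (el_add_units a b)

theorem el_zero (k : ℕ) : el 0 k = k := rfl

theorem el_inj_units : ∀ a b : Tri, (∀ k ∈ units, el a k = el b k) → a = b := by decide +kernel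

theorem el_inj {a b : Tri} (h : ∀ k < 64, el a k = el b k) : a = b :=
  el_inj_units a b fun k hk => h k (by revert k; decide)

/-- The fixed space has the order `16`, `4` or `1` by the number of rotations involved. -/
def wt (a : Tri) : ℕ :=
  (if a.1 = 0 then 0 else 1) + (if a.2.1 = 0 then 0 else 1) + (if a.2.2 = 0 then 0 else 1)

/-- The number of fixed codes. -/
def nfix (φ : ℕ → ℕ) : ℕ := ((List.range 64).filter fun k => Nat.beq (φ k) k).length

theorem nfix_el : ∀ a : Tri, a ≠ 0 →
    nfix (el a) = (if wt a = 1 then 16 else if wt a = 2 then 4 else 1) := by decide +kernel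

theorem eich_el_units : ∀ a : Tri, ∀ k ∈ units,
    eich 4 (el a k) = el (a.2.1, a.1, a.2.2) (eich 4 k) := by decide +kernel

theorem eich_el (a : Tri) : ∀ k < 64, eich 4 (el a k) = el (a.2.1, a.1, a.2.2) (eich 4 k) :=
  Iso6.ext_units (iso_eich.comp (iso_el a)) ((iso_el _).comp iso_eich) (eich_el_units a)

/-- The conditions on the images `a, b, c` of `3, 7, 16`. -/
def okA (a : ℕ) : Bool := qn a && Nat.beq (rf a) a
def okB (a b : ℕ) : Bool := qn b && Nat.beq (rf b) b && !(bn a b) && !(bn (rg a) b)
def okC (c : ℕ) : Bool := qn c && Nat.beq (rg c) c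

/-- The images of the units from those of `3, 7, 16` for a map commuting with `rg` and `rf`. -/
def imD (a b c : ℕ) : List (ℕ × ℕ) :=
  [(1, rg a ^^^ rg b), (2, a ^^^ (rg a ^^^ rg b)), (4, a ^^^ b), (8, b ^^^ rg b ^^^ a), (16, c),
    (32, rf c)]

theorem cD_aux : (List.range 64).all (fun a => !(okA a) || (List.range 64).all fun b => !(okB a b) ||
    (List.range 64).all fun c => !(okC c) ||
    decide (∃ m : Tri, ∃ t : Bool, ∀ p ∈ imD a b c, el m (sw t p.1) = p.2)) = true := by
  decide +kernel

/-- The centraliser of the two rotations `rg`, `rf`. -/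
theorem cD {φ : ℕ → ℕ} (h : Iso6 φ) (hg : ∀ k < 64, φ (rg k) = rg (φ k))
    (hf : ∀ k < 64, φ (rf k) = rf (φ k)) :
    ∃ m : Tri, ∃ t : Bool, ∀ k < 64, φ k = el m (sw t k) := by
  have e13 : φ 13 = rg (φ 3) := by rw [← hg 3 (by norm_num)]; rfl
  have e12 : φ 12 = rg (φ 7) := by rw [← hg 7 (by norm_num)]; rfl
  have e32 : φ 32 = rf (φ 16) := by rw [← hf 16 (by norm_num)]; rfl
  have hA : okA (φ 3) = true := by
    simp only [okA, h.pres 3 (by norm_num), ← hf 3 (by norm_num), Bool.and_eq_true]
    exact ⟨by decide, by rw [show rf 3 = 3 by decide]; exact Nat.beq_refl _⟩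
  have hB : okB (φ 3) (φ 7) = true := by
    simp only [okB, ← e13, h.pres 7 (by norm_num), ← hf 7 (by norm_num),
      h.bn_eq (show 3 < 64 by norm_num) (show 7 < 64 by norm_num),
      h.bn_eq (show 13 < 64 by norm_num) (show 7 < 64 by norm_num), Bool.and_eq_true]
    refine ⟨⟨⟨by decide, by rw [show rf 7 = 7 by decide]; exact Nat.beq_refl _⟩, by decide⟩, by decide⟩
  have hC : okC (φ 16) = true := by
    simp only [okC, h.pres 16 (by norm_num), ← hg 16 (by norm_num), Bool.and_eq_true]
    exact ⟨by decide, by rw [show rg 16 = 16 by decide]; exact Nat.beq_refl _⟩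
  have key := List.all_eq_true.1 cD_aux (φ 3) (List.mem_range.2 (h.lt 3 (by norm_num)))
  rw [hA, Bool.not_true, Bool.false_or] at key
  have key2 := List.all_eq_true.1 key (φ 7) (List.mem_range.2 (h.lt 7 (by norm_num)))
  rw [hB, Bool.not_true, Bool.false_or] at key2
  have key3 := List.all_eq_true.1 key2 (φ 16) (List.mem_range.2 (h.lt 16 (by norm_num)))
  rw [hC, Bool.not_true, Bool.false_or, decide_eq_true_eq] at key3
  obtain ⟨m, t, hm⟩ := key3
  refine ⟨m, t, Iso6.ext_units h ((iso_el m).comp (iso_sw t)) ?_⟩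
  have x1 : φ 1 = rg (φ 3) ^^^ rg (φ 7) := by
    rw [← e13, ← e12, ← h.add 13 (by norm_num) 12 (by norm_num)]; rfl
  have x2 : φ 2 = φ 3 ^^^ (rg (φ 3) ^^^ rg (φ 7)) := by
    rw [← x1, ← h.add 3 (by norm_num) 1 (by norm_num)]; rfl
  have x4 : φ 4 = φ 3 ^^^ φ 7 := by rw [← h.add 3 (by norm_num) 7 (by norm_num)]; rfl
  have x8 : φ 8 = φ 7 ^^^ rg (φ 7) ^^^ φ 3 := by
    rw [← e12, ← h.add 7 (by norm_num) 12 (by norm_num), ← h.add _ (by decide) 3 (by norm_num)]; rfl
  intro k hk
  simp only [units, List.mem_cons, List.not_mem_nil, or_false] at hk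
  rcases hk with rfl | rfl | rfl | rfl | rfl | rfl
  · exact x1.trans (hm (1, _) (by simp [imD])).symm
  · exact x2.trans (hm (2, _) (by simp [imD])).symm
  · exact x4.trans (hm (4, _) (by simp [imD])).symm
  · exact x8.trans (hm (8, _) (by simp [imD])).symm
  · exact (hm (16, φ 16) (by simp [imD])).symm
  · exact e32.trans (hm (32, rf (φ 16)) (by simp [imD])).symm

theorem sw_rot_units : ∀ m : Tri, ∀ t : Bool,
    (∀ k ∈ units, el m (sw t (r0 k)) = r0 (el m (sw t k))) → t = false := by decide +kernel

/-- The conditions on the images `a, b, c, d` of `3, 7, 16, 32` for a map commuting with `rg`. -/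
def okG (a b c d : ℕ) : Bool :=
  !(bn a b) && !(bn (rg a) b) && !(bn a c) && !(bn a d) && !(bn b c) && !(bn b d) && bn c d

/-- The images of the units. -/
def imG (a b c d : ℕ) : List (ℕ × ℕ) :=
  [(1, rg a ^^^ rg b), (2, a ^^^ (rg a ^^^ rg b)), (4, a ^^^ b), (8, b ^^^ rg b ^^^ a), (16, c), (32, d)]

/-- The linear map given on the units by the list. -/
def linG (a b c d : ℕ) (k : ℕ) : ℕ :=
  lin (rg a ^^^ rg b) (a ^^^ (rg a ^^^ rg b)) (a ^^^ b) (b ^^^ rg b ^^^ a) c d k

theorem cG_aux : (List.range 64).all (fun c => !(okC c) || (List.range 64).all fun d => !(okC d && bn c d) ||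
    (List.range 64).all fun a => !(qn a) || (List.range 64).all fun b =>
      !(qn b && okG a b c d) ||
      (((List.range 64).all fun x => !(inL0 x) || (inL0 (linG a b c d x) == inL0 a &&
          inL1 (linG a b c d x) == !(inL0 a))) &&
        ((List.range 64).all fun x => !(inL1 x) || (inL0 (linG a b c d x) == !(inL0 a))) &&
        (([16, 32, 1, 2, 4, 8].all fun x => Nat.beq (linG a b c d (rf x)) (rf (linG a b c d x))) ||
          ([16, 32, 1, 2, 4, 8].all fun x =>
            Nat.beq (linG a b c d (rf x)) (rf (rf (linG a b c d x))))))) = true := by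
  decide +kernel

/-- A map commuting with `rg` permutes the first two planes and normalises the group of `rf`. -/
theorem cG {φ : ℕ → ℕ} (h : Iso6 φ) (hg : ∀ k < 64, φ (rg k) = rg (φ k)) :
    (∀ x < 64, inL0 x = true → inL0 (φ x) = inL0 (φ 3) ∧ inL1 (φ x) = !(inL0 (φ 3))) ∧
    (∀ x < 64, inL1 x = true → inL0 (φ x) = !(inL0 (φ 3))) ∧
    ((∀ k < 64, φ (rf k) = rf (φ k)) ∨ ∀ k < 64, φ (rf k) = rf (rf (φ k))) := by
  have e13 : φ 13 = rg (φ 3) := by rw [← hg 3 (by norm_num)]; rfl
  have e12 : φ 12 = rg (φ 7) := by rw [← hg 7 (by norm_num)]; rfl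
  have hC : ∀ x < 64, okC x = true → okC (φ x) = true := fun x hx hx' => by
    simp only [okC, Bool.and_eq_true] at hx' ⊢
    refine ⟨(h.pres x hx).trans hx'.1, ?_⟩
    rw [← hg x hx, Nat.eq_of_beq_eq_true hx'.2]
    exact Nat.beq_refl _
  have l : ∀ {x}, x < 64 → φ x < 64 := fun {x} hx => h.lt x hx
  have key := List.all_eq_true.1 cG_aux (φ 16) (List.mem_range.2 (l (by norm_num)))
  rw [hC 16 (by norm_num) (by decide), Bool.not_true, Bool.false_or] at key
  have key2 := List.all_eq_true.1 key (φ 32) (List.mem_range.2 (l (by norm_num)))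
  rw [hC 32 (by norm_num) (by decide), h.bn_eq (show 16 < 64 by norm_num) (show 32 < 64 by norm_num),
    show bn 16 32 = true by decide, Bool.and_self, Bool.not_true, Bool.false_or] at key2
  have key3 := List.all_eq_true.1 key2 (φ 3) (List.mem_range.2 (l (by norm_num)))
  rw [h.pres 3 (by norm_num), show qn 3 = true by decide, Bool.not_true, Bool.false_or] at key3
  have key4 := List.all_eq_true.1 key3 (φ 7) (List.mem_range.2 (l (by norm_num)))
  have hok : (qn (φ 7) && okG (φ 3) (φ 7) (φ 16) (φ 32)) = true := by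
    have b : ∀ {i j}, i < 64 → j < 64 → bn (φ i) (φ j) = bn i j := fun hi hj => h.bn_eq hi hj
    simp only [okG, ← e13]
    rw [h.pres 7 (by norm_num), b (show 3 < 64 by norm_num) (show 7 < 64 by norm_num),
      b (show 13 < 64 by norm_num) (show 7 < 64 by norm_num),
      b (show 3 < 64 by norm_num) (show 16 < 64 by norm_num),
      b (show 3 < 64 by norm_num) (show 32 < 64 by norm_num),
      b (show 7 < 64 by norm_num) (show 16 < 64 by norm_num),
      b (show 7 < 64 by norm_num) (show 32 < 64 by norm_num),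
      b (show 16 < 64 by norm_num) (show 32 < 64 by norm_num)]
    decide
  rw [hok, Bool.not_true, Bool.false_or, Bool.and_eq_true, Bool.and_eq_true] at key4
  obtain ⟨⟨k1, k2⟩, k3⟩ := key4
  have hlin : ∀ k < 64, linG (φ 3) (φ 7) (φ 16) (φ 32) k = φ k := fun k hk => by
    rw [← h.lin_eq hk, linG, ← e13, ← e12]
    congr 1
    · rw [← h.add 13 (by norm_num) 12 (by norm_num)]; rfl
    · rw [← h.add 13 (by norm_num) 12 (by norm_num), ← h.add 3 (by norm_num) _ (by decide)]; rfl
    · rw [← h.add 3 (by norm_num) 7 (by norm_num)]; rfl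
    · rw [← h.add 7 (by norm_num) 12 (by norm_num), ← h.add _ (by decide) 3 (by norm_num)]; rfl
  refine ⟨fun x hx hx' => ?_, fun x hx hx' => ?_, ?_⟩
  · have := List.all_eq_true.1 k1 x (List.mem_range.2 hx)
    rw [hx', Bool.not_true, Bool.false_or, hlin x hx, Bool.and_eq_true, beq_iff_eq, beq_iff_eq] at this
    exact this
  · have := List.all_eq_true.1 k2 x (List.mem_range.2 hx)
    rw [hx', Bool.not_true, Bool.false_or, hlin x hx, beq_iff_eq] at this
    exact this
  · have hrf := iso_rot (φ := rf) (by simp)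
    rw [Bool.or_eq_true] at k3
    rcases k3 with k | k
    · refine Or.inl (Iso6.ext_units (h.comp hrf) (hrf.comp h) fun x hx => ?_)
      have hx' : x < 64 := by revert x; decide
      have := Nat.eq_of_beq_eq_true (List.all_eq_true.1 k x (by revert x; decide))
      rwa [hlin _ (hrf.lt x hx'), hlin x hx'] at this
    · refine Or.inr (Iso6.ext_units (h.comp hrf) (hrf.comp (hrf.comp h)) fun x hx => ?_)
      have hx' : x < 64 := by revert x; decide
      have := Nat.eq_of_beq_eq_true (List.all_eq_true.1 k x (by revert x; decide))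
      rwa [hlin _ (hrf.lt x hx'), hlin x hx'] at this

/-- The codes fixed by `rg`. -/
theorem fix_rg : ∀ k < 64, rg k = k → k = 0 ∨ k = 16 ∨ k = 32 ∨ k = 48 := by decide +kernel

theorem fix_rf_count : ((List.range 64).filter fun k => Nat.beq (rf k) k).length = 16 := by decide +kernel

/-- Exchange of the last two planes. -/
def swap12 (k : ℕ) : ℕ := pr (37, 57) (pr (3, 17) k)

/-- Inversion of the first two rotations. -/
def inv01 (k : ℕ) : ℕ := pr (3, 7) k

/-- Inversion of the last two rotations. -/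
def inv12 (k : ℕ) : ℕ := pr (7, 16) k

/-- The exponents after exchanging the first two planes. -/
def ts (a : Tri) : Tri := (a.2.1, a.1, a.2.2)

/-- The exponents after exchanging the last two planes. -/
def tp (a : Tri) : Tri := (a.1, a.2.2, a.2.1)

/-- The exponents after inverting the first two rotations. -/
def tn (a : Tri) : Tri := (-a.1, -a.2.1, a.2.2)

/-- The exponents after inverting the last two rotations. -/
def ti (a : Tri) : Tri := (a.1, -a.2.1, -a.2.2)

/-- The exponents after inverting the first rotation. -/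
def t0 (a : Tri) : Tri := (-a.1, a.2.1, a.2.2)

theorem iso_pr_aux : [swap12, inv01, inv12, refl 3].all (fun φ => (List.range 64).all fun j =>
    decide (φ j < 64) && qn (φ j) == qn j && (List.range 64).all fun k =>
      Nat.beq (φ (j ^^^ k)) (φ j ^^^ φ k)) = true := by
  decide +kernel

theorem iso_pr {φ : ℕ → ℕ} (h : φ ∈ [swap12, inv01, inv12, refl 3]) : Iso6 φ := by
  have := List.all_eq_true.1 iso_pr_aux φ h
  refine ⟨fun k hk => ?_, fun j hj k hk => ?_, fun k hk => ?_⟩
  · have := List.all_eq_true.1 this k (List.mem_range.2 hk)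
    simp only [Bool.and_eq_true, decide_eq_true_eq, beq_iff_eq] at this
    exact this.1.1
  · have := List.all_eq_true.1 this j (List.mem_range.2 hj)
    simp only [Bool.and_eq_true, decide_eq_true_eq, beq_iff_eq] at this
    exact Nat.eq_of_beq_eq_true (List.all_eq_true.1 this.2 k (List.mem_range.2 hk))
  · have := List.all_eq_true.1 this k (List.mem_range.2 hk)
    simp only [Bool.and_eq_true, decide_eq_true_eq, beq_iff_eq] at this
    exact this.1.2

theorem perm_units : ∀ a : Tri, ∀ k ∈ units, swap12 (el a k) = el (tp a) (swap12 k) ∧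
    inv01 (el a k) = el (tn a) (inv01 k) ∧ inv12 (el a k) = el (ti a) (inv12 k) ∧
    refl 3 (el a k) = el (t0 a) (refl 3 k) := by decide +kernel

theorem perm_el (a : Tri) : ∀ k < 64, swap12 (el a k) = el (tp a) (swap12 k) ∧
    inv01 (el a k) = el (tn a) (inv01 k) ∧ inv12 (el a k) = el (ti a) (inv12 k) ∧
    refl 3 (el a k) = el (t0 a) (refl 3 k) := fun k hk => by
  refine ⟨?_, ?_, ?_, ?_⟩
  · exact Iso6.ext_units ((iso_pr (by simp)).comp (iso_el a)) ((iso_el _).comp (iso_pr (by simp)))
      (fun k hk => (perm_units a k hk).1) k hk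
  · exact Iso6.ext_units ((iso_pr (by simp)).comp (iso_el a)) ((iso_el _).comp (iso_pr (by simp)))
      (fun k hk => (perm_units a k hk).2.1) k hk
  · exact Iso6.ext_units ((iso_pr (by simp)).comp (iso_el a)) ((iso_el _).comp (iso_pr (by simp)))
      (fun k hk => (perm_units a k hk).2.2.1) k hk
  · exact Iso6.ext_units ((iso_pr (by simp)).comp (iso_el a)) ((iso_el _).comp (iso_pr (by simp)))
      (fun k hk => (perm_units a k hk).2.2.2) k hk

theorem rots_el : (∀ k < 64, r0 k = el (1, 0, 0) k) ∧ (∀ k < 64, r1 k = el (0, 1, 0) k) ∧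
    (∀ k < 64, rf k = el (0, 0, 1) k) ∧ (∀ k < 64, rg k = el (1, 1, 0) k) := by decide +kernel

theorem perp_planes : ∀ k < 64,
    ([3, 13, 7, 12, 16, 32].all fun v => !(bn k v)) = true → k = 0 := by decide +kernel

end Cfsg.Agent.Lib.SuzM11H6
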