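import Cfsg.Agent.Lib.SuzM11H6.Main

/-!
# Suzuki type: `A` is the only abelian subgroup of its order in a Sylow `3`-subgroup

Owner: helper6.
-/

set_option autoImplicit false

open scoped Pointwise

namespace Cfsg.Agent.Lib.SuzM11H6

/-- The exponents after the three-cycle of the axes. -/
def tc (a : Tri) : Tri := tp (ts a)

theorem tc_cube : ∀ a : Tri, tc (tc (tc a)) = a := by decide +kernel

theorem tc_af : tc (tc af) ≠ af := by decide +kernel

theorem tc_fixed : (Finset.univ.filter fun a : Tri => tc (tc a) = a).card ≤ 3 := by decide +kernel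

theorem prime_7920 {q : ℕ} (hq : q.Prime) (h : q ∣ 7920) : q = 2 ∨ q = 3 ∨ q = 5 ∨ q = 11 := by
  rw [show (7920 : ℕ) = 2 ^ 4 * (3 ^ 2 * (5 * 11)) by norm_num] at h
  rcases hq.dvd_mul.1 h with h | h
  · exact Or.inl ((Nat.prime_dvd_prime_iff_eq hq Nat.prime_two).1 (hq.dvd_of_dvd_pow h))
  rcases hq.dvd_mul.1 h with h | h
  · exact Or.inr (Or.inl ((Nat.prime_dvd_prime_iff_eq hq Nat.prime_three).1 (hq.dvd_of_dvd_pow h)))
  rcases hq.dvd_mul.1 h with h | h
  · exact Or.inr (Or.inr (Or.inl ((Nat.prime_dvd_prime_iff_eq hq (by norm_num)).1 h)))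
  · exact Or.inr (Or.inr (Or.inr ((Nat.prime_dvd_prime_iff_eq hq (by norm_num)).1 h)))

theorem fix_mod_cases {n q : ℕ} (hq : q = 5 ∨ q = 11) (hd : n ∣ 243) (h27 : 27 ≤ n)
    (hm : n ≡ 243 [MOD q]) : n = 243 := by
  obtain ⟨j, hj, rfl⟩ := (Nat.dvd_prime_pow Nat.prime_three).1 (show n ∣ 3 ^ 5 by simpa using hd)
  unfold Nat.ModEq at hm
  rcases hq with rfl | rfl <;> interval_cases j <;> simp at hm h27 ⊢

variable {G : Type*} [Group G] {z s : G} {ε : Tri → G}

/-- The elements of `A` centralised by `u`. -/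
def fixA (ε : Tri → G) (u : G) : Subgroup G := bigA ε ⊓ Subgroup.centralizer ({u} : Set G)

theorem mem_fixA {u a : G} : a ∈ fixA ε u ↔ a ∈ bigA ε ∧ Commute a u := by
  rw [fixA, Subgroup.mem_inf, Subgroup.mem_centralizer_singleton_iff]
  rfl

namespace Loc

variable (L : Loc z s ε) [Finite G]
include L

theorem card_fixA_dvd (u : G) : Nat.card (fixA ε u) ∣ 243 :=
  L.card_bigA ▸ Subgroup.card_dvd_of_le inf_le_left

theorem fixA_mul {u a : G} (ha : a ∈ bigA ε) : fixA ε (u * a) = fixA ε u := by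
  ext b
  rw [mem_fixA, mem_fixA]
  refine and_congr_right fun hb => ?_
  have hba : Commute b a := L.bigA_comm b hb a ha
  constructor
  · intro h
    have := h.mul_right hba.inv_right
    rwa [mul_inv_cancel_right] at this
  · exact fun h => h.mul_right hba

theorem card_fixA_conj {u h : G} (hh : h ∈ nA ε) :
    Nat.card (fixA ε (h * u * h⁻¹)) = Nat.card (fixA ε u) := by
  have e : (fixA ε u).map (MulAut.conj h).toMonoidHom = fixA ε (h * u * h⁻¹) := by
    ext b
    constructor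
    · rintro ⟨a, ha, rfl⟩
      obtain ⟨h1, h2⟩ := mem_fixA.1 ha
      exact mem_fixA.2 ⟨(Subgroup.mem_normalizer_iff.1 hh _).1 h1, h2.map (MulAut.conj h).toMonoidHom⟩
    · intro hb
      obtain ⟨h1, h2⟩ := mem_fixA.1 hb
      refine ⟨h⁻¹ * b * h, mem_fixA.2 ⟨?_, ?_⟩, ?_⟩
      · rw [Subgroup.mem_normalizer_iff.1 hh, show h * (h⁻¹ * b * h) * h⁻¹ = b by group]
        exact h1
      · have := h2.map (MulAut.conj h⁻¹).toMonoidHom
        simpa [mul_assoc] using this
      · show h * (h⁻¹ * b * h) * h⁻¹ = b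
        group
  rw [← e, Subgroup.card_map_of_injective (MulAut.conj h).injective]

theorem card_fixA_mod {q : ℕ} [Fact q.Prime] {x : G} (hx : x ∈ nA ε) (hxA : x ^ q ∈ bigA ε) :
    Nat.card (fixA ε x) ≡ 243 [MOD q] := by
  classical
  have hmem : ∀ a : bigA ε, x * a * x⁻¹ ∈ bigA ε := fun a =>
    (Subgroup.mem_normalizer_iff.1 hx _).1 a.2
  let σ : Equiv.Perm (bigA ε) := Equiv.ofBijective (fun a => ⟨_, hmem a⟩)
    (Finite.injective_iff_bijective.1 fun a b h =>
      Subtype.ext (mul_left_cancel (mul_right_cancel (congrArg Subtype.val h))))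
  have hσn : ∀ (k : ℕ) (a : bigA ε), ((σ ^ k) a : G) = x ^ k * a * (x ^ k)⁻¹ := by
    intro k
    induction k with
    | zero => intro a; simp
    | succ k ih =>
      intro a
      rw [pow_succ', Equiv.Perm.mul_apply]
      show x * ((σ ^ k) a : G) * x⁻¹ = _
      rw [ih, pow_succ' x]
      group
  have hσ : σ ^ q ^ 1 = 1 := Equiv.ext fun a => Subtype.ext (by
    rw [pow_one, hσn]
    exact mul_inv_eq_iff_eq_mul.2 (L.bigA_comm _ hxA _ a.2).eq)
  have : Fintype (bigA ε) := Fintype.ofFinite _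
  have hmod := Equiv.Perm.card_compl_support_modEq hσ
  have hK : Nat.card (fixA ε x) = (Equiv.Perm.support σ)ᶜ.card := by
    rw [← Fintype.card_coe, ← Nat.card_eq_fintype_card]
    refine Nat.card_congr
      { toFun := fun a => ⟨⟨a.1, (mem_fixA.1 a.2).1⟩, ?_⟩
        invFun := fun a => ⟨a.1.1, mem_fixA.2 ⟨a.1.2, ?_⟩⟩
        left_inv := fun a => rfl
        right_inv := fun a => rfl }
    · rw [Finset.mem_compl, Equiv.Perm.notMem_support]
      exact Subtype.ext (mul_inv_eq_iff_eq_mul.2 (mem_fixA.1 a.2).2.eq.symm)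
    · have := a.2
      rw [Finset.mem_compl, Equiv.Perm.notMem_support] at this
      exact (mul_inv_eq_iff_eq_mul.1 (congrArg Subtype.val this)).symm
  rwa [← Nat.card_eq_fintype_card, L.card_bigA, ← hK] at hmod

theorem card_inf_fixA {u v : G} (hu : 81 ≤ Nat.card (fixA ε u)) (hv : 81 ≤ Nat.card (fixA ε v)) :
    27 ≤ Nat.card ↥(fixA ε u ⊓ fixA ε v) := by
  have key : ∀ K : Subgroup G, K ≤ bigA ε → Nat.card K * K.relIndex (bigA ε) = 243 := fun K hK => by
    have := (K.subgroupOf (bigA ε)).card_mul_index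
    rwa [Nat.card_congr (Subgroup.subgroupOfEquivOfLe hK).toEquiv, L.card_bigA] at this
  have h1 := key (fixA ε u) inf_le_left
  have h2 := key (fixA ε v) inf_le_left
  have h3 := key (fixA ε u ⊓ fixA ε v) (le_trans inf_le_left inf_le_left)
  have h4 := Subgroup.relIndex_inf_le (H := fixA ε u) (K := fixA ε v) (L := bigA ε)
  have a1 : (fixA ε u).relIndex (bigA ε) ≤ 3 := by nlinarith
  have a2 : (fixA ε v).relIndex (bigA ε) ≤ 3 := by nlinarith
  have a3 : (fixA ε u ⊓ fixA ε v).relIndex (bigA ε) ≤ 9 := h4.trans (Nat.mul_le_mul a1 a2)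
  nlinarith

theorem fixA_z {a : G} : a ∈ fixA ε z ↔ ∃ m, a = ε m := by
  rw [mem_fixA]
  constructor
  · exact fun h => (L.bigA_z h.1).1 h.2
  · rintro ⟨m, rfl⟩
    exact ⟨L.eps_bigA m, L.cz m⟩

theorem card_fixA_z : Nat.card (fixA ε z) = 27 := L.card_cent_z

/-- An element of order three modulo `A` centralises at most `27` elements of `A`. -/
theorem three_fix {u : G} (hu : u ∈ nA ε) (hu3 : u ^ 3 ∈ bigA ε) (hf : 81 ≤ Nat.card (fixA ε u)) :
    u ∈ bigA ε := by
  classical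
  obtain ⟨⟨hN, -, hsimple, hall⟩, -, hcard⟩ := L.iso_M11
  haveI := hN
  haveI := hsimple
  set π := QuotientGroup.mk' (bigA' ε) with hπ
  have hker : ∀ {c : nA ε}, π c = 1 ↔ (c : G) ∈ bigA ε := fun {c} => by
    rw [hπ, QuotientGroup.mk'_apply, QuotientGroup.eq_one_iff]
    rfl
  have hH : Nat.card (nA ε ⧸ bigA' ε) = 7920 := by
    have h := Subgroup.card_eq_card_quotient_mul_card_subgroup (bigA' ε)
    rw [hcard, Nat.card_congr (Subgroup.subgroupOfEquivOfLe (Subgroup.le_normalizer)).toEquiv,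
      L.card_bigA] at h
    omega
  set ub := π ⟨u, hu⟩ with hub
  by_contra hnot
  have hub1 : ub ≠ 1 := fun e => hnot (hker.1 e)
  have hub3 : ub ^ 3 = 1 := by rw [hub, ← map_pow, hker]; exact hu3
  have : Fact (Nat.Prime 3) := ⟨Nat.prime_three⟩
  have ho : orderOf ub = 3 := orderOf_eq_prime hub3 hub1
  have hpair : ∀ g : nA ε ⧸ bigA' ε,
      IsPGroup 3 (Subgroup.closure ({ub, g * ub * g⁻¹} : Set (nA ε ⧸ bigA' ε))) := by
    intro g
    obtain ⟨⟨h, hh⟩, rfl⟩ := QuotientGroup.mk'_surjective _ g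
    set F := fixA ε u ⊓ fixA ε (h * u * h⁻¹) with hF
    have hF27 : 27 ≤ Nat.card F := L.card_inf_fixA hf (by rw [L.card_fixA_conj hh]; exact hf)
    set W := (Subgroup.centralizer (F : Set G)).subgroupOf (nA ε) with hW
    have hKW : Subgroup.closure ({ub, π ⟨h, hh⟩ * ub * (π ⟨h, hh⟩)⁻¹} : Set (nA ε ⧸ bigA' ε)) ≤
        W.map π := by
      rw [Subgroup.closure_le]
      rintro x (rfl | rfl)
      · exact ⟨⟨u, hu⟩, Subgroup.mem_centralizer_iff.2 fun b hb => (mem_fixA.1 hb.1).2.eq, rfl⟩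
      · refine ⟨⟨h, hh⟩ * ⟨u, hu⟩ * ⟨h, hh⟩⁻¹,
          Subgroup.mem_centralizer_iff.2 fun b hb => (mem_fixA.1 hb.2).2.eq, ?_⟩
        rw [map_mul, map_mul, map_inv]
    set K := Subgroup.closure ({ub, π ⟨h, hh⟩ * ub * (π ⟨h, hh⟩)⁻¹} : Set (nA ε ⧸ bigA' ε)) with hK
    -- the only prime divisor of the order is three
    have hprime : ∀ q : ℕ, q.Prime → q ∣ Nat.card K → q = 3 := by
      intro q hq hqK
      haveI := Fact.mk hq
      obtain ⟨⟨k, hk⟩, hkq⟩ := exists_prime_orderOf_dvd_card' (G := K) q hqK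
      rw [Subgroup.orderOf_mk] at hkq
      obtain ⟨⟨k0, hk0⟩, hk0W, rfl⟩ := hKW hk
      have hFk : F ≤ fixA ε k0 := fun b hb =>
        mem_fixA.2 ⟨hb.1.1, Subgroup.mem_centralizer_iff.1 hk0W b hb⟩
      have hk0A : k0 ^ q ∈ bigA ε := by
        refine (hker (c := (⟨k0, hk0⟩ : nA ε) ^ q)).1 ?_
        rw [map_pow, ← hkq, pow_orderOf_eq_one]
      have hk1 : k0 ∉ bigA ε := fun hm => by
        rw [(hker (c := ⟨k0, hk0⟩)).2 hm, orderOf_one] at hkq
        exact hq.one_lt.ne hkq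
      rcases prime_7920 hq (hH ▸ hqK.trans (Subgroup.card_subgroup_dvd_card K)) with e | e | e
      · -- an involution centralises a conjugate of `E`
        exfalso
        subst e
        obtain ⟨g, hg⟩ := hall _ hkq
        obtain ⟨⟨c, hc⟩, rfl⟩ := QuotientGroup.mk'_surjective _ g
        have hm : (c * z * c⁻¹)⁻¹ * k0 ∈ bigA ε := by
          have h1 : π ((⟨c, hc⟩ * ⟨z, L.z_nz.1⟩ * ⟨c, hc⟩⁻¹)⁻¹ * ⟨k0, hk0⟩) = 1 := by
            rw [map_mul, map_inv, map_mul, map_mul, map_inv]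
            rw [show π (⟨z, L.z_nz.1⟩ : nA ε) = QuotientGroup.mk ⟨z, L.z_nz.1⟩ from rfl, hg,
              inv_mul_cancel]
          exact hker.1 h1
        have hfix : fixA ε k0 = fixA ε (c * z * c⁻¹) := by
          conv_lhs => rw [← mul_inv_cancel_left (c * z * c⁻¹) k0]
          exact L.fixA_mul hm
        have hFeq : F = fixA ε (c * z * c⁻¹) := Subgroup.eq_of_le_of_card_ge (hfix ▸ hFk)
          (by rw [L.card_fixA_conj hc, L.card_fixA_z]; exact hF27)
        have hE : ∀ m, Commute (c⁻¹ * u * c) (ε m) := fun m => by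
          have hm' : c * ε m * c⁻¹ ∈ fixA ε (c * z * c⁻¹) :=
            mem_fixA.2 ⟨(Subgroup.mem_normalizer_iff.1 hc _).1 (L.eps_bigA m),
              (L.cz m).map (MulAut.conj c).toMonoidHom⟩
          rw [← hFeq] at hm'
          have := (mem_fixA.1 hm'.1).2.map (MulAut.conj c⁻¹).toMonoidHom
          simp only [MulEquiv.coe_toMonoidHom, MulAut.conj_apply, inv_inv] at this
          rw [show c⁻¹ * (c * ε m * c⁻¹) * c = ε m by group] at this
          exact this.symm
        obtain ⟨a, ha, e' | e'⟩ := L.cent_E hE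
        · refine hnot ?_
          have := (Subgroup.mem_normalizer_iff.1 hc _).1 (e' ▸ ha)
          rwa [show c * (c⁻¹ * u * c) * c⁻¹ = u by group] at this
        · have h2 : u * u ∈ bigA ε := by
            have hza : a * z * (a * z) ∈ bigA ε := by
              rw [show a * z * (a * z) = a * (z * a * z⁻¹) * (z * z) by group, L.zsq, mul_one]
              exact mul_mem ha (L.conj_z_bigA ha)
            have := (Subgroup.mem_normalizer_iff.1 hc _).1 hza
            rw [← e', show c * (c⁻¹ * u * c * (c⁻¹ * u * c)) * c⁻¹ = u * u by group] at this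
            exact this
          refine hnot ?_
          have := mul_mem hu3 (inv_mem h2)
          rwa [show u ^ 3 * (u * u)⁻¹ = u by group] at this
      · exact e
      · exfalso
        have h243 := fix_mod_cases e (L.card_fixA_dvd k0) (hF27.trans (Subgroup.card_le_of_le hFk))
          (L.card_fixA_mod hk0 hk0A)
        have hA : fixA ε k0 = bigA ε :=
          Subgroup.eq_of_le_of_card_ge inf_le_left (by rw [h243, L.card_bigA])
        exact hk1 (L.cent_bigA fun a ha => (mem_fixA.1 (hA.symm ▸ ha)).2.symm)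
    have hne : Nat.card K ≠ 0 := Nat.card_pos.ne'
    refine IsPGroup.of_card (n := (Nat.card K).primeFactorsList.length) ?_
    exact Nat.eq_prime_pow_of_unique_prime_dvd hne fun hd hdvd => hprime _ hd hdvd
  obtain ⟨N, hNn, hN3, hubN⟩ := Involutions.BaerSuzuki.baer_suzuki_elem (p := 3)
    (IsPGroup.of_card (n := 1) (by rw [Nat.card_zpowers, ho]; norm_num)) hpair
  rcases hNn.eq_bot_or_eq_top with e | e
  · exact hub1 (Subgroup.mem_bot.1 (e ▸ hubN))
  · obtain ⟨j, hj⟩ := IsPGroup.iff_card.1 hN3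
    rw [e, Subgroup.card_top, hH] at hj
    have := Nat.prime_two.dvd_of_dvd_pow (show 2 ∣ 3 ^ j by rw [← hj]; norm_num)
    norm_num at this

/-- A three-cycle of the axes in `C(z) ∩ N(A)`. -/
theorem exists_cycle : ∃ c ∈ nz z ε, c ^ 3 ∈ bigA ε ∧ c ∉ bigA ε ∧ Nat.card (fixA ε c) < 27 := by
  classical
  obtain ⟨p, hpz, hp⟩ := L.perm12
  have hpN : p ∈ nz z ε := L.mem_nz.2 ⟨fun a => ⟨_, hp a⟩, hpz⟩
  have h0 : ∀ a, p * s * ε a * (p * s)⁻¹ = ε (tc a) := fun a => by
    rw [show p * s * ε a * (p * s)⁻¹ = p * (s * ε a * s⁻¹) * p⁻¹ by group, L.sconj, hp]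
    rfl
  have hm0 : p * s ∈ nz z ε := mul_mem hpN L.s_nz
  have hpow : ∀ m, (p * s) ^ 3 * ε m * ((p * s) ^ 3)⁻¹ = ε m := fun m => by
    rw [show (p * s) ^ 3 * ε m * ((p * s) ^ 3)⁻¹ =
      p * s * (p * s * (p * s * ε m * (p * s)⁻¹) * (p * s)⁻¹) * (p * s)⁻¹ by simp only [pow_succ, pow_zero, one_mul]; group, h0, h0, h0, tc_cube]
  have hc3 : ((p * s) ^ 2) ^ 3 ∈ bigA ε := by
    obtain ⟨a, ha, e | e⟩ := L.cent_E (c := (p * s) ^ 3) fun m => mul_inv_eq_iff_eq_mul.1 (hpow m)
    · rw [← pow_mul, show 2 * 3 = 3 * 2 from rfl, pow_mul, e]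
      exact pow_mem ha 2
    · rw [← pow_mul, show 2 * 3 = 3 * 2 from rfl, pow_mul, e, pow_two,
        show a * z * (a * z) = a * (z * a * z⁻¹) * (z * z) by group, L.zsq, mul_one]
      exact mul_mem ha (L.conj_z_bigA ha)
  set c := (p * s) ^ 2 with hc
  have hcN : c ∈ nz z ε := pow_mem hm0 2
  have hcz : Commute c z := (L.mem_nz.1 hcN).2
  have hce : ∀ a, c * ε a * c⁻¹ = ε (tc (tc a)) := fun a => by
    rw [hc, show (p * s) ^ 2 * ε a * ((p * s) ^ 2)⁻¹ = p * s * (p * s * ε a * (p * s)⁻¹) * (p * s)⁻¹ by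
      simp only [pow_succ, pow_zero, one_mul]; group,
      h0, h0]
  have hcA : c ∉ bigA ε := fun h => tc_af (L.inj _ _ (by
    rw [← hce]
    exact mul_inv_eq_iff_eq_mul.2 (L.bigA_comm c h _ (L.eps_bigA af)).eq))
  refine ⟨c, hcN, hc3, hcA, ?_⟩
  -- the fixed points are split by `z`
  set M := fixA ε c with hM
  set Em := bigA ε ⊓ Subgroup.centralizer ({z} : Set G) with hEm
  have hsplit : ∀ a ∈ bigA ε, a * (z * a * z⁻¹) ∈ Em := fun a ha => by
    refine ⟨mul_mem ha (L.conj_z_bigA ha), Subgroup.mem_centralizer_singleton_iff.2 ?_⟩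
    refine (mul_inv_eq_iff_eq_mul.1 ?_).symm
    rw [show z * (a * (z * a * z⁻¹)) * z⁻¹ = z * a * z⁻¹ * ((z * z) * a * (z * z)⁻¹) by group, L.zsq]
    simpa using (L.bigA_comm a ha _ (L.conj_z_bigA ha)).eq.symm
  let f : bigA ε →* Em :=
    { toFun := fun a => ⟨(a : G) * (z * a * z⁻¹), hsplit a a.2⟩
      map_one' := Subtype.ext (by simp)
      map_mul' := fun a b => Subtype.ext (by
        show (a : G) * b * (z * (a * b) * z⁻¹) = a * (z * a * z⁻¹) * (b * (z * b * z⁻¹))
        rw [show (a : G) * b * (z * (a * b) * z⁻¹) = a * (b * (z * a * z⁻¹)) * (z * b * z⁻¹) by group,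
          (L.bigA_comm _ b.2 _ (L.conj_z_bigA a.2)).eq]
        group) }
  have hfs : Function.Surjective f := fun ⟨e, he⟩ => by
    obtain ⟨m, rfl⟩ := (L.bigA_z he.1).1 (Subgroup.mem_centralizer_singleton_iff.1 he.2)
    refine ⟨⟨ε (-m), L.eps_bigA _⟩, Subtype.ext ?_⟩
    show ε (-m) * (z * ε (-m) * z⁻¹) = ε m
    rw [mul_inv_eq_iff_eq_mul.2 (L.cz (-m)).symm.eq, ← L.add]
    exact congrArg ε ((by decide +kernel : ∀ m : Tri, -m + -m = m) m)
  have hker9 : Nat.card f.ker = 9 := by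
    have h := Subgroup.card_eq_card_quotient_mul_card_subgroup f.ker
    rw [Nat.card_congr (QuotientGroup.quotientKerEquivOfSurjective f hfs).toEquiv, L.card_bigA,
      show Nat.card Em = 27 from L.card_cent_z] at h
    omega
  let g : M →* Em := f.comp (Subgroup.inclusion inf_le_left)
  have hgr : ∀ b : g.range, ∃ m, tc (tc m) = m ∧ ((b : Em) : G) = ε m := by
    rintro ⟨-, ⟨a, ha⟩, rfl⟩
    obtain ⟨haA, hac⟩ := mem_fixA.1 ha
    obtain ⟨m, hm⟩ := (L.bigA_z (hsplit a haA).1).1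
      (Subgroup.mem_centralizer_singleton_iff.1 (hsplit a haA).2)
    refine ⟨m, L.inj _ _ ?_, hm⟩
    rw [← hce, ← hm]
    refine mul_inv_eq_iff_eq_mul.2 (Commute.eq ?_)
    have h1 : Commute c (z * a * z⁻¹) := (hcz.mul_right hac.symm).mul_right hcz.inv_right
    exact hac.symm.mul_right h1
  have hr3 : Nat.card g.range ≤ 3 := by
    choose μ hμ1 hμ2 using hgr
    refine le_trans (Nat.card_le_card_of_injective
      (fun b => (⟨μ b, Finset.mem_filter.2 ⟨Finset.mem_univ _, hμ1 b⟩⟩ :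
        ↥(Finset.univ.filter fun a : Tri => tc (tc a) = a))) fun b b' e => ?_) ?_
    · refine Subtype.ext (Subtype.ext ?_)
      rw [hμ2 b, hμ2 b']
      exact congrArg (fun x => ε x.1) e
    · rw [Nat.card_eq_fintype_card, Fintype.card_coe]
      exact tc_fixed
  let j : g.ker → f.ker := fun a => ⟨Subgroup.inclusion inf_le_left a.1, a.2⟩
  have hj : Function.Injective j := fun a b e =>
    Subtype.ext (Subtype.ext (congrArg (fun x : f.ker => (x.1 : G)) e))
  have hjs : ¬ Function.Surjective j := fun hs => by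
    obtain ⟨m, hm⟩ := L.minus_faithful hcz (fun m => ⟨_, hce m⟩) fun a ha hinv => by
      obtain ⟨b, hb⟩ := hs ⟨⟨a, ha⟩, MonoidHom.mem_ker.2 (Subtype.ext (by
        show a * (z * a * z⁻¹) = 1
        rw [hinv, mul_inv_cancel]))⟩
      have hba : (b.1 : G) = a := congrArg (fun x : f.ker => (x.1 : G)) hb
      exact mul_inv_eq_iff_eq_mul.2 (hba ▸ (mem_fixA.1 b.1.2).2).symm.eq
    exact hcA (hm ▸ L.eps_bigA m)
  have hk9 : Nat.card g.ker < 9 := by
    rw [← hker9]
    refine lt_of_le_of_ne (Nat.card_le_card_of_injective j hj) fun e => hjs ?_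
    exact ((Nat.bijective_iff_injective_and_card j).2 ⟨hj, e⟩).2
  have h := Subgroup.card_eq_card_quotient_mul_card_subgroup g.ker
  rw [Nat.card_congr (QuotientGroup.quotientKerEquivRange g).toEquiv] at h
  rw [h]
  nlinarith

/-- `A` is the only abelian subgroup of order `243` in a Sylow `3`-subgroup of `N(A)`. -/
theorem unique_abelian {P B : Subgroup G} (hP : P ≤ nA ε) (hAP : bigA ε ≤ P) (hcP : Nat.card P = 3 ^ 7)
    (hB : B ≤ P) (hBc : ∀ a ∈ B, ∀ b ∈ B, Commute a b) (hcB : Nat.card B = 243) : B = bigA ε := by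
  classical
  obtain ⟨⟨hN, -⟩, -, hcard⟩ := L.iso_M11
  haveI := hN
  haveI : Fact (Nat.Prime 3) := ⟨Nat.prime_three⟩
  set π := QuotientGroup.mk' (bigA' ε) with hπ
  have hker : ∀ {c : nA ε}, π c = 1 ↔ (c : G) ∈ bigA ε := fun {c} => by
    rw [hπ, QuotientGroup.mk'_apply, QuotientGroup.eq_one_iff]
    rfl
  have hH : Nat.card (nA ε ⧸ bigA' ε) = 7920 := by
    have h := Subgroup.card_eq_card_quotient_mul_card_subgroup (bigA' ε)
    rw [hcard, Nat.card_congr (Subgroup.subgroupOfEquivOfLe (Subgroup.le_normalizer)).toEquiv,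
      L.card_bigA] at h
    omega
  let fP : P →* nA ε ⧸ bigA' ε := π.comp (Subgroup.inclusion hP)
  let fB : B →* nA ε ⧸ bigA' ε := fP.comp (Subgroup.inclusion hB)
  have hrange : fB.range ≤ fP.range := by
    rintro x ⟨b, rfl⟩
    exact ⟨Subgroup.inclusion hB b, rfl⟩
  have hcPr : Nat.card fP.range = 9 := by
    have h := Subgroup.card_eq_card_quotient_mul_card_subgroup fP.ker
    rw [Nat.card_congr (QuotientGroup.quotientKerEquivRange fP).toEquiv] at h
    have hk : Nat.card fP.ker = 243 := by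
      rw [← L.card_bigA]
      exact Nat.card_congr
        { toFun := fun a => ⟨a.1.1, hker.1 a.2⟩
          invFun := fun a => ⟨⟨a.1, hAP a.2⟩, (hker (c := ⟨a.1, hP (hAP a.2)⟩)).2 a.2⟩
          left_inv := fun a => rfl
          right_inv := fun a => rfl }
    rw [hk, hcP] at h
    omega
  have hkB : Nat.card fB.ker = Nat.card ↥(B ⊓ bigA ε) :=
    Nat.card_congr
      { toFun := fun a => ⟨a.1.1, a.1.2, hker.1 a.2⟩
        invFun := fun a => ⟨⟨a.1, a.2.1⟩, (hker (c := ⟨a.1, hP (hB a.2.1)⟩)).2 a.2.2⟩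
        left_inv := fun a => rfl
        right_inv := fun a => rfl }
  have hprod : 243 = Nat.card fB.range * Nat.card ↥(B ⊓ bigA ε) := by
    have h := Subgroup.card_eq_card_quotient_mul_card_subgroup fB.ker
    rwa [Nat.card_congr (QuotientGroup.quotientKerEquivRange fB).toEquiv, hkB, hcB] at h
  have hfix : ∀ u ∈ B, B ⊓ bigA ε ≤ fixA ε u := fun u hu b hb => mem_fixA.2 ⟨hb.2, hBc b hb.1 u hu⟩
  have hdvd : Nat.card fB.range ∣ 3 ^ 2 := by
    have := Subgroup.card_dvd_of_le hrange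
    rw [hcPr] at this
    simpa using this
  obtain ⟨j, hj, hjc⟩ := (Nat.dvd_prime_pow Nat.prime_three).1 hdvd
  by_contra hne
  have hnle : ¬ B ≤ bigA ε := fun h =>
    hne (Subgroup.eq_of_le_of_card_ge h (by rw [hcB, L.card_bigA]))
  obtain ⟨u, huB, huA⟩ := SetLike.not_le_iff_exists.1 hnle
  interval_cases j
  · exact hnle fun b hb => by
      have h1 : fB ⟨b, hb⟩ ∈ fB.range := ⟨_, rfl⟩
      rw [Subgroup.eq_bot_of_card_eq fB.range hjc, Subgroup.mem_bot] at h1
      exact hker.1 h1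
  · refine huA (L.three_fix (hP (hB huB)) ?_ ?_)
    · have h1 : ((⟨fB ⟨u, huB⟩, _, rfl⟩ : fB.range)) ^ 3 = 1 := by
        rw [show (3 : ℕ) = Nat.card fB.range by rw [hjc]; norm_num]
        exact pow_card_eq_one'
      have h2 : fB (⟨u, huB⟩ ^ 3) = 1 := by rw [map_pow]; exact congrArg Subtype.val h1
      exact hker.1 h2
    · refine le_trans ?_ (Subgroup.card_le_of_le (hfix u huB))
      rw [hjc] at hprod
      omega
  · obtain ⟨c, hcN, hc3, hcA, hclt⟩ := L.exists_cycle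
    set cb := π ⟨c, hcN.1⟩ with hcb
    have ho : orderOf cb = 3 := orderOf_eq_prime (by rw [hcb, ← map_pow, hker]; exact hc3)
      fun e => hcA (hker.1 e)
    have hBr : fB.range = fP.range := Subgroup.eq_of_le_of_card_ge hrange (by rw [hjc, hcPr]; norm_num)
    have hfac : 3 ^ (Nat.card (nA ε ⧸ bigA' ε)).factorization 3 = 9 := by
      rw [hH, show (7920 : ℕ) = 3 ^ 2 * 880 by norm_num, Nat.factorization_mul (by norm_num) (by norm_num),
        Finsupp.add_apply, Nat.prime_three.factorization_pow, Finsupp.single_eq_same,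
        Nat.factorization_eq_zero_of_not_dvd (by norm_num : ¬ 3 ∣ 880)]
      norm_num
    let T : Sylow 3 (nA ε ⧸ bigA' ε) := Sylow.ofCard fP.range (by rw [hcPr, hfac])
    obtain ⟨T', hT'⟩ := (IsPGroup.of_card (p := 3) (n := 1)
      (by rw [Nat.card_zpowers, ho]; norm_num) : IsPGroup 3 (Subgroup.zpowers cb)).exists_le_sylow
    obtain ⟨g, hg⟩ := MulAction.exists_smul_eq (nA ε ⧸ bigA' ε) T' T
    have hmem : g * cb * g⁻¹ ∈ fB.range := by
      rw [hBr]
      have h1 : MulAut.conj g • cb ∈ MulAut.conj g • (T' : Subgroup (nA ε ⧸ bigA' ε)) :=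
        Subgroup.smul_mem_pointwise_smul cb (MulAut.conj g) _ (hT' (Subgroup.mem_zpowers cb))
      rw [show MulAut.conj g • (T' : Subgroup (nA ε ⧸ bigA' ε)) = ((g • T' : Sylow 3 _) : Subgroup (nA ε ⧸ bigA' ε)) from
        (Sylow.coe_subgroup_smul).symm, hg] at h1
      exact h1
    obtain ⟨⟨h, hh⟩, rfl⟩ := QuotientGroup.mk'_surjective _ g
    obtain ⟨⟨b, hb⟩, hb'⟩ := hmem
    have hA : (h * c * h⁻¹)⁻¹ * b ∈ bigA ε := by
      have h1 : π ((⟨h, hh⟩ * ⟨c, hcN.1⟩ * ⟨h, hh⟩⁻¹)⁻¹ * ⟨b, hP (hB hb)⟩) = 1 := by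
        rw [map_mul, map_inv, map_mul, map_mul, map_inv, ← hcb]
        rw [show π ⟨b, hP (hB hb)⟩ = π ⟨h, hh⟩ * cb * (π ⟨h, hh⟩)⁻¹ from hb', inv_mul_cancel]
      exact hker.1 h1
    have hfe : fixA ε b = fixA ε (h * c * h⁻¹) := by
      conv_lhs => rw [← mul_inv_cancel_left (h * c * h⁻¹) b]
      exact L.fixA_mul hA
    have h27 := Subgroup.card_le_of_le (hfix b hb)
    rw [hfe, L.card_fixA_conj hh] at h27
    rw [hjc] at hprod
    omega

/-- A subgroup of order `3 ^ 7` of `N(A)` containing `A` is a Sylow `3`-subgroup of `G`. -/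
theorem sylow_index {P : Subgroup G} (hP : P ≤ nA ε) (hAP : bigA ε ≤ P) (hcP : Nat.card P = 3 ^ 7) :
    ¬ 3 ∣ P.index := by
  classical
  obtain ⟨-, -, hcard⟩ := L.iso_M11
  haveI : Fact (Nat.Prime 3) := ⟨Nat.prime_three⟩
  have hPp : IsPGroup 3 P := IsPGroup.of_card hcP
  obtain ⟨R, hPR⟩ := hPp.exists_le_sylow
  have hRP : (R : Subgroup G) ≤ P := by
    by_contra hne
    set P' := P.subgroupOf (R : Subgroup G)
    have hlt : P' < ⊤ := lt_top_iff_ne_top.2 fun e => hne (Subgroup.subgroupOf_eq_top.1 e)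
    have hRn : Group.IsNilpotent (R : Subgroup G) := R.2.isNilpotent
    have hnc := Group.normalizerCondition_of_isNilpotent (G := (R : Subgroup G)) P' hlt
    obtain ⟨⟨x, hxR⟩, hxN, hxP⟩ := SetLike.exists_of_lt hnc
    have hnorm : ∀ y ∈ P, x * y * x⁻¹ ∈ P := fun y hy =>
      ((Subgroup.mem_normalizer_iff.1 hxN) (⟨y, hPR hy⟩ : (R : Subgroup G))).1 hy
    have hxA : x ∈ nA ε := by
      have hBeq : (bigA ε).map (MulAut.conj x).toMonoidHom = bigA ε := by
        refine L.unique_abelian hP hAP hcP ?_ ?_ ?_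
        · rintro y ⟨a, ha, rfl⟩
          exact hnorm a (hAP ha)
        · rintro y ⟨a, ha, rfl⟩ y' ⟨a', ha', rfl⟩
          exact (L.bigA_comm a ha a' ha').map (MulAut.conj x).toMonoidHom
        · rw [Subgroup.card_map_of_injective (MulAut.conj x).injective, L.card_bigA]
      refine Subgroup.mem_normalizer_iff.2 fun a => ?_
      conv_rhs => rw [← hBeq]
      exact (Subgroup.mem_map_iff_mem (MulAut.conj x).injective).symm
    set U := P ⊔ Subgroup.zpowers x with hU
    have hUR : U ≤ (R : Subgroup G) := sup_le hPR (Subgroup.zpowers_le.2 hxR)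
    have hUn : U ≤ nA ε := sup_le hP (Subgroup.zpowers_le.2 hxA)
    obtain ⟨k, hk⟩ := IsPGroup.iff_card.1 (R.2.to_le hUR)
    have hd := Subgroup.card_dvd_of_le hUn
    rw [hk, hcard] at hd
    have hk7 : k ≤ 7 := by
      by_contra h8
      have : 3 ^ 8 ∣ 243 * 7920 := (pow_dvd_pow 3 (by omega)).trans hd
      norm_num at this
    have hUP : U = P := (Subgroup.eq_of_le_of_card_ge le_sup_left (by
      rw [hk, hcP]; exact Nat.pow_le_pow_right (by norm_num) hk7)).symm
    exact hxP (show x ∈ P from hUP ▸ Subgroup.mem_sup_right (Subgroup.mem_zpowers x))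
  rw [show P = (R : Subgroup G) from le_antisymm hPR hRP]
  exact R.not_dvd_index

end Loc

end Cfsg.Agent.Lib.SuzM11H6
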